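import Groth.Agent.S1495
import Groth.Agent.S2332
import Groth.Agent.S4381
import Groth.Agent.S4380
import Groth.Agent.S1152
import Groth.Agent.Models2.AmplePull
import Groth.Agent.Desc.AmpleDesc
import Groth.Agent.EGA2.K30.AmpleLoc

/-!
# Relative ampleness over a proper morphism, tested on (geometric) fibres
-/

set_option autoImplicit false
universe u
open CategoryTheory CategoryTheory.Limits AlgebraicGeometry TopologicalSpace

namespace K900.RelAmp

open Groth.Agent Groth.Agent.Models2.AmplePull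

/-- Relative ampleness pulls back to ampleness over affine schemes. -/
theorem isAmple_of_isRelAmple {X S X' Z : Scheme.{u}} {f : X ⟶ S} {L : X.Modules}
    (hL : RelAmple.IsRelAmple f L) [IsAffine Z] {t : Z ⟶ S} {i : X' ⟶ X} {q : X' ⟶ Z}
    (sq : IsPullback i q f t) : CohB1.IsAmple ((Scheme.Modules.pullback i).obj L) := by
  have hq := hL.1
  have h1 := S2332.result f t L hL
  have h2 := (S4381.result _ _).1 h1
  have he : sq.isoPullback.hom ≫ pullback.fst f t = i := sq.isoPullback_hom_fst
  rw [← isAmple_pullback_congr he, isAmple_pullback_iff_of_isIso]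
  exact h2

/-- Ampleness over a field descends along field extensions. -/
theorem isAmple_of_ext {X X' : Scheme.{u}} {k K : Type u} [Field k] [Field K] (φ : k →+* K)
    {f : X ⟶ Spec (CommRingCat.of k)} {i : X' ⟶ X} {q : X' ⟶ Spec (CommRingCat.of K)}
    [QuasiCompact f]
    (sq : IsPullback i q f (Spec.map (CommRingCat.ofHom φ))) {L : X.Modules} (hL : PicF.IsInvertible L)
    (h : CohB1.IsAmple ((Scheme.Modules.pullback i).obj L)) : CohB1.IsAmple L := by
  have h1 : Flat (Spec.map (CommRingCat.ofHom φ)) := by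
    rw [Flat.SpecMap_iff]
    algebraize [φ]
    exact inferInstanceAs (Module.Flat k K)
  have h2 : Surjective (Spec.map (CommRingCat.ofHom φ)) := by
    constructor
    intro x
    refine ⟨IsLocalRing.closedPoint K, ?_⟩
    exact Subsingleton.elim _ _
  have h3 : RelAmple.IsRelAmple (pullback.snd f (Spec.map (CommRingCat.ofHom φ)))
      ((Scheme.Modules.pullback (pullback.fst f (Spec.map (CommRingCat.ofHom φ)))).obj L) := by
    rw [S4381.result]
    have he : sq.isoPullback.inv ≫ i = pullback.fst f (Spec.map (CommRingCat.ofHom φ)) :=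
      sq.isoPullback_inv_fst
    rw [← isAmple_pullback_congr he, isAmple_pullback_iff_of_isIso]
    exact h
  exact (S4381.result f L).1 (S1152.result f L hL _ h3)

/-- The fibre over a point of a morphism, over the residue field. -/
theorem isPullback_fiber {X S : Scheme.{u}} (f : X ⟶ S) (s : S) :
    IsPullback (f.fiberι s) (f.fiberToSpecResidueField s) f (S.fromSpecResidueField s) :=
  IsPullback.of_hasPullback _ _

/-- Ampleness on a fibre from ampleness on a geometric fibre. -/
theorem isAmple_fiber_of_geom {X S : Scheme.{u}} (f : X ⟶ S) [IsProper f] {L : X.Modules}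
    (hL : PicF.IsInvertible L) (s : S)
    (h : ∀ (Ω : Type u) [Field Ω] [IsAlgClosed Ω] (t : Spec (CommRingCat.of Ω) ⟶ S) (X' : Scheme.{u})
      (i : X' ⟶ X) (q : X' ⟶ Spec (CommRingCat.of Ω)), IsPullback i q f t →
        CohB1.IsAmple ((Scheme.Modules.pullback i).obj L)) :
    CohB1.IsAmple ((Scheme.Modules.pullback (f.fiberι s)).obj L) := by
  let k := S.residueField s
  let Ω := AlgebraicClosure (S.residueField s)
  let φ : S.residueField s →+* Ω := algebraMap _ _
  let X' := pullback (f.fiberToSpecResidueField s) (Spec.map (CommRingCat.ofHom φ))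
  have sq1 : IsPullback (pullback.fst (f.fiberToSpecResidueField s) (Spec.map (CommRingCat.ofHom φ)))
    (pullback.snd (f.fiberToSpecResidueField s) (Spec.map (CommRingCat.ofHom φ)))
    (f.fiberToSpecResidueField s) (Spec.map (CommRingCat.ofHom φ)) := IsPullback.of_hasPullback _ _
  have sq2 := sq1.paste_horiz (isPullback_fiber f s)
  have h1 := h Ω _ _ _ _ sq2
  have h2 := (isAmple_pullback_comp _ _ L).1 h1
  exact isAmple_of_ext φ sq1 (isInvertible_pullback _ hL) h2

/-- **Relative ampleness is tested on geometric fibres.** -/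
theorem isRelAmple_iff_geom {X S : Scheme.{u}} (f : X ⟶ S) [IsProper f] {L : X.Modules}
    (hL : PicF.IsInvertible L) :
    RelAmple.IsRelAmple f L ↔
      ∀ (Ω : Type u) [Field Ω] [IsAlgClosed Ω] (t : Spec (CommRingCat.of Ω) ⟶ S) (X' : Scheme.{u})
      (i : X' ⟶ X) (q : X' ⟶ Spec (CommRingCat.of Ω)), IsPullback i q f t →
        CohB1.IsAmple ((Scheme.Modules.pullback i).obj L) := by
  refine ⟨fun h Ω _ _ t X' i q sq => isAmple_of_isRelAmple h sq, fun h => ?_⟩
  choose V hV hA using fun s => S1495.result f L hL s (isAmple_fiber_of_geom f hL s h)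
  refine (K30.AmpleLoc.isRelAmple_iff_of_iSup_eq_top f L V ?_).2 hA
  rw [eq_top_iff]
  intro s _
  exact TopologicalSpace.Opens.mem_iSup.2 ⟨s, hV s⟩

/-- Restriction of an ample module to an open of the base. -/
theorem isAmple_mono {X S : Scheme.{u}} (f : X ⟶ S) [QuasiCompact f] {L : X.Modules} {U W : S.Opens}
    (h : CohB1.IsAmple (L.restrict (f ⁻¹ᵁ U).ι)) (hWU : W ≤ U) (hW : IsAffineOpen W) :
    CohB1.IsAmple (L.restrict (f ⁻¹ᵁ W).ι) := by
  rw [Ega2.Ample.isAmple_restrict_ι_iff] at h ⊢
  exact h.mono (fun x hx => hWU hx) (f.isCompact_preimage hW.isCompact)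

/-- Ampleness over an affine open restricts to the fibres. -/
theorem isAmple_fiber_of_restrict {X S : Scheme.{u}} (f : X ⟶ S) {L : X.Modules} (s : S) (W : S.Opens)
    (hW : IsAffineOpen W) (hsW : s ∈ W) (hA' : CohB1.IsAmple (L.restrict (f ⁻¹ᵁ W).ι)) :
    CohB1.IsAmple ((Scheme.Modules.pullback (f.fiberι s)).obj L) := by
  have : IsAffine (W : Scheme.{u}) := hW
  have h0 : Set.range (S.fromSpecResidueField s) ⊆ Set.range W.ι := by
    rw [Scheme.range_fromSpecResidueField, Scheme.Opens.range_ι]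
    exact Set.singleton_subset_iff.2 hsW
  let t : Spec (S.residueField s) ⟶ (W : Scheme.{u}) := IsOpenImmersion.lift W.ι (S.fromSpecResidueField s) h0
  have ht : t ≫ W.ι = S.fromSpecResidueField s := IsOpenImmersion.lift_fac _ _ _
  have sqW : IsPullback (f ⁻¹ᵁ W).ι (f ∣_ W) f W.ι := (isPullback_morphismRestrict f W).flip
  have hw : f.fiberι s ≫ f = (f.fiberToSpecResidueField s ≫ t) ≫ W.ι := by
    rw [Category.assoc, ht]
    exact (isPullback_fiber f s).w
  let j : f.fiber s ⟶ (f ⁻¹ᵁ W : X.Opens) := sqW.lift (f.fiberι s) (f.fiberToSpecResidueField s ≫ t) hw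
  have hj : j ≫ (f ⁻¹ᵁ W).ι = f.fiberι s := sqW.lift_fst _ _ _
  have hj' : j ≫ (f ∣_ W) = f.fiberToSpecResidueField s ≫ t := sqW.lift_snd _ _ _
  have hjsq : IsPullback j (f.fiberToSpecResidueField s) (f ∣_ W) t := by
    refine IsPullback.of_right ?_ hj' sqW
    rw [hj, ht]
    exact isPullback_fiber f s
  have h3 : IsAffineHom t := inferInstance
  have h4 : IsAffineHom j := MorphismProperty.of_isPullback hjsq.flip h3
  have h5 := isAmple_pullback j hA'
  have h6 := isAmple_of_iso ((Scheme.Modules.pullback j).mapIso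
    ((Scheme.Modules.restrictFunctorIsoPullback (f ⁻¹ᵁ W).ι).app L)) h5
  rw [← isAmple_pullback_congr hj]
  exact (isAmple_pullback_comp _ _ L).2 h6

/-- Ampleness near a fibre of a proper morphism is ampleness of the fibre. -/
theorem isAmple_fiber_iff {X S : Scheme.{u}} (f : X ⟶ S) [IsProper f] {L : X.Modules}
    (hL : PicF.IsInvertible L) (s : S) :
    (∃ U : S.Opens, s ∈ U ∧ CohB1.IsAmple (L.restrict (f ⁻¹ᵁ U).ι)) ↔
      CohB1.IsAmple ((Scheme.Modules.pullback (f.fiberι s)).obj L) := by
  constructor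
  · rintro ⟨U, hs, hA⟩
    obtain ⟨_, ⟨W, hW, rfl⟩, hsW, hWU⟩ := S.isBasis_affineOpens.exists_subset_of_mem_open
      (show s ∈ (U : Set S) from hs) U.2
    exact isAmple_fiber_of_restrict f s W hW hsW (isAmple_mono f hA hWU hW)
  · intro h
    obtain ⟨V, hV, hA⟩ := S1495.result f L hL s h
    obtain ⟨_, ⟨W, hW, rfl⟩, hsW, hWV⟩ := S.isBasis_affineOpens.exists_subset_of_mem_open
      (show s ∈ (V : Set S) from hV) V.2
    have hinf : V ⊓ W = W := inf_eq_right.2 (show W ≤ V from hWV)
    refine ⟨W, hsW, ?_⟩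
    have hW' : IsAffineOpen (V.ι ⁻¹ᵁ W) := by
      rw [← V.ι.isAffineOpen_iff_of_isOpenImmersion]
      rw [Scheme.Hom.image_preimage_eq_opensRange_inf, Scheme.Opens.opensRange_ι, hinf]
      exact hW
    have h1 := (Ega2.RelAmp.isRelAmple_iff.1 hA).2 ⟨V.ι ⁻¹ᵁ W, hW'⟩
    rw [K30.AmpleLoc.ampleOn_restrict_iff, image_morphismRestrict_preimage] at h1
    rw [Ega2.Ample.isAmple_restrict_ι_iff]
    rw [Scheme.Hom.image_preimage_eq_opensRange_inf, Scheme.Opens.opensRange_ι, hinf] at h1
    exact h1

end K900.RelAmp
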