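import Groth.Agent.Dcoh.MonCat
import Groth.Agent.CurvesC.DualCount
import Groth.Agent.Ega2.TensGen
import Groth.Agent.Grpsch.PicGrp
import Groth.Agent.Ega2.QCohLocal

/-!
# Twisted duality on a curve

If `(w, t)` is a dualizing pair and `α : N ⊗ M ≅ w` with `N` invertible, then
`φ ↦ t ∘ H¹(N ◁ φ ≫ α)` is a bijection `Hom(F, M) ≃ H¹(X, N ⊗ F)^*` for `F` quasi-coherent.
-/

set_option autoImplicit false
universe v u

open CategoryTheory TopologicalSpace Opposite CategoryTheory.Limits AlgebraicGeometry MonoidalCategory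

namespace K900.Twist

/-- Tensoring with an invertible object is an equivalence. -/
theorem isEquivalence_tensorLeft {C : Type u} [Category.{v} C] [MonoidalCategory C] [BraidedCategory C]
    {N N' : C} (e : N ⊗ N' ≅ 𝟙_ C) : (tensorLeft N).IsEquivalence := by
  have h1 : tensorLeft N' ⋙ tensorLeft N ≅ 𝟭 C :=
    (tensorLeftTensor N N').symm ≪≫ (curriedTensor C).mapIso e ≪≫ leftUnitorNatIso C
  have h2 : tensorLeft N ⋙ tensorLeft N' ≅ 𝟭 C :=
    (tensorLeftTensor N' N).symm ≪≫ (curriedTensor C).mapIso (β_ N' N ≪≫ e) ≪≫ leftUnitorNatIso C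
  exact (CategoryTheory.Equivalence.mk (tensorLeft N) (tensorLeft N') h2.symm h1).isEquivalence_functor

open scoped Groth.Agent.Dcoh.MonCat
open Groth.Agent.CohqB.HSeqMod Groth.Agent.CurvesC.DualCount

variable {X : Scheme.{u}}

theorem isEquivalence_tensorLeft_of_isInvertible {N : X.Modules} (hN : PicF.IsInvertible N) :
    (tensorLeft N : X.Modules ⥤ X.Modules).IsEquivalence := by
  obtain ⟨N', -, ⟨e⟩⟩ := Groth.Agent.Grpsch.PicGrp.exists_inverse hN
  exact isEquivalence_tensorLeft (C := X.Modules) (N := N) (N' := N') e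

theorem isQCoh_tensor {N F : X.Modules} (hN : PicF.IsInvertible N) (hF : Coh.IsQCoh F) :
    Coh.IsQCoh (N ⊗ F) := by
  have h : Coh.IsQCoh (F ⊗ N) := Groth.Agent.Ega2.TensGen.isQCoh_tensor hF hN
  exact Groth.Agent.Ega2.QCohLocal.isQCoh_of_iso (β_ F N) h

theorem existsUnique (k : Type u) [Field k] [X.Over (Spec (CommRingCat.of k))] {N M w : X.Modules}
    (hN : PicF.IsInvertible N) (α : N ⊗ M ≅ w) {t : Coh.HH X w 1 →ₗ[k] k} (ht : IsPair k t)
    {F : X.Modules} (hF : Coh.IsQCoh F) (ψ : Coh.HH X (N ⊗ F) 1 →ₗ[k] k) :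
    ∃! φ : F ⟶ M, ∀ x : Coh.HH X (N ⊗ F) 1, ψ x = t (hmap (N ◁ φ ≫ α.hom) 1 x) := by
  have := isEquivalence_tensorLeft_of_isInvertible hN
  obtain ⟨φ₀, h₀, hu⟩ := ht (N ⊗ F) (isQCoh_tensor hN hF) ψ
  obtain ⟨φ, hφ⟩ := (tensorLeft N).map_surjective (φ₀ ≫ α.inv)
  have hφ' : N ◁ φ = φ₀ ≫ α.inv := hφ
  refine ⟨φ, fun x => ?_, fun φ' h' => ?_⟩
  · rw [hφ', Category.assoc, α.inv_hom_id, Category.comp_id]
    exact h₀ x
  · apply (tensorLeft N).map_injective
    change N ◁ φ' = N ◁ φ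
    rw [hφ', ← hu (N ◁ φ' ≫ α.hom) h', Category.assoc, α.hom_inv_id, Category.comp_id]

end K900.Twist
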