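import Groth.Agent.CurvSt.K900.Acyc
import Groth.Agent.Ega3B.RpushAff

/-!
# Local vanishing from the vanishing of `R¹`
-/

set_option autoImplicit false
universe u

open CategoryTheory TopologicalSpace Opposite CategoryTheory.Limits AlgebraicGeometry

namespace K900.Acyc

variable {X Y : Scheme.{u}} (c : X ⟶ Y)

theorem locVan_of_isZero [NoetherianSpace X] (hdim : topologicalKrullDim X ≤ 1) [QuasiCompact c]
    [QuasiSeparated c] [HasInjectiveResolutions X.Modules] {N : X.Modules} (hN : Coh.IsQCoh N)
    (h : IsZero ((Coh.Rpush c 1).obj N)) : LocVan c N :=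
  locVan_of_one c hdim fun V hV => Groth.Agent.Ega3B.RpushAff.subsingleton_HHon_of_isZero c N hN hV 1 h

end K900.Acyc
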