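import Groth.Agent.CurvSt.K900.Comp0

/-!
# The combinatorial argument for uniqueness of contractions

Topology of a map with connected fibres from a curve; numerical argument.
-/

set_option autoImplicit false
universe u

open CategoryTheory TopologicalSpace Opposite CategoryTheory.Limits AlgebraicGeometry

namespace K900.TopArg

open K900.Comp

variable {X : Scheme.{u}}

/-- A point of a scheme of dimension at most one is closed or the generic point of a component. -/
theorem closed_or_gp (hdim : topologicalKrullDim X ≤ 1) (x : X) :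
    IsClosed ({x} : Set X) ∨ ∃ C : irreducibleComponents (X : Type u), C.2.1.genericPoint = x := by
  by_contra hcon
  push Not at hcon
  obtain ⟨h1, h2⟩ := hcon
  -- a point `y` in the closure of `x`, different from `x`
  have hy : ∃ y ∈ closure ({x} : Set X), y ≠ x := by
    by_contra h
    push Not at h
    apply h1
    have : closure ({x} : Set X) = {x} := Set.Subset.antisymm h subset_closure
    rw [← this]
    exact isClosed_closure
  obtain ⟨y, hy, hyx⟩ := hy
  obtain ⟨Z, hZ, hxZ⟩ := exists_mem_irreducibleComponents_subset_of_isIrreducible (closure ({x} : Set X))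
    isIrreducible_singleton.closure
  let a : IrreducibleCloseds X := ⟨closure {y}, isIrreducible_singleton.closure, isClosed_closure⟩
  let b : IrreducibleCloseds X := ⟨closure {x}, isIrreducible_singleton.closure, isClosed_closure⟩
  let c : IrreducibleCloseds X := ⟨Z, hZ.1, isClosed_of_mem_irreducibleComponents Z hZ⟩
  have hab : a < b := by
    refine lt_of_le_of_ne (closure_minimal (Set.singleton_subset_iff.mpr hy) isClosed_closure) fun h => hyx ?_
    have h1 : closure {y} = closure ({x} : Set X) := congrArg IrreducibleCloseds.carrier h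
    exact (inseparable_iff_closure_eq.mpr h1).eq
  have hbc : b < c := by
    refine lt_of_le_of_ne hxZ fun h => ?_
    have h3 : closure {x} = Z := congrArg IrreducibleCloseds.carrier h
    refine h2 ⟨Z, hZ⟩ ?_
    have h4 : closure {(⟨Z, hZ⟩ : irreducibleComponents (X : Type u)).2.1.genericPoint} = closure ({x} : Set X) := by
      rw [closure_gp, h3]
    exact (inseparable_iff_closure_eq.mpr h4).eq
  let s : LTSeries (IrreducibleCloseds X) :=
    { length := 2
      toFun := ![a, b, c]
      step := by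
        intro i
        fin_cases i
        · exact hab
        · exact hbc }
  have h2 : ((2 : ℕ) : WithBot ℕ∞) ≤ topologicalKrullDim X := Order.LTSeries.length_le_krullDim s
  have h3 : ((2 : ℕ) : WithBot ℕ∞) ≤ ((1 : ℕ) : WithBot ℕ∞) := h2.trans hdim
  exact absurd (by exact_mod_cast h3 : (2 : ℕ) ≤ 1) (by decide)

/-- `C` is contracted to a point. -/
def Ctr {Y : Scheme.{u}} (c : X ⟶ Y) (C : irreducibleComponents (X : Type u)) : Prop :=
  ∀ x ∈ C.1, c.base x = c.base C.2.1.genericPoint

section Fib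

variable {Y : Scheme.{u}} (c : X ⟶ Y) [NoetherianSpace X] (hdim : topologicalKrullDim X ≤ 1)
  (hcl : IsClosedMap c.base) (hconn : ∀ y : Y, _root_.IsPreconnected (c.base ⁻¹' {y}))

/-- A preconnected finite set with closed (relative) points is a subsingleton. -/
theorem subsingleton_of_finite {T : Type*} [TopologicalSpace T] {F : Set T} (hF : _root_.IsPreconnected F)
    (hfin : F.Finite) (h1 : ∀ z ∈ F, ∃ Z : Set T, IsClosed Z ∧ Z ∩ F = {z}) : F.Subsingleton := by
  intro x hx y hy
  by_contra hne
  obtain ⟨Z, hZ, hZF⟩ := h1 x hx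
  have h2 : ∀ z ∈ F \ {x}, ∃ Z : Set T, IsClosed Z ∧ Z ∩ F = {z} := fun z hz => h1 z hz.1
  choose! Z' hZ' hZF' using h2
  have hcl' : IsClosed (⋃ z ∈ F \ {x}, Z' z) :=
    (hfin.subset Set.sdiff_subset).isClosed_biUnion fun z hz => hZ' z hz
  have hcov : F ⊆ Z ∪ ⋃ z ∈ F \ {x}, Z' z := by
    intro z hz
    by_cases hzx : z = x
    · left
      have : z ∈ Z ∩ F := by rw [hZF]; exact hzx
      exact this.1
    · right
      have h3 : z ∈ F \ {x} := ⟨hz, hzx⟩
      refine Set.mem_biUnion h3 ?_
      have : z ∈ Z' z ∩ F := by rw [hZF' z h3]; rfl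
      exact this.1
  obtain ⟨z, hzF, hz1, hz2⟩ := isPreconnected_closed_iff.mp hF Z _ hZ hcl' hcov
    ⟨x, hx, by
      have : x ∈ Z ∩ F := by rw [hZF]; rfl
      exact this.1⟩
    ⟨y, hy, by
      have h3 : y ∈ F \ {x} := ⟨hy, fun h => hne h.symm⟩
      refine Set.mem_biUnion h3 ?_
      have : y ∈ Z' y ∩ F := by rw [hZF' y h3]; rfl
      exact this.1⟩
  have h4 : z = x := by
    have : z ∈ Z ∩ F := ⟨hz1, hzF⟩
    rw [hZF] at this
    exact this
  obtain ⟨w, hw, hzw⟩ := Set.mem_iUnion₂.mp hz2
  have h5 : z = w := by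
    have : z ∈ Z' w ∩ F := ⟨hzw, hzF⟩
    rw [hZF' w hw] at this
    exact this
  exact hw.2 (h5 ▸ h4)

include hdim hcl hconn in
/-- The fibre over a point which is not closed is a single generic point. -/
theorem subsingleton_fibre {y : Y} (hy : ¬ IsClosed ({y} : Set Y)) : (c.base ⁻¹' {y}).Subsingleton := by
  have hfin : Finite (irreducibleComponents (X : Type u)) :=
    TopologicalSpace.NoetherianSpace.finite_irreducibleComponents
  have hgp : ∀ z ∈ c.base ⁻¹' {y}, ∃ C : irreducibleComponents (X : Type u), C.2.1.genericPoint = z := by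
    intro z hz
    rcases closed_or_gp hdim z with h | h
    · exfalso
      apply hy
      have := hcl _ h
      rwa [Set.image_singleton, show c.base z = y from hz] at this
    · exact h
  refine subsingleton_of_finite (hconn y) ?_ ?_
  · refine (Set.finite_range fun C : irreducibleComponents (X : Type u) => C.2.1.genericPoint).subset ?_
    intro z hz
    obtain ⟨C, hC⟩ := hgp z hz
    exact ⟨C, hC⟩
  · intro z hz
    obtain ⟨C, rfl⟩ := hgp z hz
    refine ⟨C.1, isClosed_of_mem_irreducibleComponents C.1 C.2, ?_⟩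
    ext w
    constructor
    · rintro ⟨hwC, hw⟩
      obtain ⟨D, rfl⟩ := hgp w hw
      rw [gp_mem_comp_iff] at hwC
      rw [hwC]
      rfl
    · rintro rfl
      exact ⟨gp_mem C, hz⟩

include hdim hcl hconn in
/-- If `C` is not contracted, some open neighbourhood of the image of its generic point has inverse image
contained in `C` and disjoint from all other components. -/
theorem exists_nhds (C : irreducibleComponents (X : Type u)) (hC : ¬ Ctr c C) :
    ∃ V : Y.Opens, c.base C.2.1.genericPoint ∈ V ∧ ∀ x : X, c.base x ∈ V →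
      ∀ D : irreducibleComponents (X : Type u), x ∈ D.1 → D = C := by
  have hy : ¬ IsClosed ({c.base C.2.1.genericPoint} : Set Y) := by
    intro h
    apply hC
    intro x hx
    have h1 : C.1 ⊆ c.base ⁻¹' {c.base C.2.1.genericPoint} :=
      subset_of_gp_mem (h.preimage c.continuous) rfl
    exact h1 hx
  have hs := subsingleton_fibre c hdim hcl hconn hy
  have hclosed : IsClosed (c.base '' un {D | D ≠ C}) := hcl _ (isClosed_un _)
  refine ⟨⟨(c.base '' un {D | D ≠ C})ᶜ, hclosed.isOpen_compl⟩, ?_, ?_⟩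
  · rintro ⟨x, hx, hxy⟩
    obtain ⟨D, hD, hxD⟩ := mem_un.mp hx
    have h1 : x = C.2.1.genericPoint := hs hxy rfl
    rw [h1, gp_mem_comp_iff] at hxD
    exact hD hxD.symm
  · intro x hx D hxD
    by_contra hne
    exact hx ⟨x, mem_un.mpr ⟨D, hne, hxD⟩, rfl⟩

include hdim in
/-- A closed set containing no component is finite and consists of closed points. -/
theorem finite_inter (D : irreducibleComponents (X : Type u)) {F : Set X} (hF : IsClosed F)
    (hD : ¬ D.1 ⊆ F) : (F ∩ D.1).Finite ∧ ∀ x ∈ F ∩ D.1, IsClosed ({x} : Set X) := by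
  have hDc := isClosed_of_mem_irreducibleComponents D.1 D.2
  -- all points of `F ∩ D` are closed
  have hpt : ∀ x ∈ F ∩ D.1, IsClosed ({x} : Set X) := by
    rintro x ⟨hxF, hxD⟩
    rcases closed_or_gp hdim x with h | ⟨C, rfl⟩
    · exact h
    · exfalso
      rw [gp_mem_comp_iff] at hxD
      subst hxD
      exact hD (subset_of_gp_mem hF hxF)
  refine ⟨?_, hpt⟩
  have hcl2 : IsClosed (F ∩ D.1) := hF.inter hDc
  obtain ⟨S, hSfin, hScl, hSirr, hS⟩ :=
    TopologicalSpace.NoetherianSpace.exists_finite_set_isClosed_irreducible hcl2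
  rw [hS]
  refine Set.Finite.sUnion hSfin fun Z hZ => ?_
  have h1 := hSirr Z hZ
  have h2 := h1.genericPoint_closure_eq
  rw [(hScl Z hZ).closure_eq] at h2
  have h3 : h1.genericPoint ∈ F ∩ D.1 := by
    rw [hS]
    exact Set.mem_sUnion_of_mem (h2.le (subset_closure rfl)) hZ
  rw [← h2, (hpt _ h3).closure_eq]
  exact Set.finite_singleton _

include hdim hcl hconn in
/-- A fibre with at least two points is a union of contracted components, over a closed point. -/
theorem fibre_eq_un {y : Y} (hns : ¬ (c.base ⁻¹' {y}).Subsingleton) :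
    IsClosed ({y} : Set Y) ∧
      c.base ⁻¹' {y} = un {C : irreducibleComponents (X : Type u) | C.1 ⊆ c.base ⁻¹' {y}} := by
  have hfinC : Finite (irreducibleComponents (X : Type u)) :=
    TopologicalSpace.NoetherianSpace.finite_irreducibleComponents
  have hy : IsClosed ({y} : Set Y) := by
    by_contra h
    exact hns (subsingleton_fibre c hdim hcl hconn h)
  refine ⟨hy, ?_⟩
  set F := c.base ⁻¹' {y} with hFdef
  have hF : IsClosed F := hy.preimage c.continuous
  set 𝓕 := {C : irreducibleComponents (X : Type u) | C.1 ⊆ F} with h𝓕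
  refine Set.Subset.antisymm ?_ ?_
  swap
  · intro x hx
    obtain ⟨C, hC, hxC⟩ := mem_un.mp hx
    exact hC hxC
  by_contra hcon
  set Z : Set X := F \ un 𝓕 with hZdef
  have hZsub : Z ⊆ ⋃ D ∈ 𝓕ᶜ, F ∩ D.1 := by
    rintro x ⟨hxF, hx⟩
    obtain ⟨D, hD, hxD⟩ := exists_mem_irreducibleComponents_subset_of_isIrreducible (closure ({x} : Set X))
      isIrreducible_singleton.closure
    refine Set.mem_biUnion (x := (⟨D, hD⟩ : irreducibleComponents (X : Type u))) ?_
      ⟨hxF, hxD (subset_closure rfl)⟩
    intro h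
    exact hx (mem_un.mpr ⟨⟨D, hD⟩, h, hxD (subset_closure rfl)⟩)
  have hZfin : Z.Finite := by
    refine Set.Finite.subset ?_ hZsub
    exact (Set.toFinite _).biUnion fun D hD => (finite_inter hdim D hF hD).1
  have hZpt : ∀ x ∈ Z, IsClosed ({x} : Set X) := by
    intro x hx
    obtain ⟨D, hD, hxD⟩ := Set.mem_iUnion₂.mp (hZsub hx)
    exact (finite_inter hdim D hF hD).2 x hxD
  have hZcl : IsClosed Z := by
    rw [← Set.biUnion_of_singleton Z]
    exact hZfin.isClosed_biUnion hZpt
  have hZne : Z.Nonempty := by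
    rw [Set.not_subset] at hcon
    obtain ⟨x, hx, hx'⟩ := hcon
    exact ⟨x, hx, hx'⟩
  have hcov : F ⊆ Z ∪ un 𝓕 := by
    intro x hx
    by_cases h : x ∈ un 𝓕
    · exact Or.inr h
    · exact Or.inl ⟨hx, h⟩
  rcases Set.eq_empty_or_nonempty (un 𝓕) with h0 | h0
  · -- `F = Z` is finite
    apply hns
    have hFZ : F = Z := by rw [hZdef, h0, Set.sdiff_empty]
    refine subsingleton_of_finite (hconn y) (by rw [hFZ]; exact hZfin) ?_
    intro z hz
    refine ⟨{z}, hZpt z ?_, ?_⟩
    · rw [← hFZ]
      exact hz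
    · ext w
      constructor
      · exact fun h => h.1
      · rintro rfl
        exact ⟨rfl, hz⟩
  · have h1 : (F ∩ Z).Nonempty := by
      obtain ⟨x, hx⟩ := hZne
      exact ⟨x, hx.1, hx⟩
    have h2 : (F ∩ un 𝓕).Nonempty := by
      obtain ⟨x, hx⟩ := h0
      obtain ⟨C, hC, hxC⟩ := mem_un.mp hx
      exact ⟨x, hC hxC, hx⟩
    obtain ⟨z, -, hz1, hz2⟩ := isPreconnected_closed_iff.mp (hconn y) Z (un 𝓕) hZcl (isClosed_un 𝓕) hcov h1 h2
    exact hz1.2 hz2

end Fib

/-- Every separated piece of `T` meets the rest of `G`. -/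
def Good (G T : Set (irreducibleComponents (X : Type u))) : Prop :=
  ∀ K : Set (irreducibleComponents (X : Type u)), K ⊆ G ∩ T → K.Nonempty →
    (∀ C ∈ K, ∀ D ∈ G ∩ T, D ∉ K → Disjoint C.1 D.1) → ∃ C ∈ K, ∃ D ∈ G \ T, (C.1 ∩ D.1).Nonempty

theorem disjoint_un {K K' : Set (irreducibleComponents (X : Type u))}
    (h : ∀ C ∈ K, ∀ D ∈ K', Disjoint C.1 D.1) : Disjoint (un K) (un K') := by
  rw [Set.disjoint_left]
  intro x hx hx'
  obtain ⟨C, hC, hxC⟩ := mem_un.mp hx
  obtain ⟨D, hD, hxD⟩ := mem_un.mp hx'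
  exact Set.disjoint_left.mp (h C hC D hD) hxC hxD

theorem un_union (K K' : Set (irreducibleComponents (X : Type u))) : un (K ∪ K') = un K ∪ un K' := by
  ext x
  simp only [mem_un, Set.mem_union]
  constructor
  · rintro ⟨C, hC | hC, hx⟩
    · exact Or.inl ⟨C, hC, hx⟩
    · exact Or.inr ⟨C, hC, hx⟩
  · rintro (⟨C, hC, hx⟩ | ⟨C, hC, hx⟩)
    · exact ⟨C, Or.inl hC, hx⟩
    · exact ⟨C, Or.inr hC, hx⟩

theorem un_univ : un (Set.univ : Set (irreducibleComponents (X : Type u))) = Set.univ := by
  ext x
  refine ⟨fun _ => trivial, fun _ => ?_⟩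
  obtain ⟨D, hD, hxD⟩ := exists_mem_irreducibleComponents_subset_of_isIrreducible (closure ({x} : Set X))
    isIrreducible_singleton.closure
  exact mem_un.mpr ⟨⟨D, hD⟩, trivial, hxD (subset_closure rfl)⟩

end K900.TopArg
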