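import Groth.Agent.CurvSt.K900.Comp0
import Groth.Agent.CurvSt.K900.TopArg
import Groth.Agent.CurvesC.TailGeom
import Groth.Agent.CurvesC.TailNum

/-!
# `h⁰(O_Y) ≤ h⁰(O_Z)` for a closed subscheme `Z` meeting every clopen piece of the reduced scheme `Y`
-/

set_option autoImplicit false
universe u

open CategoryTheory TopologicalSpace Opposite CategoryTheory.Limits AlgebraicGeometry

namespace K900.H0

open K900.Comp K900.TopArg
open Groth.Agent.CurvesC Groth.Agent.CurvesC.TailNum Groth.Agent.CurvesC.TailGeom Groth.Agent.CurvesC.CurveNum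

theorem exists_quasi_inv {R : Type*} [CommRing R] [IsArtinianRing R] [_root_.IsReduced R] (s : R) :
    ∃ r : R, s * (1 - s * r) = 0 := by
  obtain ⟨n, y, hy⟩ := IsArtinian.exists_pow_succ_smul_dvd s (1 : R)
  refine ⟨y, ?_⟩
  have h1 : s ^ n * (1 - s * y) = 0 := by
    simp only [smul_eq_mul, Nat.succ_eq_add_one, mul_one] at hy
    rw [mul_sub, mul_one, ← mul_assoc, ← pow_succ, hy, sub_self]
  have h2 : IsNilpotent (s * (1 - s * y)) := by
    refine ⟨n + 1, ?_⟩
    rw [mul_pow, pow_succ s, pow_succ (1 - s * y)]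
    calc s ^ n * s * ((1 - s * y) ^ n * (1 - s * y)) =
        s * (1 - s * y) ^ n * (s ^ n * (1 - s * y)) := by ring
      _ = 0 := by rw [h1, mul_zero]
  exact h2.eq_zero

theorem isClopen_basicOpen {Z : Scheme.{u}} {s r : Γ(Z, ⊤)} (h : s * (1 - s * r) = 0) :
    IsClopen (Z.basicOpen s : Set Z) := by
  refine ⟨?_, (Z.basicOpen s).2⟩
  have h1 : (Z.basicOpen s : Set Z)ᶜ = (Z.basicOpen (1 - s * r) : Set Z) := by
    ext x
    constructor
    · intro hx
      have hx' : ¬ IsUnit (Z.presheaf.germ ⊤ x trivial s) := fun hu =>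
        hx ((Z.mem_basicOpen (U := ⊤) s x trivial).mpr hu)
      refine (Z.mem_basicOpen (U := ⊤) (1 - s * r) x trivial).mpr ?_
      have hsum : Z.presheaf.germ ⊤ x trivial (s * r) + Z.presheaf.germ ⊤ x trivial (1 - s * r) = 1 := by
        rw [← map_add]
        simp
      rcases IsLocalRing.isUnit_or_isUnit_of_add_one hsum with h2 | h2
      · rw [map_mul] at h2
        exact absurd (isUnit_of_mul_isUnit_left h2) hx'
      · exact h2
    · intro hx hxs
      have : x ∈ Z.basicOpen (s * (1 - s * r)) := by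
        rw [Scheme.basicOpen_mul]
        exact ⟨hxs, hx⟩
      rw [h, Scheme.basicOpen_zero] at this
      exact this
  rw [← isOpen_compl_iff, h1]
  exact (Z.basicOpen _).2

section

attribute [local instance] subOver topMod

variable (k : Type u) [Field k] (X : Scheme.{u}) [X.Over (Spec (CommRingCat.of k))]

theorem h0_le [IsProper (X ↘ (Spec (CommRingCat.of k)))] {J K : X.IdealSheafData} (hJK : J ≤ K)
    [IsReduced J.subscheme]
    (hmeet : ∀ D : Set J.subscheme, IsClopen D → D.Nonempty → ∃ z ∈ D, J.subschemeι z ∈ K.support) :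
    Module.finrank k (Coh.HH X (ClSub.quotMod J) 0) ≤ Module.finrank k (Coh.HH X (ClSub.quotMod K) 0) := by
  have hfJ := finite_quotMod k X J 0
  have hfK := finite_quotMod k X K 0
  have hfJ' : Module.Finite k (Coh.Γtop J.subscheme) :=
    Module.Finite.equiv ((quotEquiv k X J 0).symm.trans (hZeroTop k J.subscheme))
  have hfK' : Module.Finite k (Coh.Γtop K.subscheme) :=
    Module.Finite.equiv ((quotEquiv k X K 0).symm.trans (hZeroTop k K.subscheme))
  have hart : IsArtinianRing Γ(J.subscheme, ⊤) := by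
    let φ : k →+* Coh.Γtop J.subscheme := Coh.toGlobal (J.subscheme ↘ (Spec (CommRingCat.of k)))
    let _ : Algebra k Γ(J.subscheme, ⊤) := RingHom.toAlgebra (show k →+* Γ(J.subscheme, ⊤) from φ)
    have : Module.Finite k Γ(J.subscheme, ⊤) := hfJ'
    exact IsArtinianRing.of_finite k Γ(J.subscheme, ⊤)
  have hred : _root_.IsReduced Γ(J.subscheme, ⊤) := inferInstance
  rw [← finrank_quotMod_zero, ← finrank_quotMod_zero]
  refine LinearMap.finrank_le_finrank_of_injective (f := restrictTop k X hJK) ?_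
  rw [injective_iff_map_eq_zero]
  intro s hs
  change Γ(J.subscheme, ⊤) at s
  obtain ⟨r, hr⟩ := exists_quasi_inv (R := Γ(J.subscheme, ⊤)) s
  have hcl := isClopen_basicOpen (Z := J.subscheme) (s := s) (r := r) hr
  by_contra hne
  have hD : (J.subscheme.basicOpen (U := ⊤) s : Set J.subscheme).Nonempty := by
    by_contra hemp
    apply hne
    have h1 : J.subscheme.basicOpen (U := ⊤) s = ⊥ := by
      ext x
      constructor
      · intro hx
        exact (hemp ⟨x, hx⟩).elim
      · intro hx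
        exact hx.elim
    exact (basicOpen_eq_bot_iff (X := J.subscheme) (U := ⊤) s).mp h1
  obtain ⟨z, hz, hzK⟩ := hmeet _ hcl hD
  have hzK' : J.subschemeι z ∈ Set.range K.subschemeι := by
    rw [Scheme.IdealSheafData.range_subschemeι]
    exact hzK
  obtain ⟨w, hw⟩ := hzK'
  have hw' : (Scheme.IdealSheafData.inclusion hJK).base w = z := by
    apply J.subschemeι.isClosedEmbedding.injective
    rw [← hw]
    exact congr($(Scheme.IdealSheafData.inclusion_subschemeι hJK) w)
  have h2 : w ∈ (Scheme.IdealSheafData.inclusion hJK) ⁻¹ᵁ (J.subscheme.basicOpen (U := ⊤) s) := by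
    have h5 : (Scheme.IdealSheafData.inclusion hJK).base w ∈ J.subscheme.basicOpen (U := ⊤) s := by
      rw [hw']
      exact hz
    exact h5
  rw [Scheme.preimage_basicOpen] at h2
  have h3 : (Scheme.IdealSheafData.inclusion hJK).app ⊤ s = 0 := hs
  rw [h3, Scheme.basicOpen_zero] at h2
  exact h2

end

theorem meet_of_good {X : Scheme.{u}} [NoetherianSpace X] (G T : Set (irreducibleComponents (X : Type u)))
    (hG : Good G T) (D : Set (Scheme.IdealSheafData.vanishingIdeal (uc (G ∩ T))).subscheme)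
    (hD : IsClopen D) (hne : D.Nonempty) :
    ∃ z ∈ D, (Scheme.IdealSheafData.vanishingIdeal (uc (G ∩ T))).subschemeι z ∈ un (G \ T) := by
  generalize hJ : Scheme.IdealSheafData.vanishingIdeal (uc (G ∩ T)) = J at D hD hne ⊢
  have hrange : Set.range J.subschemeι = un (G ∩ T) := by
    rw [← hJ, Scheme.IdealSheafData.range_subschemeι, Scheme.IdealSheafData.coe_support_vanishingIdeal]
    rfl
  have hce := J.subschemeι.isClosedEmbedding
  set E := J.subschemeι '' D with hE
  set E' := J.subschemeι '' Dᶜ with hE'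
  have hEc : IsClosed E := hce.isClosedMap _ hD.1
  have hE'c : IsClosed E' := hce.isClosedMap _ hD.compl.1
  have hdisj : Disjoint E E' := by
    rw [Set.disjoint_left]
    rintro _ ⟨z, hz, rfl⟩ ⟨w, hw, h⟩
    rw [hce.injective h] at hw
    exact hw hz
  have hunion : un (G ∩ T) = E ∪ E' := by
    rw [← hrange, hE, hE', ← Set.image_union, Set.union_compl_self, Set.image_univ]
  have hdich : ∀ C ∈ G ∩ T, C.1 ⊆ E ∨ C.1 ⊆ E' := by
    intro C hC
    have h1 : C.1 ⊆ E ∪ E' := by
      rw [← hunion]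
      exact subset_un hC
    have h2 : C.2.1.genericPoint ∈ E ∪ E' := h1 (gp_mem C)
    rcases h2 with h | h
    · exact Or.inl (subset_of_gp_mem hEc h)
    · exact Or.inr (subset_of_gp_mem hE'c h)
  obtain ⟨C, hC, D', hD', x, hx, hx'⟩ := hG {C | C ∈ G ∩ T ∧ C.1 ⊆ E} (fun C hC => hC.1) (by
    obtain ⟨z, hz⟩ := hne
    have h1 : J.subschemeι z ∈ un (G ∩ T) := by
      rw [← hrange]
      exact ⟨z, rfl⟩
    obtain ⟨C, hC, hzC⟩ := mem_un.mp h1
    refine ⟨C, hC, ?_⟩
    rcases hdich C hC with h | h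
    · exact h
    · exact (Set.disjoint_left.mp hdisj ⟨z, hz, rfl⟩ (h hzC)).elim) (by
    rintro C ⟨hC, hCE⟩ D' hD' hnot
    rcases hdich D' hD' with h | h
    · exact absurd ⟨hD', h⟩ hnot
    · exact hdisj.mono hCE h)
  obtain ⟨z, hz, rfl⟩ := hC.2 hx
  exact ⟨z, hz, mem_un.mpr ⟨D', hD', hx'⟩⟩

end K900.H0
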