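import Groth.Agent.CurvSt.K900.Key3
import Groth.Agent.CurvSt.K900.H0

/-!
# The degree inequality

`φ : L ⟶ M` between invertible modules on a reduced proper curve; `T` the set of components on which `φ` vanishes,
`deg(L|_C) = 0` for `C ∈ T`, and `w ⟶ M` generically an isomorphism, `w` the dualizing module.
Then `Σ_G deg L ≤ Σ_G deg M` for every set of components `G` in which every separated piece of `G ∩ T` meets `G \ T`.
-/

set_option autoImplicit false
universe u

open CategoryTheory TopologicalSpace Opposite CategoryTheory.Limits AlgebraicGeometry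

namespace K900.Ineq

open K900.Comp K900.Loc K900.Key3 K900.TopArg
open Groth.Agent.CurvesC Groth.Agent.CurvesC.DualCount Groth.Agent.VarietyB
open Groth.Agent.VarietyA.StalkCrit

variable {X : Scheme.{u}} (k : Type u) [Field k] [X.Over (Spec (CommRingCat.of k))]
  [IsProper (X ↘ (Spec (CommRingCat.of k)))] [IsNoetherian X] [IsReduced X]

theorem sdeg_dual (hdim : topologicalKrullDim X = 1)
    (hpure : ∀ Z ∈ irreducibleComponents (X : Type u), topologicalKrullDim Z = 1)
    {w : X.Modules} (hw : PicF.IsInvertible w) {t : Coh.HH X w 1 →ₗ[k] k} (ht : IsPair k t)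
    (G : Set (irreducibleComponents (X : Type u))) :
    sdeg k w G = (Module.finrank k (Coh.HH X (ClSub.quotMod (J G ⊔ TailGeom.complIdeal (uc G))) 0) : ℤ) -
      2 * ((Module.finrank k (Coh.HH X (ClSub.quotMod (J G)) 0) : ℤ) -
        Module.finrank k (Coh.HH X (ClSub.quotMod (J G)) 1)) := by
  rw [← DualDegForm.deg_form k hdim w hw ht (uc G) (subset_closure_interior G), ← phi_quot k hdim.le hpure hw G]
  let _ : (J G).subscheme.Over (Spec (CommRingCat.of k)) :=
    ⟨(J G).subschemeι ≫ (X ↘ (Spec (CommRingCat.of k)))⟩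
  exact DegPhi.phi_push k (J G).subschemeι rfl
    (TensCoh.HasBases.of_isFinLocFreeOfRank (Groth.Agent.Ega2.QCohLocal.isFinLocFreeOfRank_one_iff.mpr hw))

theorem h0_mono (hdim : topologicalKrullDim X ≤ 1) {K K' : X.IdealSheafData} (h : K ≤ K')
    (hs : ∀ C : irreducibleComponents (X : Type u), C.2.1.genericPoint ∉ CohB1.support (ClSub.quotMod K)) :
    Module.finrank k (Coh.HH X (ClSub.quotMod K') 0) ≤ Module.finrank k (Coh.HH X (ClSub.quotMod K) 0) := by
  obtain ⟨q, hq⟩ := Key2.exists_quot h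
  have := DualDeg.epi_toSubscheme K'
  have hqe : Epi q := epi_of_epi_fac hq
  have hK := DualDeg.isCoh_quotMod K
  have hK' := DualDeg.isCoh_quotMod K'
  have hker : Coh.IsCoh (kernel q) := Groth.Agent.CycB.CohProp.isCoh_kernel q hK hK'
  have e1 := Groth.Agent.S1524.result k X _ (shortExact_kernel q) hker hK hK'
  have s1 : topologicalKrullDim (CohB1.support (ClSub.quotMod K)) ≤ 0 :=
    dim_support_le hdim (Groth.Agent.FormalA.Support.isClosed_support _ hK.2) hs
  have s2 : topologicalKrullDim (CohB1.support (ClSub.quotMod K')) ≤ 0 :=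
    dim_support_le hdim (Groth.Agent.FormalA.Support.isClosed_support _ hK'.2) fun C hC =>
      hs C (support_subset_of_epi q hC)
  have s3 : topologicalKrullDim (CohB1.support (kernel q)) ≤ 0 :=
    dim_support_le hdim (Groth.Agent.FormalA.Support.isClosed_support _ hker.2) fun C hC =>
      hs C (support_subset_of_mono (kernel.ι q) hC)
  have e3 := euler_nonneg k hker s3
  simp only at e1
  rw [euler_eq_h0 k hK s1, euler_eq_h0 k hK' s2] at e1
  have : (Module.finrank k (Coh.HH X (ClSub.quotMod K') 0) : ℤ) ≤ Module.finrank k (Coh.HH X (ClSub.quotMod K) 0) := by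
    linarith
  exact_mod_cast this

theorem complIdeal_le (A T : Set (irreducibleComponents (X : Type u))) (hAT : Disjoint A T) :
    TailGeom.complIdeal (uc T) ≤ J A := by
  intro U b hb
  rw [mem_J_iff]
  intro y hy hya
  obtain ⟨C, hC, hCa⟩ := exists_gp_mem (X.basicOpen b).2 hy hya
  refine (DualIdeals.mem_ker_iff _ U b).mp hb C.2.1.genericPoint ?_ hCa
  intro h
  exact Set.disjoint_left.mp hAT hC (gp_mem_un_iff.mp h)

theorem notMem_support_compl (G : Set (irreducibleComponents (X : Type u)))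
    (C : irreducibleComponents (X : Type u)) :
    C.2.1.genericPoint ∉ CohB1.support (ClSub.quotMod (J G ⊔ TailGeom.complIdeal (uc G))) := by
  rw [not_mem_support_iff]
  apply Groth.Agent.CycB.PushStalk.subsingleton_stalk_push
  intro h
  rw [(J G ⊔ TailGeom.complIdeal (uc G)).subschemeι.isClosedEmbedding.isClosed_range.closure_eq,
    Scheme.IdealSheafData.range_subschemeι, Scheme.IdealSheafData.support_sup, Closeds.coe_inf,
    Scheme.IdealSheafData.coe_support_vanishingIdeal, TailGeom.support_complIdeal] at h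
  obtain ⟨h1, h2⟩ := h
  have hC : C ∈ G := gp_mem_un_iff.mp h1
  -- the open complement of the other components is contained in `un G`
  have h3 : IsOpen (un Gᶜ)ᶜ := (isClosed_un _).isOpen_compl
  have h4 : C.2.1.genericPoint ∈ (un Gᶜ)ᶜ := fun h => (gp_mem_un_iff.mp h) hC
  obtain ⟨y, hy, hy'⟩ := mem_closure_iff.mp h2 _ h3 h4
  have h5 : y ∈ un (G ∪ Gᶜ) := by
    rw [Set.union_compl_self, un_univ]
    trivial
  rw [un_union] at h5
  rcases h5 with h5 | h5
  · exact hy' h5
  · exact hy h5

theorem sdeg_union (L : X.Modules) {A T : Set (irreducibleComponents (X : Type u))} (hAT : Disjoint A T) :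
    sdeg k L (A ∪ T) = sdeg k L A + sdeg k L T := by
  have hfin : Finite (irreducibleComponents (X : Type u)) :=
    TopologicalSpace.NoetherianSpace.finite_irreducibleComponents
  exact finsum_mem_union hAT (Set.toFinite _) (Set.toFinite _)

variable {L M N w : X.Modules}

theorem main (hdim : topologicalKrullDim X = 1)
    (hpure : ∀ Z ∈ irreducibleComponents (X : Type u), topologicalKrullDim Z = 1)
    (hw : PicF.IsInvertible w) {t : Coh.HH X w 1 →ₗ[k] k} (ht : IsPair k t)
    (φ : L ⟶ M) (hL : PicF.IsInvertible L) (hM : PicF.IsInvertible M)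
    (ψ : w ⟶ M) (hψ : ∀ C : irreducibleComponents (X : Type u), C.2.1.genericPoint ∈ W ψ)
    (T : Set (irreducibleComponents (X : Type u))) (hT : T = {C | C.2.1.genericPoint ∉ W φ})
    (h0 : ∀ C ∈ T, Groth.Agent.S1641.degC k X 1 L C = 0)
    (G : Set (irreducibleComponents (X : Type u))) (hG : Good G T) :
    ∑ᶠ C ∈ G, Groth.Agent.S1641.degC k X 1 L C ≤ ∑ᶠ C ∈ G, Groth.Agent.S1641.degC k X 1 M C := by
  change sdeg k L G ≤ sdeg k M G
  have hGd : G = (G \ T) ∪ (G ∩ T) := (Set.diff_union_inter G T).symm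
  have hdisj : Disjoint (G \ T) (G ∩ T) := Set.disjoint_left.mpr fun C hC hC' => hC.2 hC'.2
  have e1 := key k hdim.le hpure φ hL hM (G \ T) (G ∩ T) (fun C hC => by
    by_contra h
    exact hC.2 (by rw [hT]; exact h)) (fun C hC => by
    have := hC.2
    rw [hT] at this
    exact this)
  rw [euler_quot_nonneg k hdim.le hdisj] at e1
  have e2 : sdeg k L (G ∩ T) = 0 := finsum_mem_eq_zero_of_forall_eq_zero fun C hC => h0 C hC.2
  have e3 := key' k hdim.le hpure ψ hw hM (G ∩ T) (fun C _ => hψ C)
  have e4 := sdeg_dual k hdim hpure hw ht (G ∩ T)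
  have e5 : Module.finrank k (Coh.HH X (ClSub.quotMod (J (G \ T) ⊔ J (G ∩ T))) 0) ≤
      Module.finrank k (Coh.HH X (ClSub.quotMod (J (G ∩ T) ⊔ TailGeom.complIdeal (uc (G ∩ T)))) 0) := by
    refine h0_mono k hdim.le ?_ (notMem_support_compl _)
    exact sup_le le_sup_right ((complIdeal_le _ _ hdisj).trans le_sup_left)
  have hred : IsReduced (J (G ∩ T)).subscheme := by
    exact Groth.Agent.Ega1.ReducedSub.isReduced_subscheme_vanishingIdeal _
  have e6 : Module.finrank k (Coh.HH X (ClSub.quotMod (J (G ∩ T))) 0) ≤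
      Module.finrank k (Coh.HH X (ClSub.quotMod (J (G \ T) ⊔ J (G ∩ T))) 0) := by
    refine H0.h0_le k X le_sup_right fun D hD hne => ?_
    obtain ⟨z, hz, hz'⟩ := H0.meet_of_good G T hG D hD hne
    refine ⟨z, hz, ?_⟩
    rw [Scheme.IdealSheafData.support_sup]
    refine ⟨?_, ?_⟩
    · change _ ∈ ((J (G \ T)).support : Set X)
      rw [Scheme.IdealSheafData.coe_support_vanishingIdeal]
      exact hz'
    · have h1 : (J (G ∩ T)).subschemeι z ∈ Set.range (J (G ∩ T)).subschemeι := ⟨z, rfl⟩
      rw [Scheme.IdealSheafData.range_subschemeι] at h1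
      exact h1
  rw [hGd, sdeg_union k L hdisj, sdeg_union k M hdisj, e2]
  have e7 : (Module.finrank k (Coh.HH X (ClSub.quotMod (J (G \ T) ⊔ J (G ∩ T))) 0) : ℤ) ≤
      Module.finrank k (Coh.HH X (ClSub.quotMod (J (G ∩ T) ⊔ TailGeom.complIdeal (uc (G ∩ T)))) 0) := by
    exact_mod_cast e5
  have e8 : (Module.finrank k (Coh.HH X (ClSub.quotMod (J (G ∩ T))) 0) : ℤ) ≤
      Module.finrank k (Coh.HH X (ClSub.quotMod (J (G \ T) ⊔ J (G ∩ T))) 0) := by
    exact_mod_cast e6
  have e9 : (0 : ℤ) ≤ Module.finrank k (Coh.HH X (ClSub.quotMod (J (G ∩ T))) 1) := Int.natCast_nonneg _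
  linarith

end K900.Ineq
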