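import Groth.Agent.CurvSt.K900.TopArg

/-!
# The combinatorial argument for uniqueness of contractions, II
-/

set_option autoImplicit false
universe u

open CategoryTheory TopologicalSpace Opposite CategoryTheory.Limits AlgebraicGeometry

namespace K900.MainArg

open K900.Comp K900.TopArg

variable {X Y₁ Y₂ : Scheme.{u}} [NoetherianSpace X] [ConnectedSpace X]

theorem disj_of_no_meet {K K' : Set (irreducibleComponents (X : Type u))}
    (h : ∀ C ∈ K, ∀ D ∈ K', ¬ (C.1 ∩ D.1).Nonempty) : Disjoint (un K) (un K') :=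
  disjoint_un fun C hC D hD => Set.disjoint_iff_inter_eq_empty.mpr (Set.not_nonempty_iff_eq_empty.mp (h C hC D hD))

/-- The argument. -/
theorem main (hdim : topologicalKrullDim X ≤ 1) (c₁ : X ⟶ Y₁) (c₂ : X ⟶ Y₂)
    (hcl₁ : IsClosedMap c₁.base) (hcl₂ : IsClosedMap c₂.base)
    (hconn₂ : ∀ y : Y₂, _root_.IsPreconnected (c₂.base ⁻¹' {y}))
    (d₁ d₂ dM : irreducibleComponents (X : Type u) → ℤ)
    (T₁ T₂ : Set (irreducibleComponents (X : Type u)))
    (hT₁ : ∀ C ∈ T₁, Ctr c₁ C) (hT₂ : ∀ C ∈ T₂, Ctr c₂ C)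
    (h0₁ : ∀ C, Ctr c₁ C → d₁ C = 0) (hpos₁ : ∀ C, ¬ Ctr c₁ C → 0 < d₁ C)
    (h0₂ : ∀ C, Ctr c₂ C → d₂ C = 0)
    (hle₁ : ∀ G, Good G T₁ → ∑ᶠ C ∈ G, d₁ C ≤ ∑ᶠ C ∈ G, dM C)
    (hle₂ : ∀ G, Good G T₂ → ∑ᶠ C ∈ G, d₂ C ≤ ∑ᶠ C ∈ G, dM C)
    (htot : ∑ᶠ C, d₂ C = ∑ᶠ C, dM C) (x x' : X) (hxx : c₂.base x = c₂.base x') :
    c₁.base x = c₁.base x' := by
  classical
  have hfinC : Finite (irreducibleComponents (X : Type u)) :=
    TopologicalSpace.NoetherianSpace.finite_irreducibleComponents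
  by_cases hxe : x = x'
  · rw [hxe]
  have hns : ¬ (c₂.base ⁻¹' {c₂.base x}).Subsingleton := fun h => hxe (h rfl hxx.symm)
  obtain ⟨hy, hF⟩ := fibre_eq_un c₂ hdim hcl₂ hconn₂ hns
  set F := c₂.base ⁻¹' {c₂.base x} with hFdef
  set 𝓕 := {C : irreducibleComponents (X : Type u) | C.1 ⊆ F} with h𝓕
  have hFconn : _root_.IsPreconnected F := hconn₂ _
  have hFne : F.Nonempty := ⟨x, rfl⟩
  have hsplit : ∀ d : irreducibleComponents (X : Type u) → ℤ,
      ∑ᶠ C, d C = ∑ᶠ C ∈ 𝓕, d C + ∑ᶠ C ∈ 𝓕ᶜ, d C := by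
    intro d
    rw [← finsum_mem_union disjoint_compl_right (Set.toFinite _) (Set.toFinite _), Set.union_compl_self,
      finsum_mem_univ]
  have hF0 : ∑ᶠ C ∈ 𝓕, d₂ C = 0 := by
    refine finsum_mem_eq_zero_of_forall_eq_zero fun C hC => h0₂ C fun z hz => ?_
    have h1 : c₂.base z = c₂.base x := hC hz
    have h2 : c₂.base C.2.1.genericPoint = c₂.base x := hC (gp_mem C)
    rw [h1, h2]
  -- step 1
  have hR : Good 𝓕ᶜ T₂ := by
    intro K hK hKne hsep
    by_contra hcon
    push Not at hcon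
    have h1 : Disjoint (un K) (un (𝓕ᶜ \ K)) := by
      refine disj_of_no_meet fun C hC D hD hne => ?_
      by_cases hDT : D ∈ T₂
      · have := hsep C hC D ⟨hD.1, hDT⟩ hD.2
        exact Set.not_disjoint_iff_nonempty_inter.mpr hne this
      · have h3 := hcon C hC D ⟨hD.1, hDT⟩
        rw [h3] at hne
        exact Set.not_nonempty_empty hne
    have h2 : Disjoint (un K) (un 𝓕) := by
      refine disj_of_no_meet fun C hC D hD hne => ?_
      obtain ⟨z, hzC, hzD⟩ := hne
      apply (hK hC).1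
      intro w hw
      have hctr := hT₂ C (hK hC).2
      have e1 : c₂.base w = c₂.base z := (hctr w hw).trans (hctr z hzC).symm
      have e2 : c₂.base z = c₂.base x := hD hzD
      exact e1.trans e2
    have hcover : un K ∪ un (𝓕ᶜ \ K) ∪ un 𝓕 = Set.univ := by
      rw [← un_univ, ← un_union, ← un_union]
      congr 1
      ext C
      simp only [Set.mem_union, Set.mem_diff, Set.mem_compl_iff, Set.mem_univ, iff_true]
      by_cases h : C ∈ 𝓕
      · exact Or.inr h
      · by_cases h' : C ∈ K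
        · exact Or.inl (Or.inl h')
        · exact Or.inl (Or.inr ⟨h, h'⟩)
    have hclopen : IsClopen (un K) := by
      refine ⟨isClosed_un K, ?_⟩
      have : (un K)ᶜ = un ((𝓕ᶜ \ K) ∪ 𝓕) := by
        rw [un_union]
        ext z
        constructor
        · intro hz
          have := Set.mem_univ z
          rw [← hcover] at this
          rcases this with (h | h) | h
          · exact absurd h hz
          · exact Or.inl h
          · exact Or.inr h
        · rintro (h | h) hz
          · exact Set.disjoint_left.mp h1 hz h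
          · exact Set.disjoint_left.mp h2 hz h
      rw [← isClosed_compl_iff, this]
      exact isClosed_un _
    rcases isClopen_iff.mp hclopen with h | h
    · obtain ⟨C, hC⟩ := hKne
      have : C.2.1.genericPoint ∈ un K := gp_mem_un_iff.mpr hC
      rw [h] at this
      exact this
    · obtain ⟨z, hz⟩ := hFne
      have h3 : z ∈ un K := by rw [h]; trivial
      rw [hF] at hz
      exact Set.disjoint_left.mp h2 h3 hz
  have hM : ∑ᶠ C ∈ 𝓕, dM C ≤ 0 := by
    have e1 := hle₂ _ hR
    have e2 := hsplit d₂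
    have e3 := hsplit dM
    linarith
  -- step 2
  have hall : ∀ C ∈ 𝓕, Ctr c₁ C := by
    by_contra hcon
    push Not at hcon
    obtain ⟨C₀, hC₀, hC₀'⟩ := hcon
    have hG : Good 𝓕 T₁ := by
      intro K hK hKne hsep
      by_contra hcon'
      push Not at hcon'
      have h1 : Disjoint (un K) (un (𝓕 \ K)) := by
        refine disj_of_no_meet fun C hC D hD hne => ?_
        by_cases hDT : D ∈ T₁
        · exact Set.not_disjoint_iff_nonempty_inter.mpr hne (hsep C hC D ⟨hD.1, hDT⟩ hD.2)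
        · have h3 := hcon' C hC D ⟨hD.1, hDT⟩
          rw [h3] at hne
          exact Set.not_nonempty_empty hne
      have hcov : F ⊆ un K ∪ un (𝓕 \ K) := by
        rw [← un_union, hF]
        intro z hz
        obtain ⟨C, hC, hzC⟩ := mem_un.mp hz
        refine mem_un.mpr ⟨C, ?_, hzC⟩
        by_cases h : C ∈ K
        · exact Or.inl h
        · exact Or.inr ⟨hC, h⟩
      have hne1 : (F ∩ un K).Nonempty := by
        obtain ⟨C, hC⟩ := hKne
        exact ⟨_, (hK hC).1 (gp_mem C), gp_mem_un_iff.mpr hC⟩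
      have hne2 : (F ∩ un (𝓕 \ K)).Nonempty := by
        refine ⟨_, hC₀ (gp_mem C₀), gp_mem_un_iff.mpr ⟨hC₀, fun h => ?_⟩⟩
        exact hC₀' (hT₁ _ (hK h).2)
      obtain ⟨z, -, hz1, hz2⟩ := isPreconnected_closed_iff.mp hFconn _ _ (isClosed_un K) (isClosed_un _)
        hcov hne1 hne2
      exact Set.disjoint_left.mp h1 hz1 hz2
    have e1 := hle₁ _ hG
    have hnn : ∀ C, 0 ≤ d₁ C := by
      intro C
      by_cases h : Ctr c₁ C
      · exact (h0₁ C h).ge
      · exact (hpos₁ C h).le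
    have e2 : 0 < ∑ᶠ C ∈ 𝓕, d₁ C := by
      have h3 : d₁ C₀ ≤ ∑ᶠ C ∈ 𝓕, d₁ C := by
        rw [finsum_mem_eq_finite_toFinset_sum _ (Set.toFinite 𝓕)]
        refine Finset.single_le_sum (f := d₁) (fun C _ => hnn C) ?_
        rw [Set.Finite.mem_toFinset]
        exact hC₀
      exact (hpos₁ C₀ hC₀').trans_le h3
    linarith
  -- conclusion
  have himg : (c₁.base '' F).Subsingleton := by
    refine subsingleton_of_finite (hFconn.image _ c₁.continuous.continuousOn) ?_ ?_
    · refine (Set.finite_range fun C : irreducibleComponents (X : Type u) =>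
        c₁.base C.2.1.genericPoint).subset ?_
      rintro _ ⟨z, hz, rfl⟩
      rw [hF] at hz
      obtain ⟨C, hC, hzC⟩ := mem_un.mp hz
      exact ⟨C, (hall C hC z hzC).symm⟩
    · rintro _ ⟨z, hz, rfl⟩
      have hz' := hz
      rw [hF] at hz'
      obtain ⟨C, hC, hzC⟩ := mem_un.mp hz'
      have h1 : c₁.base '' C.1 = {c₁.base z} := by
        ext w
        constructor
        · rintro ⟨v, hv, rfl⟩
          rw [hall C hC v hv, ← hall C hC z hzC]
          rfl
        · rintro rfl
          exact ⟨z, hzC, rfl⟩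
      refine ⟨{c₁.base z}, ?_, ?_⟩
      · rw [← h1]
        exact hcl₁ _ (isClosed_of_mem_irreducibleComponents C.1 C.2)
      · ext w
        constructor
        · exact fun h => h.1
        · rintro rfl
          exact ⟨rfl, z, hz, rfl⟩
  exact himg ⟨x, rfl, rfl⟩ ⟨x', hxx.symm, rfl⟩

end K900.MainArg
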