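import Groth.Agent.CurvSt.K900.Loc
import Groth.Agent.CurvSt.K900.TopArg
import Groth.Agent.CurvesC.DualIdeals
import Groth.Agent.Fdesc.LocGenPullback

/-!
# Non-vanishing of the comparison map at the generic points of the components which are not contracted
-/

set_option autoImplicit false
universe u

open CategoryTheory TopologicalSpace Opposite CategoryTheory.Limits AlgebraicGeometry

namespace K900.NonVan

open Groth.Agent.Fdesc.LocGen K900.Comp K900.Loc K900.TopArg

variable {X Y : Scheme.{u}}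

theorem one_ne_zero_of_mem {U : X.Opens} {x : X} (hx : x ∈ U) (h : (1 : Γ(X, U)) = 0) : False := by
  have h1 : X.presheaf.germ U x hx (1 : Γ(X, U)) = X.presheaf.germ U x hx 0 := by rw [h]
  rw [map_one, map_zero] at h1
  exact one_ne_zero h1

theorem gp_mem_W [IsReduced X] [NoetherianSpace X] (hdim : topologicalKrullDim X ≤ 1) (c : X ⟶ Y)
    (hcl : IsClosedMap c.base) (hconn : ∀ y : Y, _root_.IsPreconnected (c.base ⁻¹' {y}))
    {MY : Y.Modules} {M : X.Modules} (hMY : PicF.IsInvertible MY) (hM : PicF.IsInvertible M)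
    (φ : (Scheme.Modules.pullback c).obj MY ⟶ M) (τ : (Scheme.Modules.pushforward c).obj M ⟶ MY)
    (hτ : ((Scheme.Modules.pullbackPushforwardAdjunction c).unit.app MY ≫
        (Scheme.Modules.pushforward c).map φ) ≫ τ = 𝟙 MY)
    (C : irreducibleComponents (X : Type u)) (hC : ¬ Ctr c C) : C.2.1.genericPoint ∈ W φ := by
  by_contra hW
  obtain ⟨V, hV, hV'⟩ := exists_nhds c hdim hcl hconn C hC
  obtain ⟨V₁, e, -, hx, hVV, he⟩ := exists_affine_gen hMY hV
  have h0 : φ.app (c ⁻¹ᵁ V₁) (pullSec c e) = 0 := by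
    choose V₂ hV₂ hxV₂ hV₂le e₂ f a he₂ hf ha using fun (p : (c ⁻¹ᵁ V₁ : X.Opens)) =>
      exists_gens (isInvertible_pullback c hMY) hM φ p.2
    refine res_ext M V₂ hV₂le ?_ ?_
    · intro x hx
      rw [Opens.mem_iSup]
      exact ⟨⟨x, hx⟩, hxV₂ ⟨x, hx⟩⟩
    · intro p
      have ha0 : a p = 0 := by
        refine Groth.Agent.CurvesC.DualIdeals.eq_zero_of_basicOpen (a p) fun y hy => ?_
        have hyu : y ∈ un (Set.univ : Set (irreducibleComponents (X : Type u))) := by
          rw [un_univ]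
          trivial
        obtain ⟨D, -, hD⟩ := exists_gp_mem (X.basicOpen (a p)).2 hyu hy
        have h1 : D.2.1.genericPoint ∈ c ⁻¹ᵁ V₁ := hV₂le p (X.basicOpen_le _ hD)
        have h2 : D = C := hV' D.2.1.genericPoint (hVV h1) D (gp_mem D)
        subst h2
        exact hW ((mem_W_iff φ (he₂ p) (hf p) (ha p) (X.basicOpen_le _ hD)).mpr hD)
      rw [map_zero, ← app_res]
      obtain ⟨b, hb⟩ := (he₂ p).exists_eq (res _ (hV₂le p) (pullSec c e))
      rw [hb, Scheme.Modules.Hom.app_smul, ha, ha0, zero_smul, smul_zero]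
  have h1 := congr($(hτ).app V₁ e)
  have h2 : τ.app V₁ (φ.app (c ⁻¹ᵁ V₁) (pullSec c e)) = e := h1
  rw [h0] at h2
  have h3 : τ.app V₁ (0 : Γ((Scheme.Modules.pushforward c).obj M, V₁)) = 0 := map_zero _
  have h4 : e = 0 := h2.symm.trans h3
  refine one_ne_zero_of_mem hx (he.ext ?_)
  rw [h4, smul_zero, smul_zero]

end K900.NonVan
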