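import Groth.Agent.CurvSt.K900.Edge
import Groth.Agent.CohqA.HOpen
import Groth.Agent.S0458
import Groth.Agent.Ega3B.TensRestrict
import Groth.Agent.Dcoh.MonCat
import Groth.Agent.Ega2.TensMon
import Groth.Agent.Dcoh.DerSch
import Groth.Agent.Fdesc.LocGenPullback
import Groth.Agent.Fdesc.LocGenAmple

/-!
# Acyclicity of twists by modules pulled back from the base

* `LocVan c N`: `H^{n+1}(c⁻¹ V, N) = 0` for all affine opens `V`;
* `edge_bijective_of_locIso`: `H^n(Y, c_* M) → H^n(X, M)` is bijective if `M` is isomorphic to `N` locally on `Y`;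
* `edge_twist`: for `N ⊗ c^* G`, `G` invertible.
-/

set_option autoImplicit false
universe u

open CategoryTheory TopologicalSpace Opposite CategoryTheory.Limits AlgebraicGeometry MonoidalCategory

namespace K900.Acyc

open scoped Groth.Agent.Dcoh.MonCat
open Groth.Agent.CohqB.PushTop Groth.Agent.CohqB.HSeqMod K900.Edge Groth.Agent.Fdesc.LocGen

variable {X Y : Scheme.{u}} (c : X ⟶ Y)

/-- `H^{n+1}(c⁻¹ V, N) = 0` for all affine opens `V`. -/
def LocVan (N : X.Modules) : Prop :=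
  ∀ V : Y.Opens, IsAffineOpen V → ∀ n : ℕ, Subsingleton (Coh.HHon X N (c ⁻¹ᵁ V) (n + 1))

theorem subsingleton_congr {Z : Scheme.{u}} {M N : Z.Modules} (e : M ≅ N) (n : ℕ)
    (h : Subsingleton (Coh.HH Z M n)) : Subsingleton (Coh.HH Z N n) := by
  refine ⟨fun a b => ?_⟩
  have h1 : ∀ x : Coh.HH Z N n, hmap e.hom n (hmap e.inv n x) = x := fun x => by
    rw [← hmap_comp_apply, e.inv_hom_id, hmap_id_apply]
  rw [← h1 a, ← h1 b, Subsingleton.elim (hmap e.inv n a) (hmap e.inv n b)]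

theorem subsingleton_E (M : X.Modules) (U : X.Opens) (n : ℕ) (h : Subsingleton (Coh.HHon X M U n)) :
    Subsingleton (Groth.Agent.FormalA.HUBasic.E (X := X.toTopCat) (Coh.toAb M) n U) := by
  have h1 := (Groth.Agent.CohqA.HOpen.HHonEquiv M U n).toEquiv.subsingleton
  exact (Groth.Agent.FormalA.HUBasic.toE (X := X.toTopCat) (Coh.toAb M) n U).symm.toEquiv.subsingleton

variable (k : Type u) [Field k] [X.Over (Spec (CommRingCat.of k))] [Y.Over (Spec (CommRingCat.of k))]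
  (hc : c ≫ (Y ↘ Spec (CommRingCat.of k)) = X ↘ Spec (CommRingCat.of k))

theorem edge_bijective_of (B : Set Y.Opens) (hB : Opens.IsBasis B) {M : X.Modules}
    (hM : ∀ V ∈ B, ∀ n : ℕ, Subsingleton (Coh.HHon X M (c ⁻¹ᵁ V) (n + 1))) (n : ℕ) :
    Function.Bijective (edge c k hc M n) :=
  pushH_bijective (X := X.toTopCat) (Y := Y.toTopCat) c.base B hB (Coh.toAb M)
    (fun V hV m => subsingleton_E M (c ⁻¹ᵁ V) (m + 1) (hM V hV m)) n

theorem edge_bijective_locVan {N : X.Modules} (hN : LocVan c N) (n : ℕ) :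
    Function.Bijective (edge c k hc N n) :=
  edge_bijective_of c k hc {V | IsAffineOpen V} Y.isBasis_affineOpens (fun V hV m => hN V hV m) n

theorem edge_bijective_of_locIso {N M : X.Modules} (hN : LocVan c N)
    (h : ∀ y : Y, ∃ V₀ : Y.Opens, y ∈ V₀ ∧ ∀ V : Y.Opens, V ≤ V₀ →
      Nonempty (N.restrict (c ⁻¹ᵁ V).ι ≅ M.restrict (c ⁻¹ᵁ V).ι)) (n : ℕ) :
    Function.Bijective (edge c k hc M n) := by
  refine edge_bijective_of c k hc
    {V | IsAffineOpen V ∧ Nonempty (N.restrict (c ⁻¹ᵁ V).ι ≅ M.restrict (c ⁻¹ᵁ V).ι)} ?_ ?_ n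
  · rw [Opens.isBasis_iff_nbhd]
    intro U y hy
    obtain ⟨V₀, hyV, hV₀⟩ := h y
    obtain ⟨V, hV, hyV', hVU⟩ := (Opens.isBasis_iff_nbhd.mp Y.isBasis_affineOpens)
      (show y ∈ U ⊓ V₀ from ⟨hy, hyV⟩)
    exact ⟨V, ⟨hV, hV₀ V (hVU.trans inf_le_right)⟩, hyV', hVU.trans inf_le_left⟩
  · rintro V ⟨hV, ⟨e⟩⟩ m
    exact subsingleton_congr e (m + 1) (hN V hV m)

/-- A generator over `U` trivializes the module over `U`. -/
theorem trivial_of_isGen {L : X.Modules} {U : X.Opens} {e : Γ(L, U)} (he : IsGen e) :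
    Nonempty (L.restrict U.ι ≅ Coh.structureModule ↑U) := by
  have hU : U.ι ''ᵁ ⊤ ≤ U := by simp
  have h1 : IsGen (toRestrict (M := L) U.ι (U := ⊤) (res L hU e)) :=
    (isGen_toRestrict_iff _ _).mpr (he.res hU)
  have : IsIso (homOf (toRestrict (M := L) U.ι (U := ⊤) (res L hU e))) := by
    rw [isIso_iff_isGen, sec_homOf]
    simpa using h1
  exact ⟨(asIso (homOf (toRestrict (M := L) U.ι (U := ⊤) (res L hU e)))).symm⟩

theorem restrict_tensor_iso (N : X.Modules) {L : X.Modules} {U : X.Opens} {e : Γ(L, U)} (he : IsGen e) :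
    Nonempty (N.restrict U.ι ≅ (N ⊗ L).restrict U.ι) := by
  obtain ⟨i⟩ := trivial_of_isGen he
  exact ⟨(Groth.Agent.Ega2.Tens.runit (N.restrict U.ι)).symm ≪≫
    Groth.Agent.Ega2.Tens.mapTIso (Iso.refl (N.restrict U.ι)) i.symm ≪≫
    (Groth.Agent.Ega3B.TensRestrict.restrictIso U.ι N L).symm⟩

/-- The edge map for `N ⊗ c^* G`. -/
theorem edge_twist {N : X.Modules} (hN : LocVan c N) {G : Y.Modules} (hG : PicF.IsInvertible G) (n : ℕ) :
    Function.Bijective (edge c k hc (N ⊗ (Scheme.Modules.pullback c).obj G) n) := by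
  refine edge_bijective_of_locIso c k hc hN (fun y => ?_) n
  obtain ⟨U, e, hy, he⟩ := (isInvertible_iff G).mp hG y
  exact ⟨U, hy, fun V hV => restrict_tensor_iso N ((he.res hV).pullSec c)⟩

/-- The edge map for `c^* G`. -/
theorem edge_pullback (hN : LocVan c (Coh.structureModule X)) {G : Y.Modules} (hG : PicF.IsInvertible G) (n : ℕ) :
    Function.Bijective (edge c k hc ((Scheme.Modules.pullback c).obj G) n) := by
  refine edge_bijective_of_locIso c k hc hN (fun y => ?_) n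
  obtain ⟨U, e, hy, he⟩ := (isInvertible_iff G).mp hG y
  refine ⟨U, hy, fun V hV => ?_⟩
  obtain ⟨i⟩ := trivial_of_isGen ((he.res hV).pullSec c)
  obtain ⟨j⟩ := trivial_of_isGen (isGen_one (X := X) (c ⁻¹ᵁ V))
  exact ⟨j ≪≫ i.symm⟩

/-- Vanishing in degrees `≥ 2` is automatic. -/
theorem locVan_of_one [NoetherianSpace X] (hdim : topologicalKrullDim X ≤ 1) {N : X.Modules}
    (h : ∀ V : Y.Opens, IsAffineOpen V → Subsingleton (Coh.HHon X N (c ⁻¹ᵁ V) 1)) : LocVan c N := by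
  intro V hV n
  cases n with
  | zero => exact h V hV
  | succ n =>
    have hn : NoetherianSpace (c ⁻¹ᵁ V : X.Opens).toScheme.toTopCat :=
      (c ⁻¹ᵁ V : X.Opens).ι.isOpenEmbedding.isInducing.noetherianSpace
    have hd : topologicalKrullDim (c ⁻¹ᵁ V : X.Opens).toScheme.toTopCat ≤ ((1 : ℕ) : WithBot ℕ∞) :=
      (Topology.IsInducing.topologicalKrullDim_le (c ⁻¹ᵁ V : X.Opens).ι.isOpenEmbedding.isInducing).trans hdim
    exact @Groth.Agent.S0458.result (c ⁻¹ᵁ V : X.Opens).toScheme.toTopCat hn 1 hd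
      (Coh.toAb (N.restrict (c ⁻¹ᵁ V).ι)) (n + 2) (by omega)

end K900.Acyc
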