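import Groth.Agent.CurvSt.K900.Comp0
import Groth.Agent.CurvesC.DualIdeals
import Groth.Agent.S1641
import Groth.Agent.CurvesC.DualDeg
import Groth.Agent.Ega2.QCohLocal

/-!
# Unions of irreducible components of a reduced curve and sums of degrees

* `un G`, `uc G`, `J G`: the union of the components in `G`, as a set, as a closed set, its reduced ideal;
* `phi_quot`: `χ(L ⊗ O_G) - χ(O_G) = Σ_{C ∈ G} deg(L|_C)`.
-/

set_option autoImplicit false
universe u

open CategoryTheory TopologicalSpace Opposite CategoryTheory.Limits AlgebraicGeometry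

namespace K900.Comp

open Groth.Agent.VarietyB.DegMult Groth.Agent.VarietyB

variable {X : Scheme.{u}}

/-- The ideal of functions vanishing on the union of a set of components. -/
noncomputable abbrev J [NoetherianSpace X] (G : Set (irreducibleComponents (X : Type u))) :
    X.IdealSheafData := Scheme.IdealSheafData.vanishingIdeal (uc G)

theorem mem_J_iff [NoetherianSpace X] (G : Set (irreducibleComponents (X : Type u))) (U : X.affineOpens)
    (a : Γ(X, U.1)) : a ∈ (J G).ideal U ↔ ∀ x ∈ un G, x ∉ X.basicOpen a :=
  Groth.Agent.CurvesC.DualIdeals.mem_vanishingIdeal_iff (isClosed_un G) U a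

theorem subset_closure_interior [NoetherianSpace X] (G : Set (irreducibleComponents (X : Type u))) :
    un G ⊆ closure (interior (un G)) :=
  Groth.Agent.CurvesC.DualIdeals.subset_closure_interior _ (by
    rintro _ ⟨C, -, rfl⟩
    exact C.2)

theorem isField_stalk [IsReduced X] (C : irreducibleComponents (X : Type u)) :
    IsField (X.presheaf.stalk C.2.1.genericPoint) := by
  have hu : ∀ p : PrimeSpectrum (X.presheaf.stalk C.2.1.genericPoint), p = IsLocalRing.closedPoint _ := by
    intro p
    have h1 : (X.fromSpecStalk C.2.1.genericPoint) p ∈ Set.range (X.fromSpecStalk C.2.1.genericPoint) := ⟨p, rfl⟩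
    rw [Scheme.range_fromSpecStalk] at h1
    have h2 := eq_genericPoint C _ h1
    apply (X.fromSpecStalk C.2.1.genericPoint).isEmbedding.injective
    rw [h2, Scheme.fromSpecStalk_closedPoint]
  have : Subsingleton (PrimeSpectrum (X.presheaf.stalk C.2.1.genericPoint)) :=
    ⟨fun a b => (hu a).trans (hu b).symm⟩
  exact PrimeSpectrum.subsingleton_iff_isField_of_isReduced.mp this

theorem length_of_isField {K R : Type u} [CommRing K] [CommRing R] [Nontrivial R] (hK : IsField K)
    (f : K →+* R) (hf : Function.Surjective f) : Module.length R R = 1 := by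
  rw [Module.length_eq_one_iff]
  have hb : Function.Bijective f := by
    let _ := hK.toField
    exact ⟨f.injective, hf⟩
  have hR : IsField R := (RingEquiv.ofBijective f hb).symm.toMulEquiv.isField hK
  let _ := hR.toField
  exact inferInstance

theorem len_quot [IsReduced X] [NoetherianSpace X] (G : Set (irreducibleComponents (X : Type u)))
    (C : irreducibleComponents (X : Type u)) [Decidable (C ∈ G)] :
    len (ClSub.quotMod (J G)) C = if C ∈ G then 1 else 0 := by
  split_ifs with hC
  · have hz : C.2.1.genericPoint ∈ Set.range (J G).subschemeι := by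
      rw [Scheme.IdealSheafData.range_subschemeι, Scheme.IdealSheafData.coe_support_vanishingIdeal]
      exact gp_mem_un_iff.mpr hC
    obtain ⟨z, hz⟩ := hz
    unfold len
    have hfld := isField_stalk C
    rw [← hz] at hfld ⊢
    set i := (J G).subschemeι with hi
    have h1 := Groth.Agent.CycB.DivNat.length_eq_of_semilinear (i.stalkMap z).hom
      (i.stalkMap_surjective z)
      (Groth.Agent.CycB.PushStalk.pushStalk i (Coh.structureModule (J G).subscheme) z)
      (Groth.Agent.CycB.PushStalk.pushStalk_bijective i i.isClosedEmbedding.isInducing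
        (Coh.structureModule (J G).subscheme) z)
    have h2 := (Groth.Agent.CycB.PushStalk.unitStalk (J G).subscheme z).length_eq
    have h3 : Module.length ((J G).subscheme.presheaf.stalk z) ((J G).subscheme.presheaf.stalk z) = 1 :=
      length_of_isField hfld (i.stalkMap z).hom (i.stalkMap_surjective z)
    change ((Module.length _ (((Scheme.Modules.pushforward i).obj
      (Coh.structureModule (J G).subscheme)).presheaf.stalk (i z))).toNat : ℤ) = 1
    rw [h1, ← h2, h3]
    rfl
  · apply len_eq_zero
    apply Groth.Agent.CycB.PushStalk.subsingleton_stalk_push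
    intro h
    rw [(J G).subschemeι.isClosedEmbedding.isClosed_range.closure_eq,
      Scheme.IdealSheafData.range_subschemeι, Scheme.IdealSheafData.coe_support_vanishingIdeal] at h
    exact hC (gp_mem_un_iff.mp h)

theorem mult_quot [IsReduced X] [NoetherianSpace X] (hdim : ∀ Z ∈ irreducibleComponents (X : Type u),
      topologicalKrullDim Z = 1) (d : irreducibleComponents (X : Type u) → ℤ)
    (G : Set (irreducibleComponents (X : Type u))) :
    mult d (ClSub.quotMod (J G)) = ∑ᶠ C ∈ G, d C := by
  classical
  rw [finsum_mem_def]
  unfold mult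
  refine finsum_congr fun C => ?_
  rw [if_pos (hdim C.1 C.2), len_quot]
  by_cases h : C ∈ G <;> simp [h]

/-- `Σ_{C ∈ G} deg(L|_C)`. -/
noncomputable def sdeg (k : Type u) [Field k] [X.Over (Spec (CommRingCat.of k))] [IsNoetherian X]
    (L : X.Modules) (G : Set (irreducibleComponents (X : Type u))) : ℤ :=
  ∑ᶠ C ∈ G, Groth.Agent.S1641.degC k X 1 L C

theorem phi_quot (k : Type u) [Field k] [X.Over (Spec (CommRingCat.of k))]
    [IsProper (X ↘ (Spec (CommRingCat.of k)))] [IsNoetherian X] [IsReduced X]
    (hdim : topologicalKrullDim X ≤ 1)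
    (hpure : ∀ Z ∈ irreducibleComponents (X : Type u), topologicalKrullDim Z = 1) {L : X.Modules}
    (hL : PicF.IsInvertible L) (G : Set (irreducibleComponents (X : Type u))) :
    DegPhi.phi k X L 1 (ClSub.quotMod (J G)) = sdeg k L G := by
  rw [Groth.Agent.S1641.phi_eq_mult k X hdim 1 L
    (Groth.Agent.Ega2.QCohLocal.isFinLocFreeOfRank_one_iff.mpr hL) _
    (Groth.Agent.CurvesC.DualDeg.isCoh_quotMod _)]
  exact mult_quot hpure _ G

end K900.Comp
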