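import Groth.Agent.CurvSt.K900.TopArg
import Groth.Agent.CurvesC.CompGeom
import Groth.Agent.CurvesC.DegIso
import Groth.Agent.VarietyB.DegComp
import Groth.Agent.S1641
import Groth.Agent.S1530
import Groth.Agent.Fdesc.LocGenPullback
import Groth.Agent.Flat2H.FamOpen

/-!
# Degrees of pulled back modules on contracted and on non-contracted components
-/

set_option autoImplicit false
universe u

open CategoryTheory TopologicalSpace Opposite CategoryTheory.Limits AlgebraicGeometry

namespace K900.DegC

open Groth.Agent.Fdesc.LocGen K900.Comp K900.TopArg Groth.Agent.CurvesC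
open Groth.Agent.CurvesC.CompGeom Groth.Agent.CurvesC.DegIso Groth.Agent.VarietyB

variable {X Y : Scheme.{u}} (k : Type u) [Field k] [X.Over (Spec (CommRingCat.of k))]

theorem degC_eq [IsNoetherian X] (C : irreducibleComponents (X : Type u)) {Z : Scheme.{u}} (i : Z ⟶ X)
    [IsClosedImmersion i] [IsReduced Z] (hi : Set.range i = C.1) [Z.Over (Spec (CommRingCat.of k))]
    (h : i ≫ (X ↘ Spec (CommRingCat.of k)) = Z ↘ Spec (CommRingCat.of k)) (L : X.Modules) :
    Groth.Agent.S1641.degC k X 1 L C = Curv2.deg k Z ((Scheme.Modules.pullback i).obj L) 1 := by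
  obtain ⟨e, he⟩ := DegComp.exists_iso_of_range_eq i (X.irreducibleComponentIdeal C.1 C.2) (by
    rw [hi]
    rfl)
  let _ : (X.irreducibleComponentIdeal C.1 C.2).radical.subscheme.Over (Spec (CommRingCat.of k)) :=
    ⟨(X.irreducibleComponentIdeal C.1 C.2).radical.subschemeι ≫ (X ↘ (Spec (CommRingCat.of k)))⟩
  exact (deg_restrict k i (X.irreducibleComponentIdeal C.1 C.2).radical.subschemeι h rfl e he L 1).symm

omit [X.Over (Spec (CommRingCat.of k))] in
variable {k} in
theorem ι_mem (C : irreducibleComponents (X : Type u)) (z : (IC X C.1 C.2).subscheme) :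
    (IC X C.1 C.2).subschemeι.base z ∈ C.1 := (range_C X C.1 C.2).le ⟨z, rfl⟩

theorem deg_structure (Z : Scheme.{u}) [Z.Over (Spec (CommRingCat.of k))] :
    Curv2.deg k Z (Coh.structureModule Z) 1 = 0 := by
  unfold Curv2.deg
  push_cast
  ring

/-- A morphism with image in a trivializing open set pulls back `L` to a trivial module. -/
theorem nonempty_iso_structure {Z : Scheme.{u}} (f : Z ⟶ Y) {L : Y.Modules} {U : Y.Opens} {e : Γ(L, U)}
    (he : IsGen e) (h : f ⁻¹ᵁ U = ⊤) :
    Nonempty (Coh.structureModule Z ≅ (Scheme.Modules.pullback f).obj L) := by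
  have h1 : IsGen (pullSec f e) := he.pullSec f
  have h3 : IsIso (homOf (res _ h.ge (pullSec f e))) := by
    rw [isIso_iff_isGen, sec_homOf]
    exact (h1.res h.ge).res _
  exact ⟨asIso (homOf (res _ h.ge (pullSec f e)))⟩

theorem degC_eq_zero [IsNoetherian X] (c : X ⟶ Y) {MY : Y.Modules} (hMY : PicF.IsInvertible MY)
    (C : irreducibleComponents (X : Type u)) (hC : Ctr c C) :
    Groth.Agent.S1641.degC k X 1 ((Scheme.Modules.pullback c).obj MY) C = 0 := by
  let _ : (IC X C.1 C.2).subscheme.Over (Spec (CommRingCat.of k)) :=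
    ⟨(IC X C.1 C.2).subschemeι ≫ (X ↘ (Spec (CommRingCat.of k)))⟩
  rw [degC_eq k C (IC X C.1 C.2).subschemeι (range_C X C.1 C.2) rfl, deg_restrict_restrict]
  obtain ⟨U, e, hx, he⟩ := (isInvertible_iff MY).mp hMY (c.base C.2.1.genericPoint)
  obtain ⟨i⟩ := nonempty_iso_structure ((IC X C.1 C.2).subschemeι ≫ c) he (by
    ext z
    simp only [Opens.coe_top, Set.mem_univ, iff_true]
    have h1 : (IC X C.1 C.2).subschemeι.base z ∈ C.1 := ι_mem C z
    have h2 := hC _ h1
    change ((IC X C.1 C.2).subschemeι ≫ c).base z ∈ U
    rw [Scheme.Hom.comp_base]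
    change c.base ((IC X C.1 C.2).subschemeι.base z) ∈ U
    rw [h2]
    exact hx)
  rw [← deg_congr k i 1, deg_structure]

section

variable [Y.Over (Spec (CommRingCat.of k))] [IsProper (X ↘ (Spec (CommRingCat.of k)))]
  [IsProper (Y ↘ (Spec (CommRingCat.of k)))]

/-- A non-constant morphism from an integral curve is finite. -/
theorem isFinite_of_not_ctr (hdim : topologicalKrullDim X ≤ 1) [IsNoetherian X] (c : X ⟶ Y) [IsProper c]
    (C : irreducibleComponents (X : Type u)) (hC : ¬ Ctr c C) :
    IsFinite ((IC X C.1 C.2).subschemeι ≫ c) := by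
  have hinj : Function.Injective (IC X C.1 C.2).subschemeι.base := (IC X C.1 C.2).subschemeι.isClosedEmbedding.injective
  have hqf : LocallyQuasiFinite ((IC X C.1 C.2).subschemeι ≫ c) := by
    refine LocallyQuasiFinite.of_finite_preimage_singleton _ fun y => ?_
    by_cases hy : y = c.base C.2.1.genericPoint
    · -- only the generic point
      subst hy
      have hncl : ¬ IsClosed ({c.base C.2.1.genericPoint} : Set Y) := by
        intro h
        apply hC
        intro x hx
        have h1 : C.1 ⊆ c.base ⁻¹' {c.base C.2.1.genericPoint} :=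
          subset_of_gp_mem (h.preimage c.continuous) rfl
        exact h1 hx
      refine Set.Subsingleton.finite fun z hz w hw => hinj ?_
      have key : ∀ z ∈ ((IC X C.1 C.2).subschemeι ≫ c) ⁻¹' {c.base C.2.1.genericPoint},
          (IC X C.1 C.2).subschemeι.base z = C.2.1.genericPoint := by
        intro z hz
        have h1 : (IC X C.1 C.2).subschemeι.base z ∈ C.1 := ι_mem C z
        have h2 : c.base ((IC X C.1 C.2).subschemeι.base z) = c.base C.2.1.genericPoint := hz
        rcases closed_or_gp hdim ((IC X C.1 C.2).subschemeι.base z) with h | ⟨D, hD⟩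
        · exfalso
          apply hncl
          have := c.isClosedMap _ h
          rwa [Set.image_singleton, show c ((IC X C.1 C.2).subschemeι.base z) = c.base C.2.1.genericPoint from h2]
            at this
        · rw [← hD] at h1 ⊢
          rw [gp_mem_comp_iff.mp h1]
      rw [key z hz, key w hw]
    · -- contained in a finite set of closed points
      set F : Set X := c.base ⁻¹' (closure {y}) with hF
      have hFc : IsClosed F := isClosed_closure.preimage c.continuous
      by_cases hyim : ∃ x ∈ C.1, c.base x = y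
      · obtain ⟨x, hxC, hxy⟩ := hyim
        have hnot : ¬ C.1 ⊆ F := by
          intro h
          apply hy
          have h1 : c.base C.2.1.genericPoint ∈ closure {y} := h (gp_mem C)
          have h2 : C.2.1.genericPoint ⤳ x := by
            rw [specializes_iff_mem_closure, closure_gp]
            exact hxC
          have h3 : c.base C.2.1.genericPoint ⤳ y := hxy ▸ h2.map c.continuous
          have h4 : y ⤳ c.base C.2.1.genericPoint := specializes_iff_mem_closure.mpr h1
          exact (h4.antisymm h3).eq
        have hfin := (finite_inter hdim C hFc hnot).1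
        refine Set.Finite.of_finite_image (f := (IC X C.1 C.2).subschemeι.base) (hfin.subset ?_)
          hinj.injOn
        rintro _ ⟨z, hz, rfl⟩
        refine ⟨?_, ?_⟩
        · have h1 : c.base ((IC X C.1 C.2).subschemeι.base z) = y := hz
          change c.base _ ∈ closure {y}
          rw [h1]
          exact subset_closure rfl
        · exact ι_mem C z
      · have : ((IC X C.1 C.2).subschemeι ≫ c) ⁻¹' {y} = ∅ := by
          ext z
          simp only [Set.mem_empty_iff_false, iff_false]
          intro hz
          exact hyim ⟨(IC X C.1 C.2).subschemeι.base z, ι_mem C z, hz⟩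
        rw [this]
        exact Set.finite_empty
  have : IsProper ((IC X C.1 C.2).subschemeι ≫ c) := inferInstance
  exact IsFinite.of_isProper_of_locallyQuasiFinite _

theorem degC_pos (hdim : topologicalKrullDim X ≤ 1)
    (hpure : ∀ Z ∈ irreducibleComponents (X : Type u), topologicalKrullDim Z = 1) [IsNoetherian X]
    (c : X ⟶ Y) [IsProper c] {MY : Y.Modules} (hMY : CohB1.IsAmple MY)
    (C : irreducibleComponents (X : Type u)) (hC : ¬ Ctr c C) :
    0 < Groth.Agent.S1641.degC k X 1 ((Scheme.Modules.pullback c).obj MY) C := by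
  let _ : (IC X C.1 C.2).subscheme.Over (Spec (CommRingCat.of k)) :=
    ⟨(IC X C.1 C.2).subschemeι ≫ (X ↘ (Spec (CommRingCat.of k)))⟩
  rw [degC_eq k C (IC X C.1 C.2).subschemeι (range_C X C.1 C.2) rfl, deg_restrict_restrict]
  have hfin := isFinite_of_not_ctr hdim c C hC
  have hP : IsProper ((IC X C.1 C.2).subscheme ↘ (Spec (CommRingCat.of k))) :=
    inferInstanceAs (IsProper ((IC X C.1 C.2).subschemeι ≫ (X ↘ (Spec (CommRingCat.of k)))))
  have hd : topologicalKrullDim (IC X C.1 C.2).subscheme = 1 := by
    rw [← DegComp.topologicalKrullDim_range_eq (IC X C.1 C.2).subschemeι, range_C]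
    exact hpure C.1 C.2
  rw [← Groth.Agent.S1530.result k _ hd _ (isInvertible_pullback _ hMY.1)]
  exact Groth.Agent.Flat2H.FamOpen.isAmple_pullback_of_isAffineHom _ hMY

end

end K900.DegC
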