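import Groth.Agent.Dcoh.MonTm
import Groth.Agent.Ega2.TensGen
import Groth.Agent.Fdesc.LocGenPullback
import Groth.Agent.Ega3B.PullTensor

/-!
# The projection map `c_* N ⊗ G ⟶ c_* (N ⊗ c^* G)`

* `mu c N F : c_* N ⊗ c_* F ⟶ c_* (N ⊗ F)`, natural in `F`;
* `kap c N G : c_* N ⊗ G ⟶ c_* (N ⊗ c^* G)`, an isomorphism for `G` invertible.
-/

set_option autoImplicit false
universe u

open CategoryTheory TopologicalSpace Opposite CategoryTheory.Limits AlgebraicGeometry MonoidalCategory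

namespace K900.Kap

open scoped Groth.Agent.Dcoh.MonCat
open Groth.Agent.Ega2.Tens (tmul tmul_res lift lift_tmul add_tmul tmul_add smul_tmul tmul_smul)
open Groth.Agent.Fdesc.LocGen (pullSec res ores pullSec_smul)

variable {X Y : Scheme.{u}} (c : X ⟶ Y)

/-- `c_* N ⊗ c_* F ⟶ c_* (N ⊗ F)`. -/
noncomputable def mu (N F : X.Modules) :
    (Scheme.Modules.pushforward c).obj N ⊗ (Scheme.Modules.pushforward c).obj F ⟶
      (Scheme.Modules.pushforward c).obj (N ⊗ F) :=
  lift (M := (Scheme.Modules.pushforward c).obj N) (N := (Scheme.Modules.pushforward c).obj F)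
      (P := (Scheme.Modules.pushforward c).obj (CohB1.tensorMod N F))
      (fun U => LinearMap.mk₂ Γ(Y, U)
        (fun (m : Γ(N, c ⁻¹ᵁ U)) (n : Γ(F, c ⁻¹ᵁ U)) => (tmul m n : Γ(CohB1.tensorMod N F, c ⁻¹ᵁ U)))
        (fun m m' n => add_tmul (M := N) (N := F) m m' n)
        (fun a m n => smul_tmul (M := N) (N := F) (c.app U a) m n)
        (fun m n n' => tmul_add (M := N) (N := F) m n n')
        (fun a m n => tmul_smul (M := N) (N := F) (c.app U a) m n))
      (fun U V i m n => tmul_res (M := N) (N := F) (homOfLE (c.preimage_mono i.le)) m n)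

/-- A section of the direct image. -/
def tp {F : X.Modules} {V : Y.Opens} (a : Γ(F, c ⁻¹ᵁ V)) : Γ((Scheme.Modules.pushforward c).obj F, V) := a

theorem mu_tm (N F : X.Modules) {V : Y.Opens} (n : Γ(N, c ⁻¹ᵁ V)) (a : Γ(F, c ⁻¹ᵁ V)) :
    (mu c N F).app V (tmul (tp c n) (tp c a)) = tp c (tmul n a) :=
  lift_tmul _ _ V (tp c n) (tp c a)

theorem mu_nat (N : X.Modules) {F F' : X.Modules} (φ : F ⟶ F') :
    (Scheme.Modules.pushforward c).obj N ◁ (Scheme.Modules.pushforward c).map φ ≫ mu c N F' =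
      mu c N F ≫ (Scheme.Modules.pushforward c).map (N ◁ φ) := by
  refine Groth.Agent.Dcoh.MonTm.ext₂ _ _ fun V n a => ?_
  rw [Groth.Agent.Dcoh.MonTm.comp_ap, Groth.Agent.Dcoh.MonTm.comp_ap,
    Groth.Agent.Dcoh.MonTm.whiskerLeft_tm]
  have h1 := mu_tm c N F' n (φ.app (c ⁻¹ᵁ V) a)
  have h2 := mu_tm c N F n a
  refine h1.trans ?_
  refine Eq.trans ?_ (congrArg (fun s => ((Scheme.Modules.pushforward c).map (N ◁ φ)).app V s) h2).symm
  exact (Groth.Agent.Dcoh.MonTm.whiskerLeft_tm (U := c ⁻¹ᵁ V) N φ n a).symm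

/-- `c_* N ⊗ G ⟶ c_* (N ⊗ c^* G)`. -/
noncomputable def kap (N : X.Modules) (G : Y.Modules) :
    (Scheme.Modules.pushforward c).obj N ⊗ G ⟶
      (Scheme.Modules.pushforward c).obj (N ⊗ (Scheme.Modules.pullback c).obj G) :=
  (Scheme.Modules.pushforward c).obj N ◁ (Scheme.Modules.pullbackPushforwardAdjunction c).unit.app G ≫
    mu c N ((Scheme.Modules.pullback c).obj G)

theorem kap_tm (N : X.Modules) (G : Y.Modules) {V : Y.Opens} (n : Γ(N, c ⁻¹ᵁ V)) (g : Γ(G, V)) :
    (kap c N G).app V (tmul (tp c n) g) = tp c (tmul n (pullSec c g)) := by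
  unfold kap
  refine (Groth.Agent.Dcoh.MonTm.comp_ap _ _ _).trans ?_
  refine (congrArg (fun s => (mu c N _).app V s)
    (Groth.Agent.Dcoh.MonTm.whiskerLeft_tm (U := V) ((Scheme.Modules.pushforward c).obj N)
      ((Scheme.Modules.pullbackPushforwardAdjunction c).unit.app G) (tp c n) g)).trans ?_
  exact mu_tm c N _ n (pullSec c g)

open Groth.Agent.Fdesc.LocGen in
theorem isIso_kap (N : X.Modules) {G : Y.Modules} (hG : PicF.IsInvertible G) : IsIso (kap c N G) := by
  apply Groth.Agent.Fga.UnitRestrict.isIso_of_locally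
  intro y
  obtain ⟨U, e, hy, he⟩ := (isInvertible_iff G).mp hG y
  refine ⟨U, hy, ?_⟩
  rw [Scheme.Modules.Hom.isIso_iff_isIso_app]
  intro V
  change IsIso ((kap c N G).app (U.ι ''ᵁ V))
  have hV : U.ι ''ᵁ V ≤ U := U.ι_image_le V
  generalize U.ι ''ᵁ V = W at hV ⊢
  rw [ConcreteCategory.isIso_iff_bijective]
  have he1 : IsGen (Groth.Agent.Fdesc.LocGen.res G hV e) := he.res hV
  have he2 : IsGen (Groth.Agent.Fdesc.LocGen.pullSec c (Groth.Agent.Fdesc.LocGen.res G hV e)) := he1.pullSec c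
  have b1 := Groth.Agent.Ega2.TensGen.tmul_gen_bijective (F := (Scheme.Modules.pushforward c).obj N) he1
  have b2 := Groth.Agent.Ega2.TensGen.tmul_gen_bijective (F := N) he2
  refine (b1.of_comp_iff ((kap c N G).app W)).mp ?_
  have h3 : ((kap c N G).app W : _ → _) ∘ (fun t => Groth.Agent.Fdesc.LocGen.tmul t
      (Groth.Agent.Fdesc.LocGen.res G hV e)) = fun n => Groth.Agent.Fdesc.LocGen.tmul n
        (Groth.Agent.Fdesc.LocGen.pullSec c (Groth.Agent.Fdesc.LocGen.res G hV e)) := by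
    funext n
    exact kap_tm c N G n _
  rw [h3]
  exact b2

end K900.Kap
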