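import Groth.Agent.CurvSt.K900.Twist
import Groth.Agent.CurvSt.K900.Acyc
import Groth.Agent.CurvSt.K900.Kap
import Groth.Agent.CurvSt.K900.DegC
import Groth.Agent.CurvSt.K900.Comp
import Groth.Agent.Dcoh.MonTm
import Groth.Agent.CurvesC.CurveCoh
import Groth.Agent.Fga.UnitRestrict

/-!
# Total degrees
-/

set_option autoImplicit false
universe u

open CategoryTheory TopologicalSpace Opposite CategoryTheory.Limits AlgebraicGeometry MonoidalCategory

namespace K900.Tot

open scoped Groth.Agent.Dcoh.MonCat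
open Groth.Agent.CohqB.HSeqMod Groth.Agent.CurvesC.DualCount K900.Edge
open Groth.Agent.Fdesc.LocGen (IsGen res ores app_res res_smul pullSec pullSec_smul homOf sec homOf_app sec_homOf
  homOf_sec isInvertible_iff isInvertible_pullback)
open Groth.Agent.Ega2.Tens (tmul runit runit_inv_app sm)

section Dual

variable {X : Scheme.{u}} (k : Type u) [Field k] [X.Over (Spec (CommRingCat.of k))] {N M w : X.Modules}

/-- The right unit isomorphism. -/
noncomputable def ru (N : X.Modules) : N ⊗ (Coh.structureModule X : X.Modules) ≅ N := runit N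

theorem ru_inv_app (N : X.Modules) {U : X.Opens} (n : Γ(N, U)) :
    (ru N).inv.app U n = tmul n (sm 1) := runit_inv_app n

/-- `n ↦ α(n ⊗ s)`. -/
noncomputable def theta (α : N ⊗ M ≅ w) (s : Γ(M, ⊤)) : N ⟶ w :=
  (ru N).inv ≫ (N ◁ homOf s ≫ α.hom)

theorem theta_app (α : N ⊗ M ≅ w) (s : Γ(M, ⊤)) {U : X.Opens} (n : Γ(N, U)) :
    (theta α s).app U n = α.hom.app U (tmul n (res M le_top s)) := by
  unfold theta
  rw [Groth.Agent.Dcoh.MonTm.comp_ap, Groth.Agent.Dcoh.MonTm.comp_ap, ru_inv_app]
  congr 1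
  refine (Groth.Agent.Dcoh.MonTm.whiskerLeft_tm N (homOf s) n (sm 1)).trans ?_
  have h : (homOf s).app U (sm 1) = res M le_top s := by
    refine (homOf_app s U 1).trans ?_
    exact one_smul _ _
  exact congrArg (fun z => tmul n z) h

theorem bijective_theta (hN : PicF.IsInvertible N) (α : N ⊗ M ≅ w) : Function.Bijective (theta α) := by
  have := K900.Twist.isEquivalence_tensorLeft_of_isInvertible hN
  constructor
  · intro s s' h
    have h1 : N ◁ homOf s = N ◁ homOf s' := by
      unfold theta at h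
      rw [cancel_epi, cancel_mono] at h
      exact h
    have h3 : homOf s = homOf s' := (tensorLeft N).map_injective h1
    have h4 := sec_homOf s ⊤
    have h5 := sec_homOf s' ⊤
    rw [h3] at h4
    have h6 := h4.symm.trans h5
    simpa using h6
  · intro φ
    obtain ⟨ψ, hψ⟩ := (tensorLeft N).map_surjective ((ru N).hom ≫ φ ≫ α.inv)
    refine ⟨sec ψ ⊤, ?_⟩
    unfold theta
    rw [homOf_sec]
    have h1 : N ◁ ψ = (ru N).hom ≫ φ ≫ α.inv := hψ
    rw [h1, Category.assoc, Category.assoc, α.inv_hom_id, Category.comp_id, (ru N).inv_hom_id_assoc]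

theorem h0_eq_h1 (hN : PicF.IsInvertible N) (α : N ⊗ M ≅ w) {t : Coh.HH X w 1 →ₗ[k] k} (ht : IsPair k t) :
    Module.finrank k (Coh.HH X M 0) = Module.finrank k (Coh.HH X N 1) := by
  refine h0_eq ht (Groth.Agent.Ega2.QCohLocal.isQCoh_of_isInvertible hN) (theta α) ?_ ?_ (bijective_theta hN α)
  · intro s s'
    refine Scheme.Modules.hom_ext _ _ fun U => ?_
    ext n
    change (theta α (s + s')).app U n = (theta α s).app U n + (theta α s').app U n
    rw [theta_app, theta_app, theta_app, map_add, Groth.Agent.Ega2.Tens.tmul_add]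
    exact (α.hom.app U).hom.map_add _ _
  · intro r s U n
    rw [theta_app, theta_app, res_smul, Groth.Agent.Ega2.Tens.tmul_smul]
    exact Scheme.Modules.Hom.app_smul _ _ _

theorem euler_dual [IsProper (X ↘ (Spec (CommRingCat.of k)))] (hdim : topologicalKrullDim X = 1)
    (hN : PicF.IsInvertible N) (hM : PicF.IsInvertible M) (α : N ⊗ M ≅ w)
    {t : Coh.HH X w 1 →ₗ[k] k} (ht : IsPair k t) : Curv2.euler k X M = - Curv2.euler k X N := by
  have e1 := h0_eq_h1 k hN α ht
  have e2 := h0_eq_h1 k hM (Groth.Agent.Ega2.Tens.swap M N ≪≫ α) ht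
  rw [Groth.Agent.CurvesC.CurveCoh.euler_eq k X hdim, Groth.Agent.CurvesC.CurveCoh.euler_eq k X hdim, e1, e2]
  ring

end Dual

section Edge

variable {X Y : Scheme.{u}} (c : X ⟶ Y) (k : Type u) [Field k] [X.Over (Spec (CommRingCat.of k))]
  [Y.Over (Spec (CommRingCat.of k))]
  (hc : c ≫ (Y ↘ Spec (CommRingCat.of k)) = X ↘ Spec (CommRingCat.of k))

theorem euler_push {M : X.Modules} (h : ∀ n, Function.Bijective (edge c k hc M n)) :
    Curv2.euler k Y ((Scheme.Modules.pushforward c).obj M) = Curv2.euler k X M := by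
  unfold Curv2.euler
  refine finsum_congr fun n => ?_
  rw [(LinearEquiv.ofBijective (edge c k hc M n) (h n)).finrank_eq]

theorem app_bijective (hu : IsIso (ClSub.unitToPush c)) (V : Y.Opens) : Function.Bijective (c.app V) := by
  rw [Scheme.Modules.Hom.isIso_iff_isIso_app] at hu
  have h1 := hu V
  exact ConcreteCategory.bijective_of_isIso ((ClSub.unitToPush c).app V)

/-- `G ⟶ c_* c^* G` is an isomorphism for `G` invertible if `O_Y ≅ c_* O_X`. -/
theorem isIso_unit (hu : IsIso (ClSub.unitToPush c)) {G : Y.Modules} (hG : PicF.IsInvertible G) :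
    IsIso ((Scheme.Modules.pullbackPushforwardAdjunction c).unit.app G) := by
  apply Groth.Agent.Fga.UnitRestrict.isIso_of_locally
  intro y
  obtain ⟨U, e, hy, he⟩ := (isInvertible_iff G).mp hG y
  refine ⟨U, hy, ?_⟩
  rw [Scheme.Modules.Hom.isIso_iff_isIso_app]
  intro V
  change IsIso (((Scheme.Modules.pullbackPushforwardAdjunction c).unit.app G).app (U.ι ''ᵁ V))
  have hV : U.ι ''ᵁ V ≤ U := U.ι_image_le V
  generalize U.ι ''ᵁ V = W at hV ⊢
  rw [ConcreteCategory.isIso_iff_bijective]
  have he1 : IsGen (res G hV e) := he.res hV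
  have he2 : IsGen (pullSec c (res G hV e)) := he1.pullSec c
  refine (he1.bijective.of_comp_iff
    (((Scheme.Modules.pullbackPushforwardAdjunction c).unit.app G).app W)).mp ?_
  have h3 : (((Scheme.Modules.pullbackPushforwardAdjunction c).unit.app G).app W : _ → _) ∘
      (fun a : Γ(Y, W) => a • res G hV e) =
        (fun b : Γ(X, c ⁻¹ᵁ W) => b • pullSec c (res G hV e)) ∘ (c.app W) := by
    funext a
    exact pullSec_smul c a (res G hV e)
  rw [h3]
  exact he2.bijective.comp (app_bijective c hu W)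

end Edge

section Deg

variable {X : Scheme.{u}} (k : Type u) [Field k] [X.Over (Spec (CommRingCat.of k))]
  [IsProper (X ↘ (Spec (CommRingCat.of k)))] [IsNoetherian X] [IsReduced X]

open Groth.Agent.VarietyB in
theorem deg_eq_sum (hdim : topologicalKrullDim X ≤ 1)
    (hpure : ∀ Z ∈ irreducibleComponents (X : Type u), topologicalKrullDim Z = 1) {L : X.Modules}
    (hL : PicF.IsInvertible L) :
    Curv2.deg k X L 1 = ∑ᶠ C, Groth.Agent.S1641.degC k X 1 L C := by
  rw [← DegPhi.phi_unit k X, Groth.Agent.S1641.phi_eq_mult k X hdim 1 L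
    (Groth.Agent.Ega2.QCohLocal.isFinLocFreeOfRank_one_iff.mpr hL) _
    (Groth.Agent.CurvesB.UnitCoh.isCoh_structureModule X), DegMult.mult_unit]
  refine finsum_congr fun C => ?_
  rw [if_pos (hpure C.1 C.2), K900.Comp.length_of_isField (K900.Comp.isField_stalk C) (RingHom.id _)
    Function.surjective_id]
  simp

end Deg

/-- Equality of the total degrees. -/
theorem tot {X Y : Scheme.{u}} (c : X ⟶ Y) (k : Type u) [Field k] [X.Over (Spec (CommRingCat.of k))]
    [Y.Over (Spec (CommRingCat.of k))]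
    (hc : c ≫ (Y ↘ Spec (CommRingCat.of k)) = X ↘ Spec (CommRingCat.of k))
    [IsProper (X ↘ (Spec (CommRingCat.of k)))] [IsNoetherian X] [IsReduced X]
    [IsProper (Y ↘ (Spec (CommRingCat.of k)))]
    (hdim : topologicalKrullDim X = 1) (hdimY : topologicalKrullDim Y = 1)
    (hpure : ∀ Z ∈ irreducibleComponents (X : Type u), topologicalKrullDim Z = 1)
    (hu : IsIso (ClSub.unitToPush c))
    {N M w : X.Modules} (hN : PicF.IsInvertible N) (hM : PicF.IsInvertible M) (α : N ⊗ M ≅ w)
    {t : Coh.HH X w 1 →ₗ[k] k} (ht : IsPair k t)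
    {MY wY : Y.Modules} (hMY : PicF.IsInvertible MY)
    (hNY : PicF.IsInvertible ((Scheme.Modules.pushforward c).obj N))
    (β : (Scheme.Modules.pushforward c).obj N ⊗ MY ≅ wY)
    {tY : Coh.HH Y wY 1 →ₗ[k] k} (htY : IsPair k tY)
    (hE1 : ∀ n, Function.Bijective (edge c k hc N n))
    (hE2 : ∀ n, Function.Bijective (edge c k hc ((Scheme.Modules.pullback c).obj MY) n)) :
    ∑ᶠ C, Groth.Agent.S1641.degC k X 1 ((Scheme.Modules.pullback c).obj MY) C =
      ∑ᶠ C, Groth.Agent.S1641.degC k X 1 M C := by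
  rw [← deg_eq_sum k hdim.le hpure (isInvertible_pullback c hMY), ← deg_eq_sum k hdim.le hpure hM]
  have := isIso_unit c hu hMY
  have e1 := euler_dual k hdim hN hM α ht
  have e2 := euler_dual k hdimY hNY hMY β htY
  have e3 := euler_push c k hc hE1
  have e4 := euler_push c k hc hE2
  have e5 := Groth.Agent.VarietyB.DegPhi.euler_congr k
    (asIso ((Scheme.Modules.pullbackPushforwardAdjunction c).unit.app MY))
  have e6 : Curv2.euler k X ((Scheme.Modules.pullback c).obj MY) = Curv2.euler k X M := by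
    rw [← e4, e1, ← e3, ← e2]
    exact e5.symm
  unfold Curv2.deg
  rw [e6]

end K900.Tot
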