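import Groth.Agent.CurvSt.K900.Phi
import Groth.Agent.CurvSt.K900.Ineq
import Groth.Agent.CurvSt.K900.Tot
import Groth.Agent.CurvSt.K900.NonVan
import Groth.Agent.CurvSt.K900.MainArg
import Groth.Agent.S2431
import Groth.Agent.Ega3B.PullTensor

/-!
# Uniqueness of stable contractions over a field: the fibres agree
-/

set_option autoImplicit false
universe u

open CategoryTheory TopologicalSpace Opposite CategoryTheory.Limits AlgebraicGeometry MonoidalCategory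

namespace K900.FieldThm

open scoped Groth.Agent.Dcoh.MonCat
open Groth.Agent.CurvesC.DualCount K900.Comp K900.TopArg K900.Loc K900.Acyc
open Groth.Agent.Fdesc.LocGen (IsGen res ores app_res res_smul pullSec pullSec_smul isInvertible_iff
  isInvertible_pullback exists_affine_gen ofFun)

section Psi

variable {X : Scheme.{u}}

/-- `w ≅ N ⊗ M ⟶ O ⊗ M ≅ M`. -/
noncomputable def psi {N M w : X.Modules} (α : N ⊗ M ≅ w) (ν : N ⟶ Coh.structureModule X) : w ⟶ M :=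
  α.inv ≫ (Groth.Agent.Ega2.Tens.mapT ν (𝟙 M) ≫ (Groth.Agent.Ega2.Tens.lunit M).hom)

theorem psi_app {N M w : X.Modules} (α : N ⊗ M ≅ w) (ν : N ⟶ Coh.structureModule X) {U : X.Opens}
    (n : Γ(N, U)) (m : Γ(M, U)) (r : Γ(X, U)) (hr : ν.app U n = Groth.Agent.Ega2.Tens.sm r) :
    (psi α ν).app U (α.hom.app U (Groth.Agent.Ega2.Tens.tmul n m)) = r • m := by
  unfold psi
  rw [Groth.Agent.Dcoh.MonTm.comp_ap, Groth.Agent.Dcoh.MonTm.comp_ap]
  have h1 : α.inv.app U (α.hom.app U (Groth.Agent.Ega2.Tens.tmul n m)) = Groth.Agent.Ega2.Tens.tmul n m := by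
    rw [← Groth.Agent.Dcoh.MonTm.comp_ap, α.hom_inv_id]
    rfl
  rw [h1]
  have h2 := Groth.Agent.Ega2.Tens.mapT_tmul ν (𝟙 M) n m
  have h3 : (Groth.Agent.Ega2.Tens.mapT ν (𝟙 M)).app U (Groth.Agent.Ega2.Tens.tmul n m) =
      Groth.Agent.Ega2.Tens.tmul (Groth.Agent.Ega2.Tens.sm r) m := by
    rw [h2, hr]
    rfl
  exact (congrArg (fun z => (Groth.Agent.Ega2.Tens.lunit M).hom.app U z) h3).trans
    (Groth.Agent.Ega2.Tens.lunit_hom_tmul r m)

theorem mem_W_psi {N M w : X.Modules} (hM : PicF.IsInvertible M) (α : N ⊗ M ≅ w)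
    (ν : N ⟶ Coh.structureModule X) {x : X} (hx : x ∈ W ν) : x ∈ W (psi α ν) := by
  obtain ⟨U, e, hxU, he, hν⟩ := hx
  obtain ⟨V, f, -, hxV, hVU, hf⟩ := exists_affine_gen hM hxU
  have h1 : IsGen (Groth.Agent.Ega2.Tens.tmul (res N hVU e) f) :=
    Groth.Agent.Ega3B.PullTensor.isGen_tmul (he.res hVU) hf
  have h2 : IsGen (α.hom.app V (Groth.Agent.Ega2.Tens.tmul (res N hVU e) f)) := h1.app α.hom
  refine ⟨V, _, hxV, h2, ?_⟩
  have h3 : IsGen (ν.app V (res N hVU e)) := by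
    rw [app_res]
    exact hν.res hVU
  obtain ⟨r, hr⟩ := Groth.Agent.Ega2.Tens.exists_sm (ν.app V (res N hVU e))
  rw [psi_app α ν _ f r hr]
  refine hf.unit_smul ?_
  rw [hr] at h3
  have h4 : IsGen (M := Coh.structureModule X) (Groth.Agent.Ega2.Tens.sm (1 : Γ(X, V))) :=
    Groth.Agent.Fdesc.LocGen.isGen_one V
  have h5 : (Groth.Agent.Ega2.Tens.sm r : Γ(Coh.structureModule X, V)) =
      r • (Groth.Agent.Ega2.Tens.sm (1 : Γ(X, V)) : Γ(Coh.structureModule X, V)) :=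
    Groth.Agent.Ega2.Tens.sm_eq_smul r
  rw [h5] at h3
  exact h4.smul_iff.mp h3

end Psi

variable {X Y : Scheme.{u}} (c : X ⟶ Y) (k : Type u) [Field k] [X.Over (Spec (CommRingCat.of k))]
  [Y.Over (Spec (CommRingCat.of k))]
  (hc : c ≫ (Y ↘ Spec (CommRingCat.of k)) = X ↘ Spec (CommRingCat.of k))
  [IsProper (X ↘ (Spec (CommRingCat.of k)))] [IsProper (Y ↘ (Spec (CommRingCat.of k)))]

include hc in
theorem isProper_c : IsProper c := by
  have : IsProper (c ≫ (Y ↘ Spec (CommRingCat.of k))) := by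
    rw [hc]
    infer_instance
  exact IsProper.of_comp c (Y ↘ Spec (CommRingCat.of k))

theorem isPreconnected_fibre [IsNoetherian Y] [IsProper c] (hu : IsIso (ClSub.unitToPush c)) (y : Y) :
    _root_.IsPreconnected (c.base ⁻¹' {y}) := by
  have h1 := (Groth.Agent.S2431.result c (fun U => by
    rw [ConcreteCategory.isIso_iff_bijective]
    exact K900.Tot.app_bijective c hu U)).1 y
  have h2 : Set.range (c.fiberι y) = c.base ⁻¹' {y} := c.range_fiberι y
  rw [← h2]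
  exact isPreconnected_range (c.fiberι y).continuous

include hc in
theorem single [IsNoetherian X] [IsNoetherian Y] [IsReduced X] (hdim : topologicalKrullDim X = 1)
    (hdimY : topologicalKrullDim Y = 1)
    (hpure : ∀ Z ∈ irreducibleComponents (X : Type u), topologicalKrullDim Z = 1)
    (hu : IsIso (ClSub.unitToPush c))
    {N M w : X.Modules} (hN : PicF.IsInvertible N) (hM : PicF.IsInvertible M) (hw : PicF.IsInvertible w)
    (α : N ⊗ M ≅ w) (ν : N ⟶ Coh.structureModule X)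
    (hν : ∀ C : irreducibleComponents (X : Type u), C.2.1.genericPoint ∈ W ν)
    {t : Coh.HH X w 1 →ₗ[k] k} (ht : IsPair k t)
    {MY wY : Y.Modules} (hMY : CohB1.IsAmple MY)
    (hNY : PicF.IsInvertible ((Scheme.Modules.pushforward c).obj N))
    (β : (Scheme.Modules.pushforward c).obj N ⊗ MY ≅ wY)
    {tY : Coh.HH Y wY 1 →ₗ[k] k} (htY : IsPair k tY)
    (hO1 : LocVan c (Coh.structureModule X)) (hN1 : LocVan c N) :
    ∃ T : Set (irreducibleComponents (X : Type u)), (∀ C ∈ T, Ctr c C) ∧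
      (∀ C, Ctr c C → Groth.Agent.S1641.degC k X 1 ((Scheme.Modules.pullback c).obj MY) C = 0) ∧
      (∀ C, ¬ Ctr c C → 0 < Groth.Agent.S1641.degC k X 1 ((Scheme.Modules.pullback c).obj MY) C) ∧
      (∀ G, Good G T → ∑ᶠ C ∈ G, Groth.Agent.S1641.degC k X 1 ((Scheme.Modules.pullback c).obj MY) C ≤
        ∑ᶠ C ∈ G, Groth.Agent.S1641.degC k X 1 M C) ∧
      ∑ᶠ C, Groth.Agent.S1641.degC k X 1 ((Scheme.Modules.pullback c).obj MY) C =
        ∑ᶠ C, Groth.Agent.S1641.degC k X 1 M C := by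
  have hP := isProper_c c k hc
  have hMYi : PicF.IsInvertible MY := hMY.1
  have hL : PicF.IsInvertible ((Scheme.Modules.pullback c).obj MY) := isInvertible_pullback c hMYi
  obtain ⟨φ, τ, hτ⟩ := K900.Phi.exists_phi c k hc hN α
    (Groth.Agent.Ega2.QCohLocal.isQCoh_of_isInvertible hM) ht hMYi hNY β htY
    (edge_twist c k hc hN1 hMYi 1)
  have hctr : ∀ C ∈ {C : irreducibleComponents (X : Type u) | C.2.1.genericPoint ∉ W φ}, Ctr c C := by
    intro C hC
    by_contra h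
    exact hC (K900.NonVan.gp_mem_W hdim.le c c.isClosedMap (isPreconnected_fibre c hu) hMYi hM φ τ hτ C h)
  have h0 : ∀ C, Ctr c C → Groth.Agent.S1641.degC k X 1 ((Scheme.Modules.pullback c).obj MY) C = 0 :=
    fun C hC => K900.DegC.degC_eq_zero k c hMYi C hC
  refine ⟨_, hctr, h0, ?_, ?_, ?_⟩
  · intro C hC
    exact K900.DegC.degC_pos k hdim.le hpure c hMY C hC
  · intro G hG
    exact K900.Ineq.main k hdim hpure hw ht φ hL hM (psi α ν) (fun C => mem_W_psi hM α ν (hν C)) _ rfl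
      (fun C hC => h0 C (hctr C hC)) G hG
  · exact K900.Tot.tot c k hc hdim hdimY hpure hu hN hM α ht hMYi hNY β htY
      (edge_bijective_locVan c k hc hN1) (edge_pullback c k hc hO1 hMYi)

section Two

variable {X Y₁ Y₂ : Scheme.{u}} (k : Type u) [Field k] [X.Over (Spec (CommRingCat.of k))]
  [Y₁.Over (Spec (CommRingCat.of k))] [Y₂.Over (Spec (CommRingCat.of k))]
  [IsProper (X ↘ (Spec (CommRingCat.of k)))] [IsProper (Y₁ ↘ (Spec (CommRingCat.of k)))]
  [IsProper (Y₂ ↘ (Spec (CommRingCat.of k)))]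

/-- Two contractions of the same curve with ample twisted dualizing modules have the same fibres. -/
theorem fibres [IsNoetherian X] [IsNoetherian Y₁] [IsNoetherian Y₂] [IsReduced X] [ConnectedSpace X]
    (hdim : topologicalKrullDim X = 1)
    (hpure : ∀ Z ∈ irreducibleComponents (X : Type u), topologicalKrullDim Z = 1)
    {N M w : X.Modules} (hN : PicF.IsInvertible N) (hM : PicF.IsInvertible M) (hw : PicF.IsInvertible w)
    (α : N ⊗ M ≅ w) (ν : N ⟶ Coh.structureModule X)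
    (hν : ∀ C : irreducibleComponents (X : Type u), C.2.1.genericPoint ∈ W ν)
    {t : Coh.HH X w 1 →ₗ[k] k} (ht : IsPair k t)
    (c₁ : X ⟶ Y₁) (hc₁ : c₁ ≫ (Y₁ ↘ Spec (CommRingCat.of k)) = X ↘ Spec (CommRingCat.of k))
    (hdimY₁ : topologicalKrullDim Y₁ = 1) (hu₁ : IsIso (ClSub.unitToPush c₁))
    {MY₁ wY₁ : Y₁.Modules} (hMY₁ : CohB1.IsAmple MY₁)
    (hNY₁ : PicF.IsInvertible ((Scheme.Modules.pushforward c₁).obj N))
    (β₁ : (Scheme.Modules.pushforward c₁).obj N ⊗ MY₁ ≅ wY₁)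
    {tY₁ : Coh.HH Y₁ wY₁ 1 →ₗ[k] k} (htY₁ : IsPair k tY₁)
    (hO₁ : LocVan c₁ (Coh.structureModule X)) (hN₁ : LocVan c₁ N)
    (c₂ : X ⟶ Y₂) (hc₂ : c₂ ≫ (Y₂ ↘ Spec (CommRingCat.of k)) = X ↘ Spec (CommRingCat.of k))
    (hdimY₂ : topologicalKrullDim Y₂ = 1) (hu₂ : IsIso (ClSub.unitToPush c₂))
    {MY₂ wY₂ : Y₂.Modules} (hMY₂ : CohB1.IsAmple MY₂)
    (hNY₂ : PicF.IsInvertible ((Scheme.Modules.pushforward c₂).obj N))
    (β₂ : (Scheme.Modules.pushforward c₂).obj N ⊗ MY₂ ≅ wY₂)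
    {tY₂ : Coh.HH Y₂ wY₂ 1 →ₗ[k] k} (htY₂ : IsPair k tY₂)
    (hO₂ : LocVan c₂ (Coh.structureModule X)) (hN₂ : LocVan c₂ N)
    (x x' : X) (hxx : c₂.base x = c₂.base x') : c₁.base x = c₁.base x' := by
  have := isProper_c c₁ k hc₁
  have := isProper_c c₂ k hc₂
  obtain ⟨T₁, a₁, b₁, p₁, l₁, -⟩ := single c₁ k hc₁ hdim hdimY₁ hpure hu₁ hN hM hw α ν hν ht hMY₁ hNY₁ β₁ htY₁
    hO₁ hN₁
  obtain ⟨T₂, a₂, b₂, -, l₂, t₂⟩ := single c₂ k hc₂ hdim hdimY₂ hpure hu₂ hN hM hw α ν hν ht hMY₂ hNY₂ β₂ htY₂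
    hO₂ hN₂
  exact K900.MainArg.main hdim.le c₁ c₂ c₁.isClosedMap c₂.isClosedMap (isPreconnected_fibre c₂ hu₂)
    _ _ _ T₁ T₂ a₁ a₂ b₁ p₁ b₂ l₁ l₂ t₂ x x' hxx

end Two

end K900.FieldThm
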