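import Groth.Agent.S1752
import Groth.Agent.CurvesC.DualNodal
import Groth.Agent.CurvesC.DualDegForm
import Groth.Agent.CurvesC.Ample1675

/-!
# Dualizing pairs of at-worst-nodal curves, without reference to the twisted inverse image
-/

set_option autoImplicit false
universe u
open CategoryTheory CategoryTheory.Limits AlgebraicGeometry TopologicalSpace Opposite

namespace K900.DualBasic

open Groth.Agent.CurvesC Groth.Agent.CurvesC.DualCount

variable (k : Type u) [Field k] (X : Scheme.{u}) [X.Over (Spec (CommRingCat.of k))]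

theorem isDual_of_isPair {w : X.Modules} {t : Coh.HH X w 1 →ₗ[k] k} (h : IsPair k t) :
    IsDual w (t ∘ₗ (HV.equiv k w 1).toLinearMap) := by
  intro F hF ψ
  obtain ⟨φ, hφ, hu⟩ := h F hF (ψ ∘ₗ (HV.equiv k F 1).symm.toLinearMap)
  have key : ∀ (φ' : F ⟶ w) (x : HV X F 1),
      (HV.equiv k w 1) (HV.map k φ' 1 x) =
        Sheaf.H.map ((SheafOfModules.toSheaf X.ringCatSheaf).map φ') 1 (HV.equiv k F 1 x) :=
    fun φ' x => HV.equiv_map k φ' 1 x
  refine ⟨φ, ?_, fun φ' hφ' => hu φ' fun x => ?_⟩
  · ext x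
    have h1 := hφ (HV.equiv k F 1 x)
    simp only [LinearMap.comp_apply, LinearEquiv.coe_coe, LinearEquiv.symm_apply_apply] at h1 ⊢
    rw [key, h1]
  · have h1 := LinearMap.congr_fun hφ' ((HV.equiv k F 1).symm x)
    simp only [LinearMap.comp_apply, LinearEquiv.coe_coe] at h1 ⊢
    rw [← h1, key, LinearEquiv.apply_symm_apply]

variable [IsProper (X ↘ (Spec (CommRingCat.of k)))]

theorem exists_pair (hdim : topologicalKrullDim X = 1)
    (h0 : Module.finrank k (Coh.HH X (Coh.structureModule X) 0) = 1) (hX : Curv2.AtWorstNodal k X) :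
    ∃ (w : X.Modules) (t : Coh.HH X w 1 →ₗ[k] k), PicF.IsInvertible w ∧ IsPair k t := by
  obtain ⟨w, t, hw, ht⟩ := Groth.Agent.S1752.result k X 1 hdim
  exact ⟨w, t, DualNodal.isInvertible_of_isDual k hdim h0 hX (isDual_of_isPair k X ht) hw.1, ht⟩

/-- The dualizing module of a nodal curve without rational tails and bridges is ample. -/
theorem isAmple (hdim : topologicalKrullDim X = 1)
    (h0 : Module.finrank k (Coh.HH X (Coh.structureModule X) 0) = 1) (hX : Curv2.AtWorstNodal k X)
    (hnt : ∀ (C : Set X) (hC : C ∈ irreducibleComponents (X : Type u)), ¬ Curv2.IsRationalTail X C hC)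
    (hnb : ∀ (C : Set X) (hC : C ∈ irreducibleComponents (X : Type u)), ¬ Curv2.IsRationalBridge k X C hC)
    (hg : 2 ≤ Curv2.genus k X) {w : X.Modules} (hw : PicF.IsInvertible w) {t : Coh.HH X w 1 →ₗ[k] k}
    (ht' : IsPair k t) : CohB1.IsAmple w := by
  have hN : IsNoetherian X := Groth.Agent.CurvesC.CurveCoh.noetherianSpace k X
  have hR : IsReduced X := Groth.Agent.CurvesC.GenusOne512.isReduced_of_atWorstNodal k X hX
  obtain ⟨hconn, -, hcomp⟩ := Groth.Agent.S1534.result k X hdim h0
  refine Groth.Agent.CurvesC.Ample1675.isAmple_of_degree_formula k X hdim h0 hnt hnb hg _ hw (fun C hC => ?_)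
  have hcl : IsClosed C := isClosed_of_mem_irreducibleComponents C hC
  have hY : C ⊆ closure (interior C) := by
    have h1 := Groth.Agent.CurvesC.DualIdeals.subset_closure_interior (X := X) {C} (Set.singleton_subset_iff.mpr hC)
    rwa [Set.sUnion_singleton] at h1
  refine (Groth.Agent.CurvesC.DualDegForm.deg_form k hdim _ hw ht' ⟨C, hcl⟩ hY).trans ?_
  let _ := Groth.Agent.CurvesC.NodalPos.overC k X C hC
  have hP : IsProper ((Groth.Agent.CurvesC.CompGeom.IC X C hC).subscheme ↘ (Spec (CommRingCat.of k))) :=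
    inferInstanceAs (IsProper (Groth.Agent.CurvesC.NodalPos.gC k X C hC))
  rw [Groth.Agent.CurvesC.CurveCoh.euler_eq k (Groth.Agent.CurvesC.CompGeom.IC X C hC).subscheme
    (Groth.Agent.CurvesC.Ample1675.dim_C X hcomp C hC)]
  congr 3
  · exact congrArg Nat.cast (Groth.Agent.CurvesC.TailNum.finrank_quotMod k X (Groth.Agent.CurvesC.CompGeom.IC X C hC) 0).symm
  · exact congrArg Nat.cast (Groth.Agent.CurvesC.TailNum.finrank_quotMod k X (Groth.Agent.CurvesC.CompGeom.IC X C hC) 1).symm

end K900.DualBasic
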