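import Groth.Agent.CurvSt.K896.TailBridge
import Groth.Agent.Curves.K326.SemiStab
import Groth.Agent.CurvesC.AmpleComp
import Groth.Agent.Grpsch.PicGrp
import Groth.Agent.CurvSt.K900.DualBasic
import Groth.Prelude.Def_StCurv

/-!
# Ampleness of the twisted dualizing module of a stable pointed curve over an algebraically closed field
-/

set_option autoImplicit false
universe u
open CategoryTheory CategoryTheory.Limits AlgebraicGeometry TopologicalSpace Opposite IsLocalRing

namespace K900.PtAmple

open Groth.Agent.Divis.CartierBasic Groth.Agent.Divis.CartierStalk Groth.Agent.CurvesC.TailGeom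
open Groth.Agent.CurvesB Groth.Agent.CurvesC K326.StalkVan K326.PtsDiv K326.DegPts Groth.Agent K326.SemiStab
open Groth.Agent.CurvesC.TailNum Groth.Agent.CurvesC.DegIso Groth.Agent.CurvesC.TailComp

attribute [local instance] subOver

variable (k : Type u) [Field k] [IsAlgClosed k] (X : Scheme.{u}) [X.Over (Spec (CommRingCat.of k))]
  [IsProper (X ↘ (Spec (CommRingCat.of k)))] [IsReduced X] [ConnectedSpace X]

/-- The twisted dualizing module is ample if every component of genus zero has three special points. -/
theorem isAmple (hdim : topologicalKrullDim X = 1) (hX : Curv2.AtWorstNodal k X) {n : ℕ}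
    {p : Fin n → X} (hp : Pts k n p) (w M : X.Modules) (hT : Tw k X hp w M)
    (hst : ∀ (E : Set X) (hE : E ∈ irreducibleComponents (X : Type u)),
      Subsingleton (Coh.HH (compIdeal E hE).subscheme (Coh.structureModule (compIdeal E hE).subscheme) 1) →
        3 ≤ spec X p E)
    (hgn : 0 < 2 * (Curv2.genus k X : ℤ) - 2 + n) : CohB1.IsAmple M := by
  have hN : IsNoetherian X := CurveCoh.noetherianSpace k X
  have hd : ∀ (C : Set X) (hC : C ∈ irreducibleComponents (X : Type u)),
      topologicalKrullDim (compIdeal C hC).subscheme = 1 := fun C hC =>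
    dim_comp X hC (TailMain.pure_of_connected X hdim C hC)
  refine AmpleComp.isAmple_of_deg_pos k X M hT.isInvertible hd fun C hC => ?_
  have hirr := connected_comp C hC
  have hP : IsProper ((compIdeal C hC).subscheme ↘ Spec (CommRingCat.of k)) :=
    inferInstanceAs (IsProper ((compIdeal C hC).subschemeι ≫ (X ↘ (Spec (CommRingCat.of k)))))
  have h1 := deg_formula k X hdim hX hp w M hT (compIdeal C hC) (hd C hC)
  change 0 < Curv2.deg k (compIdeal C hC).subscheme
    ((Scheme.Modules.pullback (compIdeal C hC).subschemeι).obj M) 1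
  rw [h1]
  rcases Nat.lt_trichotomy (Curv2.genus k (compIdeal C hC).subscheme) 1 with hg | hg | hg
  · have hg0 : Curv2.genus k (compIdeal C hC).subscheme = 0 := by omega
    have hfin := Groth.Agent.S0002.result k (compIdeal C hC).subscheme
      (Coh.structureModule (compIdeal C hC).subscheme) (UnitCoh.isCoh_unit _) 1
    have h2 := hst C hC (Module.finrank_zero_iff.mp hg0)
    rw [hg0, coe_support_compIdeal]
    change 0 < 2 * ((0 : ℕ) : ℤ) - 2 + (spec X p C : ℤ)
    omega
  · have h5 := spec_pos k X hdim (p := p) hgn (compIdeal C hC) (hd C hC) hg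
    rw [hg]
    omega
  · have hs : (0 : ℤ) ≤ spec X p ((compIdeal C hC).support : Set X) := Nat.cast_nonneg _
    omega

/-- The marked points of a stable pointed curve form an effective Cartier divisor. -/
theorem isEff_pts (hdim : topologicalKrullDim X = 1) {n : ℕ} {p : Fin n → X} (hp : Pts k n p) :
    BlowUp.IsEffCartierIdeal (Scheme.IdealSheafData.vanishingIdeal (ptsCl hp.cl)) := by
  have hN : IsNoetherian X := CurveCoh.noetherianSpace k X
  refine isEffCartierIdeal_of_stalkIdeal _ fun y hy => ?_
  have hy' : y ∈ ptsCl hp.cl := by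
    have h2 : y ∈ ((Scheme.IdealSheafData.vanishingIdeal (ptsCl hp.cl)).support : Set X) := hy
    rw [Scheme.IdealSheafData.coe_support_vanishingIdeal] at h2
    exact h2
  obtain ⟨i, rfl⟩ := (mem_ptsCl hp.cl _).mp hy'
  rw [stalkIdeal_pts]
  have hreg := NodeSch2.isRegularLocalRing_of_exists k (p i) (hp.sm i)
  have hdim1 := NodeSch2.krullDimLE_one_stalk hdim.le (p i)
  refine exists_gen fun hf => ?_
  let C := irreducibleComponent (p i)
  have hC : C ∈ irreducibleComponents (X : Type u) := irreducibleComponent_mem_irreducibleComponents _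
  have hN : IsNoetherian X := CurveCoh.noetherianSpace k X
  have h1 := not_isField (compCloseds C hC) C hC (TailMain.pure_of_connected X hdim C hC) (fun x hx => hx) (p i)
    (hp.cl i) mem_irreducibleComponent
  have h2 : stalkIdeal (compIdeal C hC) (p i) ≠ ⊤ := by
    refine (mem_support_iff_stalkIdeal_ne_top (compIdeal C hC) (p i)).mp ?_
    rw [coe_support_compIdeal]
    exact mem_irreducibleComponent
  let _ := hf.toField
  rcases Ideal.eq_bot_or_top (stalkIdeal (compIdeal C hC) (p i)) with h3 | h3
  · apply h1
    have h4 : stalkIdeal (Scheme.IdealSheafData.vanishingIdeal (compCloseds C hC)) (p i) = ⊥ := h3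
    rw [h4]
    exact (RingEquiv.quotientBot (X.presheaf.stalk (p i))).toMulEquiv.isField hf
  · exact h2 h3

/-- The number of special points in terms of the definition of stability. -/
theorem spec_eq [NoetherianSpace X] {n : ℕ} (p : Fin n → X) {E : Set X} (hE : E ∈ irreducibleComponents (X : Type u))
    (hfin : (E ∩ closure Eᶜ).Finite) :
    (CurvSt.meetPts X E).encard + (Nat.card {i : Fin n // p i ∈ E} : ℕ∞) = (spec X p E : ℕ∞) := by
  rw [K896.CompMeet.meetPts_eq hE]
  unfold spec
  rw [Nat.cast_add, hfin.cast_ncard_eq]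
  rfl

theorem pts_of_isStablePtd {g n : ℕ} {p : Fin n → X}
    (h : CurvSt.IsStablePtd k X (X ↘ (Spec (CommRingCat.of k))) g p) : Pts k n p :=
  ⟨h.2.2.2.2.1, fun i => (h.2.2.2.2.2.1 i).1, fun i => (h.2.2.2.2.2.1 i).2⟩

/-- The twisted dualizing module of a stable pointed curve is ample. -/
theorem isAmple_of_isStablePtd {g n : ℕ} {p : Fin n → X}
    (h : CurvSt.IsStablePtd k X (X ↘ (Spec (CommRingCat.of k))) g p) (hp : Pts k n p) (w M : X.Modules)
    (hT : Tw k X hp w M) : CohB1.IsAmple M := by
  have hN : IsNoetherian X := CurveCoh.noetherianSpace k X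
  obtain ⟨-, -, hdim, ⟨hX, hg⟩, -, -, hst, hgn⟩ := h
  have hX' : Curv2.AtWorstNodal k X := hX
  have hg' : Curv2.genus k X = g := hg
  refine isAmple k X hdim hX' hp w M hT (fun E hE h1 => ?_) (by rw [hg']; omega)
  have h2 := hst E (K896.TailBridge.isSmRatComp_of_h1 k X E hE (TailMain.pure_of_connected X hdim E hE) h1)
  rw [spec_eq X p hE (Groth.Agent.CurvesC.TailGeom.finite_inter hdim.le hE).1] at h2
  exact_mod_cast h2

end K900.PtAmple
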