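import Groth.Agent.S3567
import Groth.Prelude.Def_ClSub2

/-!
# Isomorphisms from equality of fibres
-/

set_option autoImplicit false
universe u

open CategoryTheory TopologicalSpace Opposite CategoryTheory.Limits AlgebraicGeometry

namespace K900.Desc

variable {X Y Y₁ Y₂ : Scheme.{u}}

theorem isIso_c (c : X ⟶ Y) (h : ∀ U : Y.Opens, IsIso (c.app U)) : IsIso c.c := by
  rw [NatTrans.isIso_iff_isIso_app]
  exact fun U => h U.unop

theorem isIso_app_of_unit (c : X ⟶ Y) (hu : IsIso (ClSub.unitToPush c)) (U : Y.Opens) : IsIso (c.app U) := by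
  rw [Scheme.Modules.Hom.isIso_iff_isIso_app] at hu
  have h1 := hu U
  rw [ConcreteCategory.isIso_iff_bijective]
  exact ConcreteCategory.bijective_of_isIso ((ClSub.unitToPush c).app U)

theorem isQuotientMap (f : X ⟶ Y) [Surjective f] [UniversallyClosed f] : Topology.IsQuotientMap f.base :=
  f.isClosedMap.isQuotientMap f.continuous f.surjective

theorem exists_factor (c₂ : X ⟶ Y₂) [IsProper c₂] [Surjective c₂] (h₂ : ∀ U : Y₂.Opens, IsIso (c₂.app U))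
    (c₁ : X ⟶ Y₁) (h : ∀ x x' : X, c₂.base x = c₂.base x' → c₁.base x = c₁.base x') :
    ∃ v : Y₂ ⟶ Y₁, c₂ ≫ v = c₁ := by
  have := isIso_c c₂ h₂
  exact (Groth.Agent.S3567.result c₂ (isQuotientMap c₂) Y₁).2 c₁ h

theorem existsUnique_iso (c₁ : X ⟶ Y₁) [IsProper c₁] [Surjective c₁] (h₁ : ∀ U : Y₁.Opens, IsIso (c₁.app U))
    (c₂ : X ⟶ Y₂) [IsProper c₂] [Surjective c₂] (h₂ : ∀ U : Y₂.Opens, IsIso (c₂.app U))
    (h12 : ∀ x x' : X, c₂.base x = c₂.base x' → c₁.base x = c₁.base x')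
    (h21 : ∀ x x' : X, c₁.base x = c₁.base x' → c₂.base x = c₂.base x') :
    ∃! e : Y₁ ≅ Y₂, c₁ ≫ e.hom = c₂ := by
  obtain ⟨v, hv⟩ := exists_factor c₁ h₁ c₂ h21
  obtain ⟨v', hv'⟩ := exists_factor c₂ h₂ c₁ h12
  have := isIso_c c₁ h₁
  have := isIso_c c₂ h₂
  have u₁ : ∀ {W : Scheme.{u}} (a b : Y₁ ⟶ W), c₁ ≫ a = c₁ ≫ b → a = b := fun {W} a b h =>
    (Groth.Agent.S3567.result c₁ (isQuotientMap c₁) W).1 a b h
  have u₂ : ∀ {W : Scheme.{u}} (a b : Y₂ ⟶ W), c₂ ≫ a = c₂ ≫ b → a = b := fun {W} a b h =>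
    (Groth.Agent.S3567.result c₂ (isQuotientMap c₂) W).1 a b h
  refine ⟨⟨v, v', u₁ _ _ ?_, u₂ _ _ ?_⟩, hv, fun e he => ?_⟩
  · rw [← Category.assoc, hv, hv', Category.comp_id]
  · rw [← Category.assoc, hv', hv, Category.comp_id]
  · ext1
    exact u₁ _ _ (he.trans hv.symm)

end K900.Desc
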