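import Groth.Agent.CurvSt.K900.FieldThm
import Groth.Agent.CurvSt.K900.AcycR
import Groth.Agent.CurvSt.K900.Desc

/-!
# Uniqueness of stable contractions over a field, unpointed case
-/

set_option autoImplicit false
universe u

open CategoryTheory TopologicalSpace Opposite CategoryTheory.Limits AlgebraicGeometry MonoidalCategory

namespace K900.UnptField

open scoped Groth.Agent.Dcoh.MonCat
open Groth.Agent.CurvesC.DualCount K900.Comp K900.TopArg K900.Loc K900.Acyc K900.FieldThm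

variable {X Y : Scheme.{u}}

theorem isInvertible_unit (X : Scheme.{u}) : PicF.IsInvertible (Coh.structureModule X) := by
  rw [Groth.Agent.Fdesc.LocGen.isInvertible_iff]
  exact fun x => ⟨⊤, _, trivial, Groth.Agent.Fdesc.LocGen.isGen_one ⊤⟩

theorem isInvertible_of_iso {M N : X.Modules} (e : M ≅ N) (h : PicF.IsInvertible M) : PicF.IsInvertible N := by
  rw [Groth.Agent.Fdesc.LocGen.isInvertible_iff] at h ⊢
  intro x
  obtain ⟨U, m, hx, hm⟩ := h x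
  exact ⟨U, _, hx, hm.app e.hom⟩

theorem mem_W_id (x : X) : x ∈ W (𝟙 (Coh.structureModule X)) :=
  ⟨⊤, _, trivial, Groth.Agent.Fdesc.LocGen.isGen_one ⊤, Groth.Agent.Fdesc.LocGen.isGen_one ⊤⟩

/-- `O ⊗ w ≅ w`. -/
noncomputable def lu (w : X.Modules) : (Coh.structureModule X : X.Modules) ⊗ w ≅ w :=
  Groth.Agent.Ega2.Tens.lunit w

/-- `c_* O ⊗ w ≅ w`. -/
noncomputable def beta (c : X ⟶ Y) [IsIso (ClSub.unitToPush c)] (w : Y.Modules) :
    (Scheme.Modules.pushforward c).obj (Coh.structureModule X) ⊗ w ≅ w :=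
  Groth.Agent.Ega2.Tens.mapTIso (asIso (ClSub.unitToPush c)).symm (Iso.refl w) ≪≫
    Groth.Agent.Ega2.Tens.lunit w

variable {Y₁ Y₂ : Scheme.{u}} (k : Type u) [Field k] [X.Over (Spec (CommRingCat.of k))]
  [Y₁.Over (Spec (CommRingCat.of k))] [Y₂.Over (Spec (CommRingCat.of k))]
  [IsProper (X ↘ (Spec (CommRingCat.of k)))] [IsProper (Y₁ ↘ (Spec (CommRingCat.of k)))]
  [IsProper (Y₂ ↘ (Spec (CommRingCat.of k)))]

theorem fibres [IsNoetherian X] [IsNoetherian Y₁] [IsNoetherian Y₂] [IsReduced X] [ConnectedSpace X]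
    (hdim : topologicalKrullDim X = 1)
    (hpure : ∀ Z ∈ irreducibleComponents (X : Type u), topologicalKrullDim Z = 1)
    {w : X.Modules} (hw : PicF.IsInvertible w) {t : Coh.HH X w 1 →ₗ[k] k} (ht : IsPair k t)
    (c₁ : X ⟶ Y₁) (hc₁ : c₁ ≫ (Y₁ ↘ Spec (CommRingCat.of k)) = X ↘ Spec (CommRingCat.of k))
    (hdimY₁ : topologicalKrullDim Y₁ = 1) (hu₁ : IsIso (ClSub.unitToPush c₁))
    {wY₁ : Y₁.Modules} (hwY₁ : CohB1.IsAmple wY₁) {tY₁ : Coh.HH Y₁ wY₁ 1 →ₗ[k] k} (htY₁ : IsPair k tY₁)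
    (hO₁ : LocVan c₁ (Coh.structureModule X))
    (c₂ : X ⟶ Y₂) (hc₂ : c₂ ≫ (Y₂ ↘ Spec (CommRingCat.of k)) = X ↘ Spec (CommRingCat.of k))
    (hdimY₂ : topologicalKrullDim Y₂ = 1) (hu₂ : IsIso (ClSub.unitToPush c₂))
    {wY₂ : Y₂.Modules} (hwY₂ : CohB1.IsAmple wY₂) {tY₂ : Coh.HH Y₂ wY₂ 1 →ₗ[k] k} (htY₂ : IsPair k tY₂)
    (hO₂ : LocVan c₂ (Coh.structureModule X))
    (x x' : X) (hxx : c₂.base x = c₂.base x') : c₁.base x = c₁.base x' :=
  K900.FieldThm.fibres k hdim hpure (isInvertible_unit X) hw hw (lu w) (𝟙 _) (fun C => mem_W_id _) ht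
    c₁ hc₁ hdimY₁ hu₁ hwY₁ (isInvertible_of_iso (asIso (ClSub.unitToPush c₁)) (isInvertible_unit Y₁))
    (beta c₁ wY₁) htY₁ hO₁ hO₁
    c₂ hc₂ hdimY₂ hu₂ hwY₂ (isInvertible_of_iso (asIso (ClSub.unitToPush c₂)) (isInvertible_unit Y₂))
    (beta c₂ wY₂) htY₂ hO₂ hO₂ x x' hxx

theorem surjective_of_unit (c : X ⟶ Y) [IsProper c] [IsNoetherian Y] (hu : IsIso (ClSub.unitToPush c)) :
    Surjective c := by
  refine ⟨fun y => ?_⟩
  have h1 := (Groth.Agent.S2431.result c (fun U => K900.Desc.isIso_app_of_unit c hu U)).1 y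
  obtain ⟨z⟩ := h1.toNonempty
  refine ⟨c.fiberι y z, ?_⟩
  have h2 : Set.range (c.fiberι y) = c.base ⁻¹' {y} := c.range_fiberι y
  have h3 : c.fiberι y z ∈ c.base ⁻¹' {y} := by
    rw [← h2]
    exact ⟨z, rfl⟩
  exact h3

end K900.UnptField
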