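import Groth.Agent.CurvSt.K900.PtPush
import Groth.Agent.CurvSt.K900.PtAmple
import Groth.Agent.CurvSt.K900.FieldThm
import Groth.Agent.CurvSt.K900.AcycR
import Groth.Agent.CurvSt.K900.UnptField
import Groth.Agent.Dix.IdealModCartier
import Groth.Prelude.Def_StMap

/-!
# Uniqueness of stable contractions of pointed curves over an algebraically closed field
-/

set_option autoImplicit false
universe u

open CategoryTheory TopologicalSpace Opposite CategoryTheory.Limits AlgebraicGeometry MonoidalCategory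

namespace K900.PtField

open scoped Groth.Agent.Dcoh.MonCat
open Groth.Agent.CurvesC.DualCount K900.Loc K900.Acyc K900.PtPush K900.PtAmple
open K326.PtsDiv K326.SemiStab Groth.Agent.Dix.IdealModCartier

variable {X Y : Scheme.{u}}

/-- The inclusion of the ideal of a closed set is an isomorphism off the closed set. -/
theorem mem_W (P : Closeds X) {x : X} (hx : x ∉ P) :
    x ∈ W (ClSub.idealModι (Scheme.IdealSheafData.vanishingIdeal P)) := by
  let V : X.Opens := ⟨(P : Set X)ᶜ, P.isClosed.isOpen_compl⟩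
  have h1 : (Scheme.IdealSheafData.vanishingIdeal P).subschemeι.app V 1 = 0 := by
    rw [app_eq_zero_iff, Set.disjoint_left]
    intro y hy hyP
    exact (X.basicOpen_le (1 : Γ(X, V)) hy : y ∈ V) hyP
  obtain ⟨e, he⟩ := ((Groth.Agent.PerfA.IdealModule.exact_app (Scheme.IdealSheafData.vanishingIdeal P) V)
    (1 : Γ(X, V))).mp h1
  have he' : val (Scheme.IdealSheafData.vanishingIdeal P) e = 1 := he
  refine ⟨V, e, hx, isGen_of_genOn fun A hA => ?_, ?_⟩
  · rw [he', map_one]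
    refine ⟨one_mem _, ?_⟩
    have h2 := val_mem _ A (Groth.Agent.Fdesc.LocGen.res _ hA e)
    rw [val_res, he', map_one] at h2
    rw [(Ideal.eq_top_iff_one _).mpr h2, Ideal.span_singleton_one]
  · change Groth.Agent.Fdesc.LocGen.IsGen (M := Coh.structureModule X)
      (val (Scheme.IdealSheafData.vanishingIdeal P) e : Γ(X, V))
    rw [he']
    exact Groth.Agent.Fdesc.LocGen.isGen_one V

/-- `N ⊗ (w ⊗ L) ≅ w` for `N ⊗ L ≅ O`. -/
noncomputable def untw (N w L : X.Modules) (e : L ⊗ N ≅ (Coh.structureModule X : X.Modules)) : N ⊗ (w ⊗ L) ≅ w :=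
  β_ N (w ⊗ L) ≪≫ α_ w L N ≪≫ whiskerLeftIso w e ≪≫ ρ_ w

variable (k : Type u) [Field k] [IsAlgClosed k]

theorem image_ptsCl (c : X ⟶ Y) {n : ℕ} {x : Fin n → X} (hx : ∀ i, IsClosed ({x i} : Set X))
    (hy : ∀ i, IsClosed ({c.base (x i)} : Set Y)) :
    c.base '' (ptsCl hx : Set X) = (ptsCl hy : Closeds Y) := by
  ext y
  constructor
  · rintro ⟨z, hz, rfl⟩
    obtain ⟨i, rfl⟩ := (mem_ptsCl hx z).mp hz
    exact (mem_ptsCl hy _).mpr ⟨i, rfl⟩
  · intro hy'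
    obtain ⟨i, rfl⟩ := (mem_ptsCl hy y).mp hy'
    exact ⟨x i, (mem_ptsCl hx _).mpr ⟨i, rfl⟩, rfl⟩

theorem topologicalKrullDim_le_zero_of_subsingleton' (x : X) : topologicalKrullDim ({x} : Set X) ≤ 0 := by
  have h1 : Subsingleton (TopologicalSpace.IrreducibleCloseds ({x} : Set X)) := by
    refine ⟨fun A B => ?_⟩
    ext z
    obtain ⟨a, ha⟩ := A.2.nonempty
    obtain ⟨b, hb⟩ := B.2.nonempty
    rw [Subsingleton.elim z a]
    refine ⟨fun _ => ?_, fun _ => ha⟩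
    rw [Subsingleton.elim a b]
    exact hb
  exact Order.krullDim_nonpos_of_subsingleton

/-- Existence of the twisted dualizing module. -/
theorem exists_tw (X : Scheme.{u}) [X.Over (Spec (CommRingCat.of k))]
    [IsProper (X ↘ (Spec (CommRingCat.of k)))] [IsReduced X] [ConnectedSpace X]
    (hdim : topologicalKrullDim X = 1) (hX : Curv2.AtWorstNodal k X) {n : ℕ} {x : Fin n → X} (hx : Pts k n x) :
    PicF.IsInvertible (ClSub.idealMod (Scheme.IdealSheafData.vanishingIdeal (ptsCl hx.cl))) ∧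
    ∃ (M w : X.Modules) (t : Coh.HH X w 1 →ₗ[k] k), PicF.IsInvertible w ∧ IsPair k t ∧ Tw k X hx w M ∧
      Nonempty (ClSub.idealMod (Scheme.IdealSheafData.vanishingIdeal (ptsCl hx.cl)) ⊗ M ≅ w) := by
  have h0 := K326.DegPts.finrank_zero k (X := X)
  obtain ⟨w, t, hw, ht⟩ := K900.DualBasic.exists_pair k X hdim h0 hX
  have hI := isInvertible_idealMod (isEff_pts k X hdim hx)
  obtain ⟨L, hL, ⟨e⟩⟩ := Groth.Agent.Grpsch.PicGrp.exists_inverse hI
  refine ⟨hI, CohB1.tensorMod w L, w, t, hw, ht, ⟨hw, ⟨t, ht⟩, L,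
    ⟨Groth.Agent.Ega2.Tens.swap L _ ≪≫ e⟩, ⟨Iso.refl _⟩⟩, ⟨untw _ w L (Groth.Agent.Ega2.Tens.swap L _ ≪≫ e)⟩⟩

/-- The data needed on the target of one contraction. -/
theorem side (X Y : Scheme.{u}) [X.Over (Spec (CommRingCat.of k))] [Y.Over (Spec (CommRingCat.of k))]
    [IsProper (X ↘ (Spec (CommRingCat.of k)))] [NoetherianSpace X] (hdim : topologicalKrullDim X = 1)
    {n g : ℕ} {x : Fin n → X} (hx : Pts k n x)
    (c : X ⟶ Y) (hc : c ≫ (Y ↘ Spec (CommRingCat.of k)) = X ↘ Spec (CommRingCat.of k))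
    (hY : CurvSt.IsStablePtd k Y (Y ↘ (Spec (CommRingCat.of k))) g (fun i => c.base (x i)))
    (hu : IsIso (ClSub.unitToPush c)) (hO : LocVan c (Coh.structureModule X)) :
    ∃ (MY wY : Y.Modules) (tY : Coh.HH Y wY 1 →ₗ[k] k), CohB1.IsAmple MY ∧ IsPair k tY ∧
      PicF.IsInvertible ((Scheme.Modules.pushforward c).obj
        (ClSub.idealMod (Scheme.IdealSheafData.vanishingIdeal (ptsCl hx.cl)))) ∧
      Nonempty ((Scheme.Modules.pushforward c).obj
        (ClSub.idealMod (Scheme.IdealSheafData.vanishingIdeal (ptsCl hx.cl))) ⊗ MY ≅ wY) ∧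
      LocVan c (ClSub.idealMod (Scheme.IdealSheafData.vanishingIdeal (ptsCl hx.cl))) := by
  have hP : IsProper (Y ↘ (Spec (CommRingCat.of k))) := hY.1
  have hC : ConnectedSpace Y := hY.2.1
  have hnY : Curv2.AtWorstNodal k Y := hY.2.2.2.1.1
  have hr : IsReduced Y := Groth.Agent.CurvesC.GenusOne512.isReduced_of_atWorstNodal k Y hnY
  have hy : Pts k n (fun i => c.base (x i)) := pts_of_isStablePtd k Y hY
  obtain ⟨hI, M, w, t, hw, ht, hT, ⟨e⟩⟩ := exists_tw k Y hY.2.2.1 hnY hy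
  obtain ⟨p⟩ := push_idealMod c (ptsCl hx.cl) (ptsCl hy.cl) (image_ptsCl c hx.cl hy.cl)
  have hlft : LocallyOfFiniteType (c ≫ (Y ↘ (Spec (CommRingCat.of k)))) := by
    rw [hc]
    infer_instance
  refine ⟨M, w, t, isAmple_of_isStablePtd k Y hY hy w M hT, ht, K900.UnptField.isInvertible_of_iso p hI,
    ⟨whiskerRightIso p.symm M ≪≫ e⟩, locVan_ideal k (Y ↘ (Spec (CommRingCat.of k))) c hdim.le hO _ ?_ ?_ ?_ ?_⟩
  · refine (Set.finite_range x).subset fun z hz => ?_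
    obtain ⟨i, rfl⟩ := (mem_ptsCl hx.cl z).mp hz
    exact ⟨i, rfl⟩
  · intro z hz
    obtain ⟨i, rfl⟩ := (mem_ptsCl hx.cl z).mp hz
    exact hx.cl i
  · intro z hz
    obtain ⟨i, rfl⟩ := (mem_ptsCl hx.cl z).mp hz
    exact hy.cl i
  · intro z hz z' hz' h
    obtain ⟨i, rfl⟩ := (mem_ptsCl hx.cl z).mp hz
    obtain ⟨j, rfl⟩ := (mem_ptsCl hx.cl z').mp hz'
    rw [hy.inj h]

/-- Two contractions of the same prestable pointed curve onto stable pointed curves have the same fibres. -/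
theorem fibres {X Y₁ Y₂ : Scheme.{u}} [X.Over (Spec (CommRingCat.of k))]
    [Y₁.Over (Spec (CommRingCat.of k))] [Y₂.Over (Spec (CommRingCat.of k))]
    {n g : ℕ} {x : Fin n → X} (hX : StMap.IsPrestablePtd k X (X ↘ (Spec (CommRingCat.of k))) g x)
    (c₁ : X ⟶ Y₁) (hc₁ : c₁ ≫ (Y₁ ↘ Spec (CommRingCat.of k)) = X ↘ Spec (CommRingCat.of k))
    (hY₁ : CurvSt.IsStablePtd k Y₁ (Y₁ ↘ (Spec (CommRingCat.of k))) g (fun i => c₁.base (x i)))
    (c₂ : X ⟶ Y₂) (hc₂ : c₂ ≫ (Y₂ ↘ Spec (CommRingCat.of k)) = X ↘ Spec (CommRingCat.of k))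
    (hY₂ : CurvSt.IsStablePtd k Y₂ (Y₂ ↘ (Spec (CommRingCat.of k))) g (fun i => c₂.base (x i)))
    [HasInjectiveResolutions X.Modules]
    (hu₁ : IsIso (ClSub.unitToPush c₁)) (hr₁ : IsZero ((Coh.Rpush c₁ 1).obj (Coh.structureModule X)))
    (hu₂ : IsIso (ClSub.unitToPush c₂)) (hr₂ : IsZero ((Coh.Rpush c₂ 1).obj (Coh.structureModule X)))
    (z z' : X) (hzz : c₂.base z = c₂.base z') : c₁.base z = c₁.base z' := by
  obtain ⟨hP, hC, hdim, ⟨hn, -⟩, hinj, hsm⟩ := hX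
  have hn' : Curv2.AtWorstNodal k X := hn
  have hP₁ : IsProper (Y₁ ↘ (Spec (CommRingCat.of k))) := hY₁.1
  have hP₂ : IsProper (Y₂ ↘ (Spec (CommRingCat.of k))) := hY₂.1
  have : IsNoetherian X := Groth.Agent.CurvesC.CurveCoh.noetherianSpace k X
  have : IsNoetherian Y₁ := Groth.Agent.CurvesC.CurveCoh.noetherianSpace k Y₁
  have : IsNoetherian Y₂ := Groth.Agent.CurvesC.CurveCoh.noetherianSpace k Y₂
  have hr : IsReduced X := Groth.Agent.CurvesC.GenusOne512.isReduced_of_atWorstNodal k X hn'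
  have hx : Pts k n x := ⟨hinj, fun i => (hsm i).1, fun i => (hsm i).2⟩
  have hpure := Groth.Agent.CurvesC.TailMain.pure_of_connected X hdim
  obtain ⟨hI, M, w, t, hw, ht, hT, ⟨e⟩⟩ := exists_tw k X hdim hn' hx
  have := K900.FieldThm.isProper_c c₁ k hc₁
  have := K900.FieldThm.isProper_c c₂ k hc₂
  have hQ : Coh.IsQCoh (Coh.structureModule X) :=
    Groth.Agent.Ega2.QCohLocal.isQCoh_of_isInvertible (K900.UnptField.isInvertible_unit X)
  have hO₁ := K900.Acyc.locVan_of_isZero c₁ hdim.le hQ hr₁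
  have hO₂ := K900.Acyc.locVan_of_isZero c₂ hdim.le hQ hr₂
  obtain ⟨M₁, w₁, t₁, hA₁, ht₁, hI₁, ⟨β₁⟩, hN₁⟩ := side k X Y₁ hdim hx c₁ hc₁ hY₁ hu₁ hO₁
  obtain ⟨M₂, w₂, t₂, hA₂, ht₂, hI₂, ⟨β₂⟩, hN₂⟩ := side k X Y₂ hdim hx c₂ hc₂ hY₂ hu₂ hO₂
  refine K900.FieldThm.fibres k hdim hpure hI hT.isInvertible hw e
    (ClSub.idealModι (Scheme.IdealSheafData.vanishingIdeal (ptsCl hx.cl))) (fun C => mem_W _ fun hmem => ?_) ht
    c₁ hc₁ hY₁.2.2.1 hu₁ hA₁ hI₁ β₁ ht₁ hO₁ hN₁ c₂ hc₂ hY₂.2.2.1 hu₂ hA₂ hI₂ β₂ ht₂ hO₂ hN₂ z z' hzz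
  obtain ⟨i, hi⟩ := (mem_ptsCl hx.cl _).mp hmem
  have h1 : C.1 = {x i} := by
    rw [← K900.Comp.closure_gp C, hi, (hx.cl i).closure_eq]
  have h2 := hpure C.1 C.2
  rw [h1] at h2
  have h3 : topologicalKrullDim ({x i} : Set X) ≤ 0 :=
    topologicalKrullDim_le_zero_of_subsingleton' (x i)
  rw [h2] at h3
  exact absurd h3 (by decide)

end K900.PtField
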