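import Groth.Prelude.Def_ClSub2
import Mathlib.AlgebraicGeometry.PullbackCarrier
import Mathlib.AlgebraicGeometry.ResidueField
import Mathlib.FieldTheory.IsAlgClosed.AlgebraicClosure

/-!
# Equality of fibres and surjectivity can be tested on geometric fibres of the base
-/

set_option autoImplicit false
universe u

open CategoryTheory TopologicalSpace Opposite CategoryTheory.Limits AlgebraicGeometry

namespace K900.FamArg

variable {C C₁ C₂ T : Scheme.{u}}

/-- The base change of a `T`-morphism. -/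
noncomputable def cb {f : C ⟶ T} {g : C₁ ⟶ T} (c : C ⟶ C₁) (hc : c ≫ g = f) {T₀ : Scheme.{u}} (t : T₀ ⟶ T) :
    pullback f t ⟶ pullback g t :=
  pullback.lift (pullback.fst f t ≫ c) (pullback.snd f t) (by
    rw [Category.assoc, hc, pullback.condition])

section

variable {f : C ⟶ T} {g : C₁ ⟶ T} (c : C ⟶ C₁) (hc : c ≫ g = f) {T₀ : Scheme.{u}} (t : T₀ ⟶ T)

theorem cb_fst : cb c hc t ≫ pullback.fst g t = pullback.fst f t ≫ c := pullback.lift_fst _ _ _

theorem cb_snd : cb c hc t ≫ pullback.snd g t = pullback.snd f t := pullback.lift_snd _ _ _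

theorem isPullback_cb : IsPullback (pullback.fst f t) (cb c hc t) c (pullback.fst g t) := by
  refine IsPullback.of_bot ?_ (cb_fst c hc t).symm (IsPullback.of_hasPullback g t)
  rw [cb_snd, hc]
  exact IsPullback.of_hasPullback f t

end

/-- A point of a scheme comes from a point over an algebraically closed field. -/
theorem exists_geometric {Z : Scheme.{u}} (z : Z) : ∃ (Ω : Type u) (_ : Field Ω) (_ : IsAlgClosed Ω)
    (b : Spec (CommRingCat.of Ω) ⟶ Z), b (IsLocalRing.closedPoint Ω) = z := by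
  refine ⟨AlgebraicClosure (Z.residueField z), inferInstance, inferInstance,
    Spec.map (CommRingCat.ofHom (algebraMap (Z.residueField z) (AlgebraicClosure (Z.residueField z)))) ≫
      Z.fromSpecResidueField z, ?_⟩
  rw [Scheme.Hom.comp_apply]
  exact Scheme.fromSpecResidueField_apply z _

theorem fibres_of_geometric (f : C ⟶ T) (g₁ : C₁ ⟶ T) (c₁ : C ⟶ C₁) (hc₁ : c₁ ≫ g₁ = f)
    (g₂ : C₂ ⟶ T) (c₂ : C ⟶ C₂) (hc₂ : c₂ ≫ g₂ = f)
    (H : ∀ (Ω : Type u) [Field Ω] [IsAlgClosed Ω] (t : Spec (CommRingCat.of Ω) ⟶ T),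
      ∀ x x' : ↥(pullback f t), cb c₂ hc₂ t x = cb c₂ hc₂ t x' → cb c₁ hc₁ t x = cb c₁ hc₁ t x')
    (x x' : C) (h : c₂ x = c₂ x') : c₁ x = c₁ x' := by
  obtain ⟨z, hz, hz'⟩ := Scheme.Pullback.exists_preimage_pullback x x' h
  obtain ⟨Ω, _, _, b, hb⟩ := exists_geometric z
  have e1 : (b ≫ pullback.snd c₂ c₂) ≫ f = (b ≫ pullback.fst c₂ c₂) ≫ f := by
    rw [← hc₂, Category.assoc, Category.assoc, pullback.condition_assoc]
  let t : Spec (CommRingCat.of Ω) ⟶ T := (b ≫ pullback.fst c₂ c₂) ≫ f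
  let s : Spec (CommRingCat.of Ω) ⟶ pullback f t := pullback.lift (b ≫ pullback.fst c₂ c₂) (𝟙 _) (by
    rw [Category.id_comp])
  let s' : Spec (CommRingCat.of Ω) ⟶ pullback f t := pullback.lift (b ≫ pullback.snd c₂ c₂) (𝟙 _) (by
    rw [Category.id_comp, e1])
  have hs : s ≫ cb c₂ hc₂ t = s' ≫ cb c₂ hc₂ t := by
    apply pullback.hom_ext
    · rw [Category.assoc, Category.assoc, cb_fst, pullback.lift_fst_assoc, pullback.lift_fst_assoc,
        Category.assoc, Category.assoc, pullback.condition]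
    · rw [Category.assoc, Category.assoc, cb_snd, pullback.lift_snd, pullback.lift_snd]
  have h1 := H Ω t (s (IsLocalRing.closedPoint Ω)) (s' (IsLocalRing.closedPoint Ω)) (by
    rw [← Scheme.Hom.comp_apply, ← Scheme.Hom.comp_apply, hs])
  have k1 : (s ≫ cb c₁ hc₁ t) ≫ pullback.fst g₁ t = (b ≫ pullback.fst c₂ c₂) ≫ c₁ := by
    rw [Category.assoc, cb_fst, pullback.lift_fst_assoc]
  have k2 : (s' ≫ cb c₁ hc₁ t) ≫ pullback.fst g₁ t = (b ≫ pullback.snd c₂ c₂) ≫ c₁ := by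
    rw [Category.assoc, cb_fst, pullback.lift_fst_assoc]
  have k3 := congrArg (fun m => m (IsLocalRing.closedPoint Ω)) k1
  have k4 := congrArg (fun m => m (IsLocalRing.closedPoint Ω)) k2
  simp only [Scheme.Hom.comp_apply] at k3 k4
  rw [hb] at k3 k4
  rw [hz] at k3
  rw [hz'] at k4
  rw [← k3, ← k4, h1]

theorem surjective_of_geometric (f : C ⟶ T) (g₁ : C₁ ⟶ T) (c₁ : C ⟶ C₁) (hc₁ : c₁ ≫ g₁ = f)
    (H : ∀ (Ω : Type u) [Field Ω] [IsAlgClosed Ω] (t : Spec (CommRingCat.of Ω) ⟶ T), Surjective (cb c₁ hc₁ t)) :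
    Surjective c₁ := by
  refine ⟨fun y => ?_⟩
  obtain ⟨Ω, _, _, b, hb⟩ := exists_geometric y
  let s : Spec (CommRingCat.of Ω) ⟶ pullback g₁ (b ≫ g₁) := pullback.lift b (𝟙 _) (by rw [Category.id_comp])
  obtain ⟨x, hx⟩ := (H Ω (b ≫ g₁)).surj (s (IsLocalRing.closedPoint Ω))
  refine ⟨pullback.fst f (b ≫ g₁) x, ?_⟩
  rw [← Scheme.Hom.comp_apply, ← cb_fst c₁ hc₁, Scheme.Hom.comp_apply, hx, ← Scheme.Hom.comp_apply,
    pullback.lift_fst, hb]

end K900.FamArg
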