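import Groth.Agent.CurvSt.K900.UnptField
import Groth.Agent.CurvSt.K900.DualBasic
import Groth.Agent.CurvSt.K900.FamArg
import Groth.Agent.Models.H73.CurveNum
import Groth.Agent.Models.H74.CohSide
import Groth.Agent.CurvesB.NodalQuot
import Groth.Agent.S1591
import Groth.Agent.Dcoh.DerSch

/-!
# Geometric fibres of prestable families; equality of fibres of contractions on geometric fibres
-/

set_option autoImplicit false
universe u

open CategoryTheory TopologicalSpace Opposite CategoryTheory.Limits AlgebraicGeometry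

namespace K900.GeoFib

theorem dim_eq_one {T : Type u} [TopologicalSpace T] [Nonempty T]
    (h : ∀ Z ∈ irreducibleComponents T, topologicalKrullDim Z = 1) : topologicalKrullDim T = 1 := by
  refine le_antisymm (Groth.Agent.Models.H73.CurveNum.dim_le_one h) ?_
  obtain ⟨x⟩ := ‹Nonempty T›
  rw [← h _ (irreducibleComponent_mem_irreducibleComponents x)]
  exact topologicalKrullDim_subspace_le T _

/-- Base change of a nodal family to a geometric point. -/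
theorem atWorstNodal_geometric {C T : Scheme.{u}} (f : C ⟶ T) (hf : Curv2.IsNodalFamily f) (Ω : Type u) [Field Ω]
    (t : Spec (CommRingCat.of Ω) ⟶ T) :
    letI : (pullback f t).Over (Spec (CommRingCat.of Ω)) := ⟨pullback.snd f t⟩
    (∀ Z ∈ irreducibleComponents (↥(pullback f t) : Type u), topologicalKrullDim Z = 1) ∧
      Curv2.AtWorstNodal Ω (pullback f t) := by
  let _ : (pullback f t).Over (Spec (CommRingCat.of Ω)) := ⟨pullback.snd f t⟩
  have := hf.1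
  have := hf.2.1
  obtain ⟨U, ⟨hU, hmax⟩, hbc⟩ := Groth.Agent.S1591.result f
  have htop : U = ⊤ := by
    refine le_antisymm le_top (hmax ⊤ ?_)
    exact Groth.Agent.CurvesB.NodalEtale.isNodalFamily_precomp_etale f (⊤ : C.Opens).ι hf
  subst htop
  have h1 := (hbc _ t).1
  have h2 : Curv2.IsNodalFamily (pullback.snd f t) := by
    have h3 : Curv2.IsNodalFamily ((⊤ : (pullback f t).Opens).ι ≫ pullback.snd f t) := h1
    have h4 := Groth.Agent.CurvesB.NodalEtale.isNodalFamily_precomp_etale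
      ((⊤ : (pullback f t).Opens).ι ≫ pullback.snd f t) (pullback f t).topIso.inv h3
    rwa [Scheme.toIso_inv_ι_assoc] at h4
  refine Groth.Agent.CurvesB.NodalQuot.atWorstNodal_of_surjective Ω (pullback f t) (pullback.snd f t) h2 Ω
    (RingHom.id Ω) Function.surjective_id (pullback f t) (𝟙 _) ?_
  have h5 : Spec.map (CommRingCat.ofHom (RingHom.id Ω)) = 𝟙 (Spec (CommRingCat.of Ω)) := Spec.map_id _
  rw [h5]
  exact IsPullback.of_horiz_isIso ⟨by rw [Category.id_comp, Category.comp_id]; rfl⟩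

variable (Ω : Type u) [Field Ω] [IsAlgClosed Ω]

theorem facts (X : Scheme.{u}) [X.Over (Spec (CommRingCat.of Ω))] [IsProper (X ↘ Spec (CommRingCat.of Ω))]
    [ConnectedSpace X] (hd : ∀ Z ∈ irreducibleComponents (X : Type u), topologicalKrullDim Z = 1)
    (hn : Curv2.AtWorstNodal Ω X) :
    topologicalKrullDim X = 1 ∧ IsReduced X ∧ Module.finrank Ω (Coh.HH X (Coh.structureModule X) 0) = 1 := by
  have hr : IsReduced X := Groth.Agent.CurvesC.GenusOne512.isReduced_of_atWorstNodal Ω X hn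
  exact ⟨dim_eq_one hd, hr, Groth.Agent.Models.H74.CohSide.finrank_HH_zero_eq_one Ω⟩

variable {X Y₁ Y₂ : Scheme.{u}} [X.Over (Spec (CommRingCat.of Ω))]
  [Y₁.Over (Spec (CommRingCat.of Ω))] [Y₂.Over (Spec (CommRingCat.of Ω))]
  [IsProper (X ↘ (Spec (CommRingCat.of Ω)))] [IsProper (Y₁ ↘ (Spec (CommRingCat.of Ω)))]
  [IsProper (Y₂ ↘ (Spec (CommRingCat.of Ω)))]

theorem fibres [ConnectedSpace X] [ConnectedSpace Y₁] [ConnectedSpace Y₂]
    (hd : ∀ Z ∈ irreducibleComponents (X : Type u), topologicalKrullDim Z = 1) (hn : Curv2.AtWorstNodal Ω X)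
    (hd₁ : ∀ Z ∈ irreducibleComponents (Y₁ : Type u), topologicalKrullDim Z = 1)
    (hn₁ : Curv2.AtWorstNodal Ω Y₁) (hg₁ : 2 ≤ Curv2.genus Ω Y₁)
    (hnt₁ : ∀ (C : Set Y₁) (hC : C ∈ irreducibleComponents (Y₁ : Type u)), ¬ Curv2.IsRationalTail Y₁ C hC)
    (hnb₁ : ∀ (C : Set Y₁) (hC : C ∈ irreducibleComponents (Y₁ : Type u)), ¬ Curv2.IsRationalBridge Ω Y₁ C hC)
    (hd₂ : ∀ Z ∈ irreducibleComponents (Y₂ : Type u), topologicalKrullDim Z = 1)
    (hn₂ : Curv2.AtWorstNodal Ω Y₂) (hg₂ : 2 ≤ Curv2.genus Ω Y₂)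
    (hnt₂ : ∀ (C : Set Y₂) (hC : C ∈ irreducibleComponents (Y₂ : Type u)), ¬ Curv2.IsRationalTail Y₂ C hC)
    (hnb₂ : ∀ (C : Set Y₂) (hC : C ∈ irreducibleComponents (Y₂ : Type u)), ¬ Curv2.IsRationalBridge Ω Y₂ C hC)
    (c₁ : X ⟶ Y₁) (hc₁ : c₁ ≫ (Y₁ ↘ Spec (CommRingCat.of Ω)) = X ↘ Spec (CommRingCat.of Ω))
    (c₂ : X ⟶ Y₂) (hc₂ : c₂ ≫ (Y₂ ↘ Spec (CommRingCat.of Ω)) = X ↘ Spec (CommRingCat.of Ω))
    [HasInjectiveResolutions X.Modules]
    (hu₁ : IsIso (ClSub.unitToPush c₁)) (hr₁ : IsZero ((Coh.Rpush c₁ 1).obj (Coh.structureModule X)))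
    (hu₂ : IsIso (ClSub.unitToPush c₂)) (hr₂ : IsZero ((Coh.Rpush c₂ 1).obj (Coh.structureModule X)))
    (x x' : X) (hxx : c₂ x = c₂ x') : c₁ x = c₁ x' := by
  obtain ⟨a, b, e⟩ := facts Ω X hd hn
  obtain ⟨a₁, b₁, e₁⟩ := facts Ω Y₁ hd₁ hn₁
  obtain ⟨a₂, b₂, e₂⟩ := facts Ω Y₂ hd₂ hn₂
  have : IsNoetherian X := Groth.Agent.CurvesC.CurveCoh.noetherianSpace Ω X
  have : IsNoetherian Y₁ := Groth.Agent.CurvesC.CurveCoh.noetherianSpace Ω Y₁
  have : IsNoetherian Y₂ := Groth.Agent.CurvesC.CurveCoh.noetherianSpace Ω Y₂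
  obtain ⟨w, t, hw, ht⟩ := K900.DualBasic.exists_pair Ω X a e hn
  obtain ⟨w₁, t₁, hw₁, ht₁⟩ := K900.DualBasic.exists_pair Ω Y₁ a₁ e₁ hn₁
  obtain ⟨w₂, t₂, hw₂, ht₂⟩ := K900.DualBasic.exists_pair Ω Y₂ a₂ e₂ hn₂
  have A₁ := K900.DualBasic.isAmple Ω Y₁ a₁ e₁ hn₁ hnt₁ hnb₁ hg₁ hw₁ ht₁
  have A₂ := K900.DualBasic.isAmple Ω Y₂ a₂ e₂ hn₂ hnt₂ hnb₂ hg₂ hw₂ ht₂
  have := K900.FieldThm.isProper_c c₁ Ω hc₁
  have := K900.FieldThm.isProper_c c₂ Ω hc₂
  have hQ : Coh.IsQCoh (Coh.structureModule X) :=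
    Groth.Agent.Ega2.QCohLocal.isQCoh_of_isInvertible (K900.UnptField.isInvertible_unit X)
  exact K900.UnptField.fibres Ω a hd hw ht c₁ hc₁ a₁ hu₁ A₁ ht₁ (K900.Acyc.locVan_of_isZero c₁ a.le hQ hr₁)
    c₂ hc₂ a₂ hu₂ A₂ ht₂ (K900.Acyc.locVan_of_isZero c₂ a.le hQ hr₂) x x' hxx

end K900.GeoFib
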