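import Groth.Agent.CurvSt.K900.DualBasic
import Groth.Agent.CurvSt.K900.GeoFib
import Groth.Agent.CurvSt.K900.RelAmp
import Groth.Agent.CurvSt.K901.SchPre
import Groth.Agent.CurvesC.DegTail519
import Groth.Agent.CurvesC.CompGeom
import Groth.Agent.CurvesB.VABaseChange
import Groth.Agent.Curves.K326.SemiStab
import Groth.Agent.S1530
import Groth.Prelude.Def_StCurv

/-!
# Rational tails and bridges of a fibre and ampleness of the dualizing module
-/

set_option autoImplicit false
universe u
open CategoryTheory CategoryTheory.Limits AlgebraicGeometry TopologicalSpace Opposite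

namespace K900.FibTail

open Groth.Agent Groth.Agent.CurvesC Groth.Agent.CurvesC.DualCount Groth.Agent.CurvesC.TailGeom

section Field

variable (k : Type u) [Field k] (X : Scheme.{u}) [X.Over (Spec (CommRingCat.of k))]
  [IsProper (X ↘ (Spec (CommRingCat.of k)))]

attribute [local instance] TailNum.subOver in
/-- An ample module has positive degree on every component of dimension one. -/
theorem deg_comp_pos (C : Set X) (hC : C ∈ irreducibleComponents (X : Type u))
    (hC1 : topologicalKrullDim C = 1) {w : X.Modules} (hA : CohB1.IsAmple w) :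
    0 < Curv2.deg k (compIdeal C hC).subscheme ((Scheme.Modules.pullback (compIdeal C hC).subschemeι).obj w) 1 := by
  have hint : IsIntegral (compIdeal C hC).subscheme := CompGeom.isIntegral_C X C hC
  have hP : IsProper ((compIdeal C hC).subscheme ↘ Spec (CommRingCat.of k)) :=
    inferInstanceAs (IsProper ((compIdeal C hC).subschemeι ≫ (X ↘ (Spec (CommRingCat.of k)))))
  exact (S1530.result k (compIdeal C hC).subscheme (K326.SemiStab.dim_comp X hC hC1) _
    (Models2.AmplePull.isInvertible_pullback _ hA.1)).1 (Models2.AmplePull.isAmple_pullback _ hA)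

/-- **No rational tail and no rational bridge iff the dualizing module is ample.** -/
theorem isAmple_iff (hdim : topologicalKrullDim X = 1)
    (h0 : Module.finrank k (Coh.HH X (Coh.structureModule X) 0) = 1) (hX : Curv2.AtWorstNodal k X)
    (hg : 2 ≤ Curv2.genus k X) {w : X.Modules} (hw : PicF.IsInvertible w) {t : Coh.HH X w 1 →ₗ[k] k}
    (ht : IsPair k t) :
    (∀ (C : Set X) (hC : C ∈ irreducibleComponents (X : Type u)), ¬ Curv2.IsRationalTail X C hC ∧
      ¬ Curv2.IsRationalBridge k X C hC) ↔ CohB1.IsAmple w := by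
  have hN := CurveCoh.noetherianSpace k X
  have hR : IsReduced X := GenusOne512.isReduced_of_atWorstNodal k X hX
  have hconn : ConnectedSpace X := GenusOne512.connectedSpace_of_h0 k X h0
  have hpure := TailMain.pure_of_connected X hdim
  constructor
  · intro h
    exact DualBasic.isAmple k X hdim h0 hX (fun C hC => (h C hC).1) (fun C hC => (h C hC).2) hg hw ht
  · intro hA C hC
    have h1 := deg_comp_pos k X C hC (hpure C hC) hA
    exact ⟨fun hT => absurd h1 (DegTail519.tail_neg k hdim w hw ht C hC hT).not_gt,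
      fun hB => absurd h1 (DegTail519.bridge_zero k hdim w hw ht C hC hB).not_gt⟩

end Field

/-- The facts on a fibre (over the residue field) of a prestable family. -/
theorem fibre_facts {X S : Scheme.{u}} (f : X ⟶ S) (g : ℕ) (hpre : CurvSt.IsPrestableFam f)
    (hgen : ∀ (Ω : Type u) [Field Ω] [IsAlgClosed Ω] (t : Spec (CommRingCat.of Ω) ⟶ S) (Y : Scheme.{u}) (i : Y ⟶ X)
      (q : Y ⟶ Spec (CommRingCat.of Ω)), IsPullback i q f t → Models.curveGenus Ω Y q = g) (s : S) :
    letI : (f.fiber s).Over (Spec (CommRingCat.of (S.residueField s))) := ⟨f.fiberToSpecResidueField s⟩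
    IsProper (f.fiberToSpecResidueField s) ∧ topologicalKrullDim (f.fiber s) = 1 ∧
      Module.finrank (S.residueField s) (Coh.HH (f.fiber s) (Coh.structureModule (f.fiber s)) 0) = 1 ∧
      Curv2.AtWorstNodal (S.residueField s) (f.fiber s) ∧ Curv2.genus (S.residueField s) (f.fiber s) = g := by
  let _ : (f.fiber s).Over (Spec (CommRingCat.of (S.residueField s))) := ⟨f.fiberToSpecResidueField s⟩
  obtain ⟨hP, hnod, hconn⟩ := hpre
  have hPs : IsProper (f.fiberToSpecResidueField s) :=
    MorphismProperty.of_isPullback (RelAmp.isPullback_fiber f s) hP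
  have hPs' : IsProper (f.fiber s ↘ Spec (CommRingCat.of (S.residueField s))) := hPs
  obtain ⟨hd, hn⟩ := hnod.2.2 s
  let Ω := AlgebraicClosure (S.residueField s)
  let X' := pullback (f.fiber s ↘ Spec (CommRingCat.of (S.residueField s)))
    (Spec.map (CommRingCat.ofHom (algebraMap (S.residueField s) Ω)))
  let i' : X'.Over (Spec (CommRingCat.of Ω)) := ⟨pullback.snd _ _⟩
  have sq1 : IsPullback (pullback.fst _ _) (X' ↘ Spec (CommRingCat.of Ω))
    (f.fiber s ↘ Spec (CommRingCat.of (S.residueField s)))
    (Spec.map (CommRingCat.ofHom (algebraMap (S.residueField s) Ω))) := IsPullback.of_hasPullback _ _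
  have sq2 := sq1.paste_horiz (RelAmp.isPullback_fiber f s)
  have hc : ConnectedSpace X' := hconn Ω _ X' _ _ sq2
  have hg := hgen Ω _ X' _ _ sq2
  have hP' : IsProper (X' ↘ Spec (CommRingCat.of Ω)) := MorphismProperty.of_isPullback sq2 hP
  have hne : Nonempty (f.fiber s) := (pullback.fst (f.fiber s ↘ Spec (CommRingCat.of (S.residueField s)))
    (Spec.map (CommRingCat.ofHom (algebraMap (S.residueField s) Ω)))).base.hom.1 |> fun φ => ⟨φ hc.toNonempty.some⟩
  have hdim : topologicalKrullDim (f.fiber s) = 1 := GeoFib.dim_eq_one hd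
  have hnod' : Curv2.AtWorstNodal Ω X' := by
    have e1 := hnod.1
    have e2 := hnod.2.1
    have e3 : LocallyOfFinitePresentation (X' ↘ Spec (CommRingCat.of Ω)) := MorphismProperty.of_isPullback sq2 e2
    have e4 := (K901.SchPre.isNodalFamily_iff f).1 hnod
    have e5 := (K901.SchPre.nodSet_iff f sq2).2 fun x _ => e4 x
    exact ((K901.SchPre.nodal_field_iff (X' ↘ Spec (CommRingCat.of Ω))).2
      ((K901.SchPre.isNodalFamily_iff _).2 e5)).1
  have hr : IsReduced X' := GenusOne512.isReduced_of_atWorstNodal Ω X' hnod'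
  have h0 : Module.finrank Ω (Coh.HH X' (Coh.structureModule X') 0) = 1 :=
    Groth.Agent.Models.H74.CohSide.finrank_HH_zero_eq_one Ω
  refine ⟨hPs, hdim, ?_, hn, ?_⟩
  · rw [← CurvesB.VABaseChange.finrank_structure_eq sq1 0]
    exact h0
  · rw [← CurvesB.VABaseChange.genus_eq sq1]
    exact hg

end K900.FibTail
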