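import Groth.Agent.Deform.K682.RelDual
import Groth.Agent.CurvesC.DualNodal
import Groth.Agent.CurvesC.DualSetup

/-!
# The sheaf `L` with `f^! O = L[1]` for a curve over a field is part of a dualizing pair
-/

set_option autoImplicit false
universe u
open CategoryTheory CategoryTheory.Limits AlgebraicGeometry
attribute [local instance] HasDerivedCategory.standard

namespace K900.FibDual

open Groth.Agent Groth.Agent.CurvesC Groth.Agent.CurvesC.DualCount K682.RelDual

variable (k : Type u) [Field k] {X : Scheme.{u}} [X.Over (Spec (CommRingCat.of k))]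

theorem isPair_of_iso {w w' : X.Modules} (e : w ≅ w') {t : Coh.HH X w' 1 →ₗ[k] k} (h : IsPair k t) :
    IsPair k (t.comp (hmapₗ k e.hom 1)) := by
  intro F hF ψ
  obtain ⟨φ, hφ, hu⟩ := h F hF ψ
  have key : ∀ (φ' : F ⟶ w) (φ'' : F ⟶ w') (_ : φ' ≫ e.hom = φ'') (x : Coh.HH X F 1),
      (t.comp (hmapₗ k e.hom 1)) (Sheaf.H.map ((SheafOfModules.toSheaf X.ringCatSheaf).map φ') 1 x) =
        t (Sheaf.H.map ((SheafOfModules.toSheaf X.ringCatSheaf).map φ'') 1 x) := by
    intro φ' φ'' h2 x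
    subst h2
    have h1 := Groth.Agent.CohqB.HSeqMod.hmap_comp_apply φ' e.hom 1 x
    exact congrArg t h1.symm
  have e1 : (φ ≫ e.inv) ≫ e.hom = φ := by
    rw [Category.assoc, e.inv_hom_id, Category.comp_id]
  refine ⟨φ ≫ e.inv, fun x => (hφ x).trans (key _ _ e1 x).symm, fun φ' hφ' => ?_⟩
  have h3 : φ' ≫ e.hom = φ := hu _ fun x => (hφ' x).trans (key φ' _ rfl x)
  rw [← h3, Category.assoc, e.hom_inv_id, Category.comp_id]

/-- `q^! O = L[1]` over a field gives a dualizing pair. -/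
theorem exists_pair [IsProper (X ↘ (Spec (CommRingCat.of k)))] (hdim : topologicalKrullDim X = 1)
    [DCoh.HasRpush (X ↘ (Spec (CommRingCat.of k)))] {L : X.Modules}
    (hL : IsRD (X ↘ (Spec (CommRingCat.of k))) 1 L) : ∃ t : Coh.HH X L 1 →ₗ[k] k, IsPair k t := by
  have c1 : CompactSpace X := QuasiCompact.compactSpace_of_compactSpace (X ↘ (Spec (CommRingCat.of k)))
  have c2 : QuasiSeparatedSpace X := quasiSeparatedSpace_of_quasiSeparated (X ↘ (Spec (CommRingCat.of k)))
  have hf : DCoh.RpushPreservesQCoh (X ↘ (Spec (CommRingCat.of k))) := fun K hK => S0998.result _ K hK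
  have hs : DCoh.HasShriek (X ↘ (Spec (CommRingCat.of k))) hf := S1766.result X _ _ hf
  have hq : DCoh.IsQCohD (DCoh.inD (Spec (CommRingCat.of k)) (Coh.structureModule (Spec (CommRingCat.of k)))) :=
    PerfA.QCohD.isQCohD_inD _ (Fdesc.StructMod.isQCoh_structureModule _)
  let O : DCoh.DQCoh (Spec (CommRingCat.of k)) := ⟨DCoh.inD _ (Coh.structureModule _), hq⟩
  obtain ⟨e⟩ := nonempty_iso_dualizingMod (X ↘ (Spec (CommRingCat.of k))) hf O ⟨Iso.refl _⟩ hL
  obtain ⟨t, ht⟩ := DualNodal.exists_isPair k hf O hdim ⟨Iso.refl _⟩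
  exact ⟨_, isPair_of_iso k e ht⟩

end K900.FibDual
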