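import Groth.Agent.CurvSt.K900.MarkTw
import Groth.Agent.CurvSt.K900.RelAmp
import Groth.Agent.CurvSt.K900.DualBasic

/-!
# Stability of a prestable pointed family and relative ampleness of the twisted dualizing module
-/

set_option autoImplicit false
universe u
open CategoryTheory CategoryTheory.Limits AlgebraicGeometry TopologicalSpace Opposite IsLocalRing

namespace K900.StabAmple

open Groth.Agent K326.PtsDiv K326.SemiStab

/-- A module behaving like the relative dualizing sheaf of a family of curves on all fibres over fields. -/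
structure GoodDual {X S : Scheme.{u}} (f : X ⟶ S) (w : X.Modules) : Prop where
  inv : PicF.IsInvertible w
  pair : ∀ (k : Type u) [Field k] (t : Spec (CommRingCat.of k) ⟶ S) (Y : Scheme.{u}) (i : Y ⟶ X)
    (q : Y ⟶ Spec (CommRingCat.of k)), IsPullback i q f t → topologicalKrullDim Y = 1 →
      letI : Y.Over (Spec (CommRingCat.of k)) := ⟨q⟩
      ∃ tr : Coh.HH Y ((Scheme.Modules.pullback i).obj w) 1 →ₗ[k] k, CurvesC.DualCount.IsPair k tr

variable {C T : Scheme.{u}} {f : C ⟶ T} {n g : ℕ} {σ : Fin n → (T ⟶ C)} (hσ : ∀ i, σ i ≫ f = 𝟙 T)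

/-- **Stability is relative ampleness of the twisted dualizing module.** -/
theorem isStableFam_iff (hpre : CurvSt.IsPrestablePtdFam f σ hσ g) {w : C.Modules} (hw : GoodDual f w)
    (LD : Fin n → C.Modules) (hLD : ∀ i, ClSub.IsInverseOf (LD i) (ClSub.idealMod (σ i).ker)) :
    CurvSt.IsStableFam f σ hσ g ↔ RelAmple.IsRelAmple f (Curv2.tensorPows w n LD (fun _ => 1)) := by
  have hP := hpre.2.1
  have hinv : PicF.IsInvertible (Curv2.tensorPows w n LD (fun _ => 1)) :=
    MarkTw.isInvertible_tensorPows hw.inv _ _ fun j => (Dix.IdealModCartier.isInvertible_of_isInverseOf (hLD j)).1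
  rw [RelAmp.isRelAmple_iff_geom f hinv]
  constructor
  · rintro ⟨-, -, -, hst⟩ Ω _ _ t X i q sq
    have h1 := hst Ω t X i q sq
    let _ : X.Over (Spec (CommRingCat.of Ω)) := ⟨q⟩
    obtain ⟨hPq, hC, hdim, ⟨hn, -⟩, -⟩ := id h1
    have hPq' : IsProper (X ↘ (Spec (CommRingCat.of Ω))) := hPq
    have hn' : Curv2.AtWorstNodal Ω X := hn
    have hr : IsReduced X := CurvesC.GenusOne512.isReduced_of_atWorstNodal Ω X hn'
    have hp : Pts Ω n (CurvSt.markedPt σ hσ sq) := PtAmple.pts_of_isStablePtd Ω X h1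
    have hT := MarkTw.tw hσ sq LD hLD hw.inv hPq hr hC hdim hp (hw.pair Ω t X i q sq hdim)
    exact PtAmple.isAmple_of_isStablePtd Ω X h1 hp _ _ hT
  · intro hA
    refine ⟨hpre.1, hpre.2.1, hpre.2.2.1, fun Ω _ _ t X i q sq => ?_⟩
    have h1 := hpre.2.2.2 Ω t X i q sq
    let _ : X.Over (Spec (CommRingCat.of Ω)) := ⟨q⟩
    obtain ⟨hPq, hC, hdim, ⟨hn, -⟩, hinj, hsm⟩ := id h1
    have hPq' : IsProper (X ↘ (Spec (CommRingCat.of Ω))) := hPq
    have hn' : Curv2.AtWorstNodal Ω X := hn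
    have hr : IsReduced X := CurvesC.GenusOne512.isReduced_of_atWorstNodal Ω X hn'
    have hp : Pts Ω n (CurvSt.markedPt σ hσ sq) := ⟨hinj, fun i => (hsm i).1, fun i => (hsm i).2⟩
    have hT := MarkTw.tw hσ sq LD hLD hw.inv hPq hr hC hdim hp (hw.pair Ω t X i q sq hdim)
    exact AmpleStab.isStablePtd_of_isAmple Ω X h1 hp _ _ hT (hA Ω t X i q sq)

end K900.StabAmple
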