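import Groth.Agent.CurvSt.K901.DualRel
import Groth.Agent.CurvSt.K901.SchPre
import Groth.Agent.CurvSt.K897.OmegaFam
import Groth.Agent.Dual.H318.PureDim
import Groth.Agent.CurvSt.K900.StabAmple
import Groth.Agent.CurvSt.K900.FibDual

/-!
# The relative dualizing sheaf of a proper nodal family restricts to the dualizing sheaves of the fibres
-/

set_option autoImplicit false
universe u
open CategoryTheory CategoryTheory.Limits AlgebraicGeometry TopologicalSpace
attribute [local instance] HasDerivedCategory.standard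

namespace K900.OmegaGood

open Groth.Agent K900.StabAmple

/-- A nodal family has Gorenstein fibres of dimension one. -/
theorem gorDim {X S : Scheme.{u}} (f : X ⟶ S) (hf : Curv2.IsNodalFamily f) (x : X) : K901.DualAff.GorDim 1 f x := by
  have h1 : Flat f := hf.1
  have h2 : LocallyOfFinitePresentation f := hf.2.1
  have hd : ∀ x : X, FlatMor.fibreDimAt f x = ((1 : ℕ) : WithBot ℕ∞) :=
    Groth.Agent.Dual.H318.PureDim.fibreDimAt_eq f 1 fun y Z hZ => by
      rw [(hf.2.2 y).1 Z hZ]
      rfl
  exact ⟨K897.OmegaFam.isGorensteinMor f hf x, hd x⟩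

/-- **The relative dualizing sheaf of a proper nodal family over an arbitrary base.** -/
theorem goodDual {X S : Scheme.{u}} (f : X ⟶ S) [IsProper f] (hf : Curv2.IsNodalFamily f)
    [DCoh.HasRpush f] (h : DCoh.RpushPreservesQCoh f) [DCoh.HasShriek f h] (OS : DCoh.DQCoh S)
    (hOS : Nonempty (OS.obj ≅ DCoh.inD S (Coh.structureModule S))) :
    GoodDual f (DCoh.dualizingMod f h OS 1) := by
  have h1 : Flat f := hf.1
  have h2 : LocallyOfFinitePresentation f := hf.2.1
  refine ⟨K901.DualRel.gor f h OS hOS 1 (gorDim f hf), fun k _ t Y i q sq hdim => ?_⟩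
  let _ : Y.Over (Spec (CommRingCat.of k)) := ⟨q⟩
  have hq : IsProper q := MorphismProperty.of_isPullback sq inferInstance
  have hq' : IsProper (Y ↘ (Spec (CommRingCat.of k))) := hq
  have hr : DCoh.HasRpush (Y ↘ (Spec (CommRingCat.of k))) := Groth.Agent.Dcoh.DerSch.hasRpush _
  have hr' : DCoh.HasRpush q := hr
  have h3 := K901.DualRel.isRD_field f h OS hOS 1 (gorDim f hf) sq
  exact FibDual.exists_pair k hdim h3

/-- A prestable pointed family is a nodal family. -/
theorem isNodalFamily_of_prestable {C T : Scheme.{u}} {f : C ⟶ T} {n g : ℕ} {σ : Fin n → (T ⟶ C)}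
    (hσ : ∀ i, σ i ≫ f = 𝟙 T) (hpre : CurvSt.IsPrestablePtdFam f σ hσ g) : Curv2.IsNodalFamily f := by
  have h1 : Flat f := hpre.1
  have h2 : IsProper f := hpre.2.1
  have h3 : LocallyOfFinitePresentation f := hpre.2.2.1
  rw [K901.SchPre.isNodalFamily_iff]
  have key : ∀ s : T, s ∈ K901.SchPre.NodSet f := by
    intro s
    have h4 : s ∈ K901.SchLoc.Loc (K901.SchPre.PreProp n g) f σ hσ := fun Ω _ _ t _ X' i q hP =>
      hpre.2.2.2 Ω t X' i q hP
    rw [K901.SchPre.loc_prestable] at h4
    exact h4.1.1.1.1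
  exact fun x => key (f x) x rfl

end K900.OmegaGood
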