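import Groth.Agent.CurvSt.K900.PtAmple
import Groth.Agent.CurvSt.K900.DegC
import Groth.Agent.CurvSt.K900.Comp
import Groth.Agent.CurvesC.CanonGG
import Groth.Prelude.Def_StMap

/-!
# A prestable pointed curve with ample twisted dualizing module is stable
-/

set_option autoImplicit false
universe u
open CategoryTheory CategoryTheory.Limits AlgebraicGeometry TopologicalSpace Opposite

namespace K900.AmpleStab

open Groth.Agent.CurvesC.TailGeom K326.SemiStab K326.PtsDiv K326.DegPts Groth.Agent.CurvesC.TailNum
open Groth.Agent.CurvesC Groth.Agent.CurvesB Groth.Agent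

section Total

variable (k : Type u) [Field k] (X : Scheme.{u}) [X.Over (Spec (CommRingCat.of k))]
  [IsProper (X ↘ (Spec (CommRingCat.of k)))] [IsReduced X] [IsNoetherian X] [Nonempty X]

/-- The degree of an ample module on a curve is positive. -/
theorem deg_pos (hpure : ∀ Z ∈ irreducibleComponents (X : Type u), topologicalKrullDim Z = 1)
    (hdim : topologicalKrullDim X = 1) {M : X.Modules} (hM : CohB1.IsAmple M) : 0 < Curv2.deg k X M 1 := by
  have key : ∀ C : irreducibleComponents (X : Type u),
      0 < Groth.Agent.S1641.degC k X 1 ((Scheme.Modules.pullback (𝟙 X)).obj M) C := by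
    intro C
    refine K900.DegC.degC_pos k hdim.le hpure (𝟙 X) hM C ?_
    intro h
    have h1 : C.1 ⊆ {C.2.1.genericPoint} := fun x hx => h x hx
    have h2 : topologicalKrullDim C.1 ≤ 0 := by
      have h3 : Subsingleton C.1 := (Set.subsingleton_singleton.anti h1).coe_sort
      have h4 : Subsingleton (TopologicalSpace.IrreducibleCloseds C.1) := by
        refine ⟨fun A B => ?_⟩
        ext z
        obtain ⟨a, ha⟩ := A.2.nonempty
        obtain ⟨b, hb⟩ := B.2.nonempty
        rw [Subsingleton.elim z a]
        refine ⟨fun _ => ?_, fun _ => ha⟩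
        rw [Subsingleton.elim a b]
        exact hb
      exact Order.krullDim_nonpos_of_subsingleton
    rw [hpure C.1 C.2] at h2
    exact absurd h2 (by decide)
  let ι : (Scheme.Modules.pullback (𝟙 X)).obj M ≅ M := (Scheme.Modules.pullbackId X).app M
  rw [← Groth.Agent.CurvesC.DegIso.deg_congr k ι 1,
    Groth.Agent.S1641.result k X hdim.le 1 _ (Groth.Agent.Ega2.QCohLocal.isFinLocFreeOfRank_one_iff.mpr
      (Groth.Agent.Fdesc.LocGen.isInvertible_pullback _ hM.1))]
  have hfin : Finite (irreducibleComponents (X : Type u)) :=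
    TopologicalSpace.NoetherianSpace.finite_irreducibleComponents
  have pos : ∀ C : irreducibleComponents (X : Type u), 0 < (if topologicalKrullDim (C.1 : Set X) = 1 then
        ((Module.length (X.presheaf.stalk C.2.1.genericPoint) (X.presheaf.stalk C.2.1.genericPoint)).toNat : ℤ) *
          Groth.Agent.S1641.degC k X 1 ((Scheme.Modules.pullback (𝟙 X)).obj M) C else 0) := by
    intro C
    rw [if_pos (hpure C.1 C.2)]
    have h1 := K900.Comp.length_of_isField (K900.Comp.isField_stalk C) (RingHom.id _) Function.surjective_id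
    rw [h1]
    simpa using key C
  refine finsum_pos (fun C => (pos C).le) ?_ (Set.toFinite _)
  exact ⟨⟨irreducibleComponent (Classical.arbitrary X), irreducibleComponent_mem_irreducibleComponents _⟩, pos _⟩

end Total

variable (k : Type u) [Field k] [IsAlgClosed k] (X : Scheme.{u}) [X.Over (Spec (CommRingCat.of k))]

attribute [local instance] subOver

theorem isStablePtd_of_isAmple {g n : ℕ} {p : Fin n → X}
    (hX : StMap.IsPrestablePtd k X (X ↘ (Spec (CommRingCat.of k))) g p) (hp : Pts k n p) (w M : X.Modules)
    (hT : ∀ [IsProper (X ↘ (Spec (CommRingCat.of k)))] [IsReduced X] [ConnectedSpace X], Tw k X hp w M)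
    (hA : CohB1.IsAmple M) :
    CurvSt.IsStablePtd k X (X ↘ (Spec (CommRingCat.of k))) g p := by
  obtain ⟨hP, hC, hdim, ⟨hn, hg⟩, hinj, hsm⟩ := hX
  have hn' : Curv2.AtWorstNodal k X := hn
  have hg' : Curv2.genus k X = g := hg
  have hN : IsNoetherian X := Groth.Agent.CurvesC.CurveCoh.noetherianSpace k X
  have hr : IsReduced X := Groth.Agent.CurvesC.GenusOne512.isReduced_of_atWorstNodal k X hn'
  have hpure := Groth.Agent.CurvesC.TailMain.pure_of_connected X hdim
  refine ⟨hP, hC, hdim, ⟨hn, hg⟩, hinj, hsm, ?_, ?_⟩
  · intro E hE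
    have h1 := K896.TailBridge.h1_of_isSmRatComp k X E hE
    have hd : topologicalKrullDim (compIdeal E hE.1).subscheme = 1 := dim_comp X hE.1 (hpure E hE.1)
    have hirr := connected_comp E hE.1
    have hP1 : IsProper ((compIdeal E hE.1).subscheme ↘ Spec (CommRingCat.of k)) :=
      inferInstanceAs (IsProper ((compIdeal E hE.1).subschemeι ≫ (X ↘ (Spec (CommRingCat.of k)))))
    have h2 := deg_formula k X hdim hn' hp w M hT (compIdeal E hE.1) hd
    have h3 : 0 < Curv2.deg k (compIdeal E hE.1).subscheme
        ((Scheme.Modules.pullback (compIdeal E hE.1).subschemeι).obj M) 1 := by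
      have hN1 := isNoetherian_sub k X (compIdeal E hE.1)
      refine deg_pos k (compIdeal E hE.1).subscheme ?_ hd ?_
      · exact Groth.Agent.CurvesC.TailMain.pure_of_connected _ hd
      · exact Groth.Agent.Flat2H.FamOpen.isAmple_pullback_of_isAffineHom _ hA
    have h4 : Curv2.genus k (compIdeal E hE.1).subscheme = 0 :=
      Module.finrank_zero_of_subsingleton
    rw [h4, coe_support_compIdeal] at h2
    have h5 : 3 ≤ spec X p E := by
      have : (0 : ℤ) < -2 + (spec X p E : ℤ) := by
        have h6 := h3.trans_eq h2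
        simpa using h6
      omega
    rw [K900.PtAmple.spec_eq X p hE.1 (Groth.Agent.CurvesC.TailGeom.finite_inter hdim.le hE.1).1]
    exact_mod_cast h5
  · have hiso : IsIso (⊥ : X.IdealSheafData).subschemeι := inferInstance
    have hd : topologicalKrullDim (⊥ : X.IdealSheafData).subscheme = 1 := by
      rw [← hdim]
      exact IsHomeomorph.topologicalKrullDim_eq _
        (Scheme.Hom.homeomorph (⊥ : X.IdealSheafData).subschemeι).isHomeomorph
    have hr' : IsReduced (⊥ : X.IdealSheafData).subscheme := isReduced_of_isOpenImmersion (⊥ : X.IdealSheafData).subschemeι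
    have hc' : ConnectedSpace (⊥ : X.IdealSheafData).subscheme :=
      (Scheme.Hom.homeomorph (⊥ : X.IdealSheafData).subschemeι).symm.surjective.connectedSpace
        (Scheme.Hom.homeomorph (⊥ : X.IdealSheafData).subschemeι).symm.continuous
    have hP1 : IsProper ((⊥ : X.IdealSheafData).subscheme ↘ Spec (CommRingCat.of k)) :=
      inferInstanceAs (IsProper ((⊥ : X.IdealSheafData).subschemeι ≫ (X ↘ (Spec (CommRingCat.of k)))))
    have hN1 := isNoetherian_sub k X (⊥ : X.IdealSheafData)
    have h2 := deg_formula k X hdim hn' hp w M hT (⊥ : X.IdealSheafData) hd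
    have h3 : 0 < Curv2.deg k (⊥ : X.IdealSheafData).subscheme
        ((Scheme.Modules.pullback (⊥ : X.IdealSheafData).subschemeι).obj M) 1 := by
      refine deg_pos k _ ?_ hd ?_
      · exact Groth.Agent.CurvesC.TailMain.pure_of_connected _ hd
      · exact Groth.Agent.Flat2H.FamOpen.isAmple_pullback_of_isAffineHom _ hA
    have hgX : Curv2.genus k (⊥ : X.IdealSheafData).subscheme = Curv2.genus k X := by
      have h3 := finrank_quotMod k X (⊥ : X.IdealSheafData) 1
      rw [CanonGG.finrank_bot X k 1] at h3
      exact h3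
    have hs : ((⊥ : X.IdealSheafData).support : Set X) = Set.univ := by
      rw [Scheme.IdealSheafData.support_eq_top_iff.mpr rfl]
      rfl
    have h6 : spec X p Set.univ = n := by
      unfold spec
      rw [Set.compl_univ, closure_empty, Set.inter_empty, Set.ncard_empty, Set.preimage_univ, Set.ncard_univ,
        Nat.card_fin, zero_add]
    rw [hgX, hs, h6, hg'] at h2
    have h7 := h3.trans_eq h2
    omega

end K900.AmpleStab
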