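import Groth.Prelude.Def_Curv2
import Mathlib.Topology.NoetherianSpace
import Mathlib.Topology.Sober
import Mathlib.AlgebraicGeometry.IdealSheaf.Subscheme

/-!
# Unions of irreducible components of a scheme
-/

set_option autoImplicit false
universe u

open CategoryTheory TopologicalSpace Opposite CategoryTheory.Limits AlgebraicGeometry

namespace K900.Comp

variable {X : Scheme.{u}}

theorem closure_gp (C : irreducibleComponents (X : Type u)) : 
    closure {C.2.1.genericPoint} = C.1 := by
  rw [C.2.1.genericPoint_closure_eq]
  exact (isClosed_of_mem_irreducibleComponents C.1 C.2).closure_eq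

/-- The union of a set of irreducible components. -/
def un (G : Set (irreducibleComponents (X : Type u))) : Set X := ⋃₀ (Subtype.val '' G)

theorem mem_un {G : Set (irreducibleComponents (X : Type u))} {x : X} :
    x ∈ un G ↔ ∃ C ∈ G, x ∈ C.1 := by
  simp [un]

theorem subset_un {G : Set (irreducibleComponents (X : Type u))} {C : irreducibleComponents (X : Type u)}
    (hC : C ∈ G) : C.1 ⊆ un G := fun _ hx => mem_un.mpr ⟨C, hC, hx⟩

theorem isClosed_un [NoetherianSpace X] (G : Set (irreducibleComponents (X : Type u))) :
    IsClosed (un G) := by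
  have hfin : Finite (irreducibleComponents (X : Type u)) :=
    TopologicalSpace.NoetherianSpace.finite_irreducibleComponents
  rw [un, Set.sUnion_image]
  exact (Set.toFinite G).isClosed_biUnion fun C _ => isClosed_of_mem_irreducibleComponents C.1 C.2

/-- The union of a set of irreducible components as a closed set. -/
def uc [NoetherianSpace X] (G : Set (irreducibleComponents (X : Type u))) : Closeds X :=
  ⟨un G, isClosed_un G⟩

theorem gp_mem (C : irreducibleComponents (X : Type u)) : C.2.1.genericPoint ∈ C.1 :=
  (closure_gp C).le (subset_closure rfl)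

theorem subset_of_gp_mem {C : irreducibleComponents (X : Type u)} {Z : Set X} (hZ : IsClosed Z)
    (h : C.2.1.genericPoint ∈ Z) : C.1 ⊆ Z := by
  rw [← closure_gp C]
  exact closure_minimal (Set.singleton_subset_iff.mpr h) hZ

theorem gp_mem_comp_iff {C D : irreducibleComponents (X : Type u)} :
    C.2.1.genericPoint ∈ D.1 ↔ C = D := by
  constructor
  · intro h
    have h1 := subset_of_gp_mem (isClosed_of_mem_irreducibleComponents D.1 D.2) h
    exact Subtype.ext (h1.antisymm (C.2.2 D.2.1 h1))
  · rintro rfl
    exact gp_mem C

theorem gp_mem_un_iff {G : Set (irreducibleComponents (X : Type u))}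
    {C : irreducibleComponents (X : Type u)} : C.2.1.genericPoint ∈ un G ↔ C ∈ G := by
  rw [mem_un]
  constructor
  · rintro ⟨D, hD, h⟩
    rwa [gp_mem_comp_iff.mp h]
  · intro h
    exact ⟨C, h, gp_mem C⟩

/-- An open set meeting the union of `G` contains the generic point of a component in `G`. -/
theorem exists_gp_mem {G : Set (irreducibleComponents (X : Type u))} {U : Set X} (hU : IsOpen U)
    {x : X} (hx : x ∈ un G) (hxU : x ∈ U) : ∃ C ∈ G, C.2.1.genericPoint ∈ U := by
  obtain ⟨C, hC, hxC⟩ := mem_un.mp hx
  rw [← closure_gp C] at hxC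
  obtain ⟨y, hyU, hy⟩ := mem_closure_iff.mp hxC U hU hxU
  rw [Set.mem_singleton_iff] at hy
  exact ⟨C, hC, hy ▸ hyU⟩

end K900.Comp
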