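import Groth.Prelude.Def_Curv2
import Groth.Agent.CohqB.PushTopH
import Groth.Agent.CurvesC.DualCount

/-!
# The edge map `H^n(Y, c_* M) → H^n(X, M)`, linear over the base field

* `edge k c hc M n`, natural in `M` (`edge_nat`);
* bijective in all degrees when `H^{m+1}(c⁻¹ V, M) = 0` for all affine `V` (`edge_bijective`).
-/

set_option autoImplicit false
universe u

open CategoryTheory TopologicalSpace Opposite CategoryTheory.Limits AlgebraicGeometry

namespace K900.Edge

open Groth.Agent.CohqB.PushTop Groth.Agent.CohqB.HSeqMod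

variable {X Y : Scheme.{u}} (c : X ⟶ Y)

theorem appTop_resTop (V : (Opens Y)ᵒᵖ) (r : Coh.Γtop Y) :
    (c.app V.unop).hom (Coh.resTop Y V r) =
      Coh.resTop X (op (c ⁻¹ᵁ V.unop)) ((c.appTop).hom r) := by
  have h := c.naturality (homOfLE (le_top (a := V.unop))).op
  exact congrArg (fun t => t.hom r) h

theorem smulAb_push (M : X.Modules) (r : Coh.Γtop Y) :
    Coh.smulAb ((Scheme.Modules.pushforward c).obj M) r =
      (CohTop.push c.base).map (Coh.smulAb M ((c.appTop).hom r)) := by
  ext V m
  exact congrArg (fun t : Γ(X, c ⁻¹ᵁ V.unop) => t • (show Γ(M, c ⁻¹ᵁ V.unop) from m))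
    (appTop_resTop c V r)

variable (k : Type u) [Field k] [X.Over (Spec (CommRingCat.of k))] [Y.Over (Spec (CommRingCat.of k))]
  (hc : c ≫ (Y ↘ Spec (CommRingCat.of k)) = X ↘ Spec (CommRingCat.of k))

include hc in
theorem toGlobal_eq (a : k) : Coh.toGlobal (X ↘ Spec (CommRingCat.of k)) a =
    (c.appTop).hom (Coh.toGlobal (Y ↘ Spec (CommRingCat.of k)) a) := by
  rw [← hc]
  simp only [Coh.toGlobal, Scheme.Hom.comp_appTop]
  rfl

/-- The edge map `H^n(Y, c_* M) → H^n(X, M)`. -/
noncomputable def edge (M : X.Modules) (n : ℕ) :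
    Coh.HH Y ((Scheme.Modules.pushforward c).obj M) n →ₗ[k] Coh.HH X M n where
  toFun x := pushH c.base (Coh.toAb M) n x
  map_add' x y := map_add (pushH c.base (Coh.toAb M) n) x y
  map_smul' a x := by
    change pushH c.base (Coh.toAb M) n
        (Sheaf.H.map (Coh.smulAb ((Scheme.Modules.pushforward c).obj M)
          (Coh.toGlobal (Y ↘ Spec (CommRingCat.of k)) a)) n x) =
      Sheaf.H.map (Coh.smulAb M (Coh.toGlobal (X ↘ Spec (CommRingCat.of k)) a)) n
        (pushH c.base (Coh.toAb M) n x)
    rw [toGlobal_eq c k hc, smulAb_push]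
    exact pushH_map c.base (Coh.smulAb M ((c.appTop).hom _)) n x

theorem edge_nat {M N : X.Modules} (φ : M ⟶ N) (n : ℕ)
    (x : Coh.HH Y ((Scheme.Modules.pushforward c).obj M) n) :
    edge c k hc N n (hmap ((Scheme.Modules.pushforward c).map φ) n x) =
      hmap φ n (edge c k hc M n x) :=
  pushH_map c.base ((SheafOfModules.toSheaf X.ringCatSheaf).map φ) n x

/-- Vanishing of the higher cohomology over the inverse images of the affine opens. -/
def Acyc (M : X.Modules) : Prop :=
  Q (X := X.toTopCat) (Y := Y.toTopCat) c.base {V : Opens Y | IsAffineOpen V} (Coh.toAb M)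

theorem edge_bijective {M : X.Modules} (hM : Acyc c M) (n : ℕ) :
    Function.Bijective (edge c k hc M n) :=
  pushH_bijective (X := X.toTopCat) (Y := Y.toTopCat) c.base _ Y.isBasis_affineOpens (Coh.toAb M) hM n

end K900.Edge
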