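import Groth.Agent.Ega3B.ChiFib
import Groth.Agent.CurvesB.VABaseChange
import Groth.Agent.Pi1.H536.GenusFam
import Groth.Agent.PerfB.Semi

/-!
# Euler characteristics of invertible modules on geometric fibres
-/

set_option autoImplicit false
universe u
open CategoryTheory CategoryTheory.Limits AlgebraicGeometry

namespace K900.EulGeo

open Groth.Agent

theorem betti_field (k : Type u) [Field k] {X : Scheme.{u}}
    [X.Over (Spec (CommRingCat.of k))] [IsProper (X ↘ Spec (CommRingCat.of k))] {M : X.Modules} (hM : Coh.IsQCoh M)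
    (x : ↥(Spec (CommRingCat.of k))) (i : ℕ) :
    PerfAux.betti (X ↘ Spec (CommRingCat.of k)) M x i = Module.finrank k (Coh.HH X M i) := by
  let f := X ↘ Spec (CommRingCat.of k)
  let S := Spec (CommRingCat.of k)
  let a : CommRingCat.of k ⟶ S.residueField x := Spec.preimage (S.fromSpecResidueField x)
  let : Algebra k (S.residueField x) := a.hom.toAlgebra
  let : (f.fiber x).Over (Spec (CommRingCat.of (S.residueField x))) :=
    ⟨f.fiberToSpecResidueField x⟩
  have ha : Spec.map (CommRingCat.ofHom (algebraMap k (S.residueField x))) =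
      S.fromSpecResidueField x := Spec.map_preimage _
  have hpb : IsPullback (f.fiberι x) (f.fiber x ↘ Spec (CommRingCat.of (S.residueField x)))
      (X ↘ Spec (CommRingCat.of k))
      (Spec.map (CommRingCat.ofHom (algebraMap k (S.residueField x)))) := by
    rw [ha]
    exact IsPullback.of_hasPullback _ _
  exact CurvesB.VABaseChange.finrank_eq hpb M hM i

/-- Betti numbers of an invertible module computed on the base change to a field-valued point. -/
theorem betti_eq {X S : Scheme.{u}} (f : X ⟶ S) [IsProper f] {L : X.Modules} (hL : PicF.IsInvertible L)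
    (k : Type u) [Field k] (t : Spec (CommRingCat.of k) ⟶ S) (x : ↥(Spec (CommRingCat.of k)))
    {X' : Scheme.{u}} [X'.Over (Spec (CommRingCat.of k))] (g : X' ⟶ X)
    (h : IsPullback g (X' ↘ Spec (CommRingCat.of k)) f t) (i : ℕ) :
    Module.finrank k (Coh.HH X' ((Scheme.Modules.pullback g).obj L) i) = PerfAux.betti f L (t x) i := by
  have hp : IsProper (X' ↘ Spec (CommRingCat.of k)) := MorphismProperty.of_isPullback h inferInstance
  have hL' := Fdesc.LocGen.isInvertible_pullback g hL
  rw [← betti_field k (Models2.FPCoh.isQCoh_of_isFP (Ega3B.ChiFib.isFP_of_isInvertible hL')) x i]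
  exact PerfB.Semi.betti_eq' h (Ega3B.ChiFib.isFP_of_isInvertible hL) (Iso.refl _) x i

theorem euler_eq {X S : Scheme.{u}} (f : X ⟶ S) [IsProper f] {L : X.Modules} (hL : PicF.IsInvertible L)
    (k : Type u) [Field k] (t : Spec (CommRingCat.of k) ⟶ S) (x : ↥(Spec (CommRingCat.of k)))
    {X' : Scheme.{u}} [X'.Over (Spec (CommRingCat.of k))] (g : X' ⟶ X)
    (h : IsPullback g (X' ↘ Spec (CommRingCat.of k)) f t) :
    Curv2.euler k X' ((Scheme.Modules.pullback g).obj L) = PerfAux.eulerChar f L (t x) :=
  finsum_congr fun i => by rw [betti_eq f hL k t x g h i]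

theorem euler_structure_eq {X S : Scheme.{u}} (f : X ⟶ S) [IsProper f]
    (k : Type u) [Field k] (t : Spec (CommRingCat.of k) ⟶ S) (x : ↥(Spec (CommRingCat.of k)))
    {X' : Scheme.{u}} [X'.Over (Spec (CommRingCat.of k))] (g : X' ⟶ X)
    (h : IsPullback g (X' ↘ Spec (CommRingCat.of k)) f t) :
    Curv2.euler k X' (Coh.structureModule X') = PerfAux.eulerChar f (Coh.structureModule X) (t x) :=
  finsum_congr fun i => by rw [Pi1.H536.GenusFam.finrank_eq_betti f k t x g h i]

/-- The degree of a module on the fibres, as a function on the base. -/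
noncomputable def degFun {X S : Scheme.{u}} (f : X ⟶ S) (L : X.Modules) (s : S) : ℤ :=
  PerfAux.eulerChar f L s - PerfAux.eulerChar f (Coh.structureModule X) s

theorem deg_eq {X S : Scheme.{u}} (f : X ⟶ S) [IsProper f] {L : X.Modules} (hL : PicF.IsInvertible L)
    (k : Type u) [Field k] (t : Spec (CommRingCat.of k) ⟶ S) (x : ↥(Spec (CommRingCat.of k)))
    {X' : Scheme.{u}} [X'.Over (Spec (CommRingCat.of k))] (g : X' ⟶ X)
    (h : IsPullback g (X' ↘ Spec (CommRingCat.of k)) f t) :
    Curv2.deg k X' ((Scheme.Modules.pullback g).obj L) 1 = degFun f L (t x) := by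
  unfold Curv2.deg degFun
  rw [euler_eq f hL k t x g h, euler_structure_eq f k t x g h, Nat.cast_one, one_mul]

theorem isLocallyConstant_degFun {X S : Scheme.{u}} (f : X ⟶ S) [IsProper f] [Flat f] [LocallyOfFinitePresentation f]
    {L : X.Modules} (hL : PicF.IsInvertible L) : IsLocallyConstant (degFun f L) := by
  have h1 := PerfB.Semi.isLocallyConstant_euler f L (Ega3B.ChiFib.isFP_of_isInvertible hL)
    (Ega3B.ChiFib.isFlatOver_of_isInvertible f hL)
  have h2 := PerfB.Semi.isLocallyConstant_euler f (Coh.structureModule X)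
    (PerfB.StructFlat.isFP_structure) (PerfB.StructFlat.isFlatOver_structure f)
  exact h1.sub h2

end K900.EulGeo
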