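import Groth.Agent.Fdesc.LocGenAmple

/-!
# The locus where a morphism of invertible modules is an isomorphism
-/

set_option autoImplicit false
universe u

open CategoryTheory TopologicalSpace Opposite CategoryTheory.Limits AlgebraicGeometry

namespace K900.Loc

open Groth.Agent.Fdesc.LocGen

variable {X : Scheme.{u}}

/-- The points near which `φ` sends a generator to a generator. -/
def W {L M : X.Modules} (φ : L ⟶ M) : Set X :=
  {x | ∃ (U : X.Opens) (e : Γ(L, U)), x ∈ U ∧ IsGen e ∧ IsGen (φ.app U e)}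

theorem mem_basicOpen_of_isUnit {U V : X.Opens} (h : V ≤ U) (a : Γ(X, U)) (ha : IsUnit (ores h a)) {x : X}
    (hx : x ∈ V) : x ∈ X.basicOpen a := by
  have h1 : X.basicOpen (ores h a) = V := X.basicOpen_of_isUnit ha
  have h2 : X.basicOpen (ores h a) = V ⊓ X.basicOpen a := X.basicOpen_res a (homOfLE h).op
  have h3 : x ∈ V ⊓ X.basicOpen a := by rw [← h2, h1]; exact hx
  exact h3.2

theorem isUnit_ores {U : X.Opens} (a : Γ(X, U)) : IsUnit (ores (X.basicOpen_le a) a) :=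
  RingedSpace.isUnit_res_basicOpen X.toRingedSpace a

theorem mem_W_iff {L M : X.Modules} (φ : L ⟶ M) {V : X.Opens} {e : Γ(L, V)} (he : IsGen e)
    {f : Γ(M, V)} (hf : IsGen f) {a : Γ(X, V)} (ha : φ.app V e = a • f) {x : X} (hx : x ∈ V) :
    x ∈ W φ ↔ x ∈ X.basicOpen a := by
  constructor
  · rintro ⟨U', e', hx', he', hφ'⟩
    have h1 : V ⊓ U' ≤ V := inf_le_left
    have h2 : V ⊓ U' ≤ U' := inf_le_right
    obtain ⟨b, hb, hb'⟩ := (he.res h1).exists_unit (he'.res h2)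
    have h3 : φ.app (V ⊓ U') (res L h2 e') = (b * ores h1 a) • res M h1 f := by
      rw [hb', Scheme.Modules.Hom.app_smul, app_res, ha, res_smul, smul_smul]
    have h4 : IsGen (φ.app (V ⊓ U') (res L h2 e')) := by
      rw [app_res]
      exact hφ'.res h2
    rw [h3, (hf.res h1).smul_iff] at h4
    exact mem_basicOpen_of_isUnit h1 a (isUnit_of_mul_isUnit_right h4) ⟨hx, hx'⟩
  · intro hxa
    refine ⟨X.basicOpen a, res L (X.basicOpen_le a) e, hxa, he.res _, ?_⟩
    rw [app_res, ha, res_smul]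
    exact (hf.res _).unit_smul (isUnit_ores a)

/-- Common local generators. -/
theorem exists_gens {L M : X.Modules} (hL : PicF.IsInvertible L) (hM : PicF.IsInvertible M) (φ : L ⟶ M)
    {U : X.Opens} {x : X} (hx : x ∈ U) : ∃ (V : X.Opens) (_ : IsAffineOpen V) (_ : x ∈ V) (_ : V ≤ U)
      (e : Γ(L, V)) (f : Γ(M, V)) (a : Γ(X, V)), IsGen e ∧ IsGen f ∧ φ.app V e = a • f := by
  obtain ⟨V₁, e₁, -, hx₁, hV₁, he₁⟩ := exists_affine_gen hL hx
  obtain ⟨V, f, hV, hxV, hVV, hf⟩ := exists_affine_gen hM hx₁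
  obtain ⟨a, ha⟩ := hf.exists_eq (φ.app V (res L hVV e₁))
  exact ⟨V, hV, hxV, hVV.trans hV₁, _, f, a, he₁.res hVV, hf, ha⟩

theorem isOpen_W {L M : X.Modules} (φ : L ⟶ M) : IsOpen (W φ) := by
  rw [isOpen_iff_forall_mem_open]
  rintro x ⟨U, e, hx, he, hφ⟩
  exact ⟨U, fun y hy => ⟨U, e, hy, he, hφ⟩, U.2, hx⟩

end K900.Loc
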