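import Groth.Agent.CurvSt.K900.Comp
import Groth.Agent.CurvSt.K900.Loc
import Groth.Agent.CurvesC.DualDegForm
import Groth.Agent.Dcoh.MonTm
import Groth.Agent.Ega2.TensGen
import Groth.Agent.VarietyB.UnitStalk

/-!
# Degrees and morphisms of invertible modules

`φ : L ⟶ M` between invertible modules on a reduced curve, iso at the generic points of the components in `A` and
zero at those of the components in `T`: `Σ_A deg L + χ(O_{A ∩ T}) ≤ Σ_A deg M`.
-/

set_option autoImplicit false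
universe u

open CategoryTheory TopologicalSpace Opposite CategoryTheory.Limits AlgebraicGeometry MonoidalCategory

namespace K900.Key2

open scoped Groth.Agent.Dcoh.MonCat
open Groth.Agent.Ega2.Tens (tmul add_tmul tmul_add smul_tmul tmul_smul)
open Groth.Agent.Fdesc.LocGen (IsGen res ores app_res res_smul)
open K900.Comp K900.Loc

variable {X : Scheme.{u}}

/-- The quotient `O/J → O/K` for `J ≤ K`. -/
theorem exists_quot {J K : X.IdealSheafData} (h : J ≤ K) :
    ∃ q : ClSub.quotMod J ⟶ ClSub.quotMod K, ClSub.toSubscheme J ≫ q = ClSub.toSubscheme K := by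
  have hres : ∀ (I : X.IdealSheafData) {U V : X.Opens} (h : V ≤ U) (s : Γ(X, U)),
      (ClSub.toSubscheme I).app V (ores h s) = res (ClSub.quotMod I) h ((ClSub.toSubscheme I).app U s) :=
    fun I U V h s => app_res (ClSub.toSubscheme I) h s
  refine Groth.Agent.CurvesC.HomRel.exists_desc (ClSub.toSubscheme J)
    (Groth.Agent.CurvesC.DualSetup.locSurj_toSubscheme J) (ClSub.toSubscheme K) ?_
  intro U x hx
  refine Groth.Agent.Ega1.SubSheaf.section_ext (ClSub.quotMod K) _ _ fun p hp => ?_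
  obtain ⟨V, hV, hpV, hVU⟩ := (Opens.isBasis_iff_nbhd.mp X.isBasis_affineOpens) hp
  refine ⟨V, hVU, hpV, ?_⟩
  rw [map_zero]
  refine ((hres K hVU x).symm.trans ?_)
  refine (Groth.Agent.CurvesC.DualDeg.toSub_zero_iff K ⟨V, hV⟩ _).2 ?_
  have : ores hVU x ∈ J.ideal ⟨V, hV⟩ := by
    rw [← Groth.Agent.CurvesC.DualDeg.toSub_zero_iff]
    exact (hres J hVU x).trans (by rw [hx, map_zero])
  exact h _ this

theorem mono_of_app_injective {M N : X.Modules} (φ : M ⟶ N)
    (h : ∀ U : X.Opens, Function.Injective (φ.app U)) : Mono φ := by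
  have : ∀ U, Mono (((Scheme.Modules.toPresheaf X).map φ).app U) := fun U =>
    ConcreteCategory.mono_of_injective _ (h U.unop)
  have : Mono ((Scheme.Modules.toPresheaf X).map φ) := NatTrans.mono_of_mono_app _
  exact (Scheme.Modules.toPresheaf X).mono_of_mono_map this

section

variable {L M : X.Modules} (φ : L ⟶ M)

/-- Sections of `F ⊗ L` are locally `s ⊗ e`. -/
theorem whisker_tmul (F : X.Modules) {U : X.Opens} (s : Γ(F, U)) (l : Γ(L, U)) :
    (F ◁ φ).app U (tmul s l) = tmul s (φ.app U l) :=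
  Groth.Agent.Dcoh.MonTm.whiskerLeft_tm F φ s l

theorem quot_smul (I : X.IdealSheafData) (U : X.affineOpens) (a : Γ(X, U.1)) (s : Γ(X, U.1)) :
    a • (ClSub.toSubscheme I).app U.1 s = (ClSub.toSubscheme I).app U.1 (a * s : Γ(X, U.1)) :=
  (Scheme.Modules.Hom.app_smul (ClSub.toSubscheme I) a s).symm

theorem quot_surj (I : X.IdealSheafData) {U : X.Opens} (hU : IsAffineOpen U) (s : Γ(ClSub.quotMod I, U)) :
    ∃ s' : Γ(X, U), (ClSub.toSubscheme I).app U s' = s :=
  Groth.Agent.CohqA.IdealMod.toSubscheme_app_surjective I ⟨U, hU⟩ s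

variable [NoetherianSpace X]

/-- `O_T ⊗ φ = 0` if `φ` vanishes at the generic points of the components in `T`. -/
theorem whisker_eq_zero (hL : PicF.IsInvertible L) (hM : PicF.IsInvertible M)
    (T : Set (irreducibleComponents (X : Type u))) (hT : ∀ C ∈ T, C.2.1.genericPoint ∉ W φ) :
    ClSub.quotMod (J T) ◁ φ = 0 := by
  refine Groth.Agent.Dcoh.MonTm.ext₂ _ _ fun U s l => ?_
  refine (whisker_tmul φ _ s l).trans ?_
  change tmul s (φ.app U l) = 0
  refine Groth.Agent.Ega2.Tens.eq_of_locally_eq _ _ _ fun x hx => ?_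
  obtain ⟨V, hV, hxV, hVU, e, f, a, he, hf, ha⟩ := exists_gens hL hM φ hx
  refine ⟨V, homOfLE hVU, hxV, ?_⟩
  change res _ hVU (tmul s (φ.app U l)) = res _ hVU 0
  rw [map_zero]
  have h1 : res (CohB1.tensorMod (ClSub.quotMod (J T)) M) hVU (tmul s (φ.app U l)) =
      tmul (res _ hVU s) (res M hVU (φ.app U l)) := Groth.Agent.Ega2.Tens.tmul_res (homOfLE hVU) s _
  refine h1.trans ?_
  obtain ⟨b, hb⟩ := he.exists_eq (res L hVU l)
  obtain ⟨s', hs'⟩ := quot_surj (J T) hV (res _ hVU s)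
  have h2 : a ∈ (J T).ideal ⟨V, hV⟩ := by
    rw [mem_J_iff]
    intro y hy hya
    obtain ⟨C, hC, hCa⟩ := exists_gp_mem (X.basicOpen a).2 hy hya
    exact hT C hC ((mem_W_iff φ he hf ha (X.basicOpen_le a hCa)).mpr hCa)
  rw [← app_res, hb, Scheme.Modules.Hom.app_smul, ha, smul_smul, tmul_smul, ← smul_tmul, ← hs']
  have h3 : ((b * a : Γ(X, V)) • (ClSub.toSubscheme (J T)).app V s') = 0 := by
    rw [quot_smul (J T) ⟨V, hV⟩]
    refine (Groth.Agent.CurvesC.DualDeg.toSub_zero_iff (J T) ⟨V, hV⟩ _).2 ?_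
    exact Ideal.mul_mem_right _ _ (Ideal.mul_mem_left _ _ h2)
  exact (congrArg (fun z => tmul z f) h3).trans (Groth.Agent.Ega2.Tens.zero_tmul f)

/-- `O_A ⊗ φ` is injective if `φ` is an isomorphism at the generic points of the components in `A`. -/
theorem mono_whisker (hL : PicF.IsInvertible L) (hM : PicF.IsInvertible M)
    (A : Set (irreducibleComponents (X : Type u))) (hA : ∀ C ∈ A, C.2.1.genericPoint ∈ W φ) :
    Mono (ClSub.quotMod (J A) ◁ φ) := by
  refine mono_of_app_injective _ fun U => ?_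
  rw [injective_iff_map_eq_zero]
  intro t ht
  refine Groth.Agent.Ega2.Tens.eq_of_locally_eq _ _ _ fun x hx => ?_
  obtain ⟨V, hV, hxV, hVU, e, f, a, he, hf, ha⟩ := exists_gens hL hM φ hx
  refine ⟨V, homOfLE hVU, hxV, ?_⟩
  change res (ClSub.quotMod (J A) ⊗ L) hVU t = res _ hVU 0
  rw [map_zero]
  obtain ⟨s, hs⟩ := Groth.Agent.Ega2.TensGen.exists_eq_tmul he (res (ClSub.quotMod (J A) ⊗ L) hVU t)
  obtain ⟨s', hs'⟩ := quot_surj (J A) hV s
  have h0 : (ClSub.quotMod (J A) ◁ φ).app V (tmul s e) = 0 := by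
    have h1 : (ClSub.quotMod (J A) ◁ φ).app V (res (ClSub.quotMod (J A) ⊗ L) hVU t) = 0 := by
      rw [app_res, ht, map_zero]
    rwa [hs] at h1
  have h1 : tmul ((a : Γ(X, V)) • s) f = 0 := by
    rw [whisker_tmul, ha, tmul_smul, ← smul_tmul] at h0
    exact h0
  have h2 := Groth.Agent.Ega2.TensGen.tmul_gen_eq_zero hf h1
  rw [← hs', quot_smul (J A) ⟨V, hV⟩] at h2
  have h3 : a * s' ∈ (J A).ideal ⟨V, hV⟩ :=
    (Groth.Agent.CurvesC.DualDeg.toSub_zero_iff (J A) ⟨V, hV⟩ _).1 h2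
  have h4 : s' ∈ (J A).ideal ⟨V, hV⟩ := by
    rw [mem_J_iff] at h3 ⊢
    intro y hy hya
    obtain ⟨C, hC, hCa⟩ := exists_gp_mem (X.basicOpen s').2 hy hya
    refine h3 C.2.1.genericPoint (gp_mem_un_iff.mpr hC) ?_
    rw [Scheme.basicOpen_mul]
    exact ⟨(mem_W_iff φ he hf ha (X.basicOpen_le _ hCa)).mp (hA C hC), hCa⟩
  have h5 : s = 0 := by
    rw [← hs']
    exact (Groth.Agent.CurvesC.DualDeg.toSub_zero_iff (J A) ⟨V, hV⟩ _).2 h4
  rw [hs, h5]
  exact Groth.Agent.Ega2.Tens.zero_tmul e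

end

end K900.Key2
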