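import Groth.Agent.CurvSt.K900.Key2
import Groth.Agent.CurvSt.K900.Twist
import Groth.Agent.Fga.TwistCoh
import Groth.Agent.CycB.CohProp
import Groth.Agent.FormalA.Support
import Groth.Agent.CurvesC.DualDegForm
import Groth.Agent.S1526

/-!
# Degrees and morphisms of invertible modules, II

`key`: `φ : L ⟶ M` between invertible modules on a reduced curve, iso at the generic points of the components in `A`
and zero at those of the components in `T`: `Σ_A deg L + χ(O_{A ∩ T}) ≤ Σ_A deg M`.
-/

set_option autoImplicit false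
universe u

open CategoryTheory TopologicalSpace Opposite CategoryTheory.Limits AlgebraicGeometry MonoidalCategory

namespace K900.Key3

open scoped Groth.Agent.Dcoh.MonCat
open Groth.Agent.Ega2.Tens (tmul)
open Groth.Agent.Fdesc.LocGen (IsGen res ores app_res res_smul)
open K900.Comp K900.Loc K900.Key2
open Groth.Agent.VarietyA.StalkCrit Groth.Agent.VarietyB

variable {X : Scheme.{u}}

/-- A coherent module whose support contains no generic point of a component has support of dimension zero. -/
theorem dim_support_le [NoetherianSpace X] (hdim : topologicalKrullDim X ≤ 1) {F : X.Modules}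
    (hcl : IsClosed (CohB1.support F))
    (h : ∀ C : irreducibleComponents (X : Type u), C.2.1.genericPoint ∉ CohB1.support F) :
    topologicalKrullDim (CohB1.support F) ≤ 0 := by
  refine Groth.Agent.CurvesC.DualDegForm.dim_le_zero hdim Subtype.val hcl.isClosedEmbedding_subtypeVal ?_
  intro o ho hne hsub
  rw [Subtype.range_coe] at hsub
  obtain ⟨x, hx⟩ := hne
  obtain ⟨Z, hZ, hxZ⟩ := exists_mem_irreducibleComponents_subset_of_isIrreducible (closure ({x} : Set X))
    isIrreducible_singleton.closure
  let C : irreducibleComponents (X : Type u) := ⟨Z, hZ⟩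
  have hxC : x ∈ C.1 := hxZ (subset_closure rfl)
  refine h C (hsub ?_)
  rw [← closure_gp C] at hxC
  obtain ⟨y, hy, hy'⟩ := mem_closure_iff.mp hxC o ho hx
  rw [Set.mem_singleton_iff.mp hy'] at hy
  exact hy

section

variable (k : Type u) [Field k] [X.Over (Spec (CommRingCat.of k))]
  [IsProper (X ↘ (Spec (CommRingCat.of k)))]

theorem euler_eq_h0 {F : X.Modules} (hF : Coh.IsCoh F) (hsupp : topologicalKrullDim (CohB1.support F) ≤ 0) :
    Curv2.euler k X F = Module.finrank k (Coh.HH X F 0) := by
  unfold Curv2.euler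
  rw [finsum_eq_single _ 0]
  · simp
  · intro i hi
    have := Groth.Agent.S1526.result k X F hF hsupp i (Nat.one_le_iff_ne_zero.mpr hi)
    rw [Module.finrank_zero_of_subsingleton]
    simp

theorem euler_nonneg {F : X.Modules} (hF : Coh.IsCoh F) (hsupp : topologicalKrullDim (CohB1.support F) ≤ 0) :
    0 ≤ Curv2.euler k X F := by
  rw [euler_eq_h0 k hF hsupp]
  exact Int.natCast_nonneg _

variable [IsNoetherian X]

theorem euler_add_le {P Q R : X.Modules} (f : P ⟶ Q) [Mono f] (g : Q ⟶ R) [Epi g] (w : f ≫ g = 0)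
    (hP : Coh.IsCoh P) (hQ : Coh.IsCoh Q) (hR : Coh.IsCoh R) (hdim : topologicalKrullDim X ≤ 1)
    (h : ∀ C : irreducibleComponents (X : Type u), C.2.1.genericPoint ∉ CohB1.support (cokernel f)) :
    Curv2.euler k X P + Curv2.euler k X R ≤ Curv2.euler k X Q := by
  have hC : Coh.IsCoh (cokernel f) := Groth.Agent.CycB.CohProp.isCoh_cokernel f hP hQ
  have e1 := Groth.Agent.S1524.result k X _ (shortExact_cokernel f) hP hQ hC
  let g' : cokernel f ⟶ R := cokernel.desc f g w
  have : Epi g' := epi_of_epi_fac (cokernel.π_desc f g w)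
  have hK : Coh.IsCoh (kernel g') := Groth.Agent.CycB.CohProp.isCoh_kernel g' hC hR
  have e2 := Groth.Agent.S1524.result k X _ (shortExact_kernel g') hK hC hR
  have hs : topologicalKrullDim (CohB1.support (kernel g')) ≤ 0 := by
    refine dim_support_le hdim ?_ fun C hC' => ?_
    · exact Groth.Agent.FormalA.Support.isClosed_support _ hK.2
    · exact h C (support_subset_of_mono (kernel.ι g') hC')
  have e3 := euler_nonneg k hK hs
  simp only at e1 e2
  linarith

end

section

variable {L M : X.Modules} (φ : L ⟶ M) [NoetherianSpace X]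

/-- The intersection of two reduced unions of components without common component has no generic point. -/
theorem notMem_support_quot {A T : Set (irreducibleComponents (X : Type u))} (hAT : Disjoint A T)
    (C : irreducibleComponents (X : Type u)) :
    C.2.1.genericPoint ∉ CohB1.support (ClSub.quotMod (J A ⊔ J T)) := by
  rw [not_mem_support_iff]
  apply Groth.Agent.CycB.PushStalk.subsingleton_stalk_push
  intro h
  rw [(J A ⊔ J T).subschemeι.isClosedEmbedding.isClosed_range.closure_eq,
    Scheme.IdealSheafData.range_subschemeι, Scheme.IdealSheafData.support_sup, Closeds.coe_inf,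
    Scheme.IdealSheafData.coe_support_vanishingIdeal, Scheme.IdealSheafData.coe_support_vanishingIdeal] at h
  exact Set.disjoint_left.mp hAT (gp_mem_un_iff.mp h.1) (gp_mem_un_iff.mp h.2)

theorem app_bijective {hL : PicF.IsInvertible L} (F : X.Modules) {U V : X.Opens} {e : Γ(L, U)} (he : IsGen e)
    (hφ : IsGen (φ.app U e)) (h : V ≤ U) : Function.Bijective ((F ◁ φ).app V) := by
  have h1 := Groth.Agent.Ega2.TensGen.tmul_gen_bijective (F := F) (he.res h)
  have h2 : IsGen (φ.app V (res L h e)) := by
    rw [app_res]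
    exact hφ.res h
  have h3 := Groth.Agent.Ega2.TensGen.tmul_gen_bijective (F := F) h2
  refine (h1.of_comp_iff ((F ◁ φ).app V)).mp ?_
  have h4 : ((F ◁ φ).app V : _ → _) ∘ (fun t => Groth.Agent.Fdesc.LocGen.tmul t (res L h e)) =
      fun t => Groth.Agent.Fdesc.LocGen.tmul t (φ.app V (res L h e)) := by
    funext s
    exact whisker_tmul φ F s _
  rw [h4]
  exact h3

theorem notMem_support_coker (hL : PicF.IsInvertible L) (hM : PicF.IsInvertible M)
    (A : Set (irreducibleComponents (X : Type u))) (hA : ∀ C ∈ A, C.2.1.genericPoint ∈ W φ)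
    (C : irreducibleComponents (X : Type u)) :
    C.2.1.genericPoint ∉ CohB1.support (cokernel (ClSub.quotMod (J A) ◁ φ)) := by
  rw [not_mem_support_iff, subsingleton_cokernel_stalk_iff]
  by_cases hC : C ∈ A
  · obtain ⟨U, e, hx, he, hφ⟩ := hA C hC
    exact (UnitStalk.stalkLin_bijective_of_app _ U (fun V hV => app_bijective (hL := hL) φ _ he hφ hV) hx).2
  · have h1 : C.2.1.genericPoint ∉ CohB1.support (ClSub.quotMod (J A)) := by
      rw [not_mem_support_iff]
      apply Groth.Agent.CycB.PushStalk.subsingleton_stalk_push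
      intro h
      rw [(J A).subschemeι.isClosedEmbedding.isClosed_range.closure_eq,
        Scheme.IdealSheafData.range_subschemeι, Scheme.IdealSheafData.coe_support_vanishingIdeal] at h
      exact hC (gp_mem_un_iff.mp h)
    have h2 : C.2.1.genericPoint ∉ CohB1.support (ClSub.quotMod (J A) ⊗ M) := fun h =>
      h1 (Groth.Agent.Fga.TwistCoh.support_tensor_subset hM h)
    rw [not_mem_support_iff] at h2
    exact fun y => ⟨0, Subsingleton.elim _ _⟩

theorem epi_whiskerRight (hM : PicF.IsInvertible M) {F G : X.Modules} (q : F ⟶ G) [Epi q] : Epi (q ▷ M) := by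
  have h1 := K900.Twist.isEquivalence_tensorLeft_of_isInvertible hM
  have h2 : Epi (M ◁ q) := (inferInstance : Epi ((tensorLeft M).map q))
  have h3 : q ▷ M = (β_ F M).hom ≫ M ◁ q ≫ (β_ G M).inv := by
    rw [← Category.assoc, ← BraidedCategory.braiding_naturality_left, Category.assoc, Iso.hom_inv_id,
      Category.comp_id]
  rw [h3]
  infer_instance

end

variable (k : Type u) [Field k] [X.Over (Spec (CommRingCat.of k))]
  [IsProper (X ↘ (Spec (CommRingCat.of k)))] [IsNoetherian X] [IsReduced X]

theorem euler_tensor (hdim : topologicalKrullDim X ≤ 1)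
    (hpure : ∀ Z ∈ irreducibleComponents (X : Type u), topologicalKrullDim Z = 1) {L : X.Modules}
    (hL : PicF.IsInvertible L) (A : Set (irreducibleComponents (X : Type u))) :
    Curv2.euler k X (ClSub.quotMod (J A) ⊗ L) = sdeg k L A + Curv2.euler k X (ClSub.quotMod (J A)) := by
  rw [← phi_quot k hdim hpure hL A]
  unfold DegPhi.phi
  rw [DegPhi.euler_congr k (Groth.Agent.Ega2.Tens.swap L (ClSub.quotMod (J A)))]
  change Curv2.euler k X (CohB1.tensorMod (ClSub.quotMod (J A)) L) = _
  ring

variable {L M : X.Modules}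

theorem key (hdim : topologicalKrullDim X ≤ 1)
    (hpure : ∀ Z ∈ irreducibleComponents (X : Type u), topologicalKrullDim Z = 1)
    (φ : L ⟶ M) (hL : PicF.IsInvertible L) (hM : PicF.IsInvertible M)
    (A T : Set (irreducibleComponents (X : Type u))) (hA : ∀ C ∈ A, C.2.1.genericPoint ∈ W φ)
    (hT : ∀ C ∈ T, C.2.1.genericPoint ∉ W φ) :
    sdeg k L A + Curv2.euler k X (ClSub.quotMod (J A ⊔ J T)) ≤ sdeg k M A := by
  have hAT : Disjoint A T := Set.disjoint_left.mpr fun C hC hC' => hT C hC' (hA C hC)
  obtain ⟨q, hq⟩ := exists_quot (le_sup_left : J A ≤ J A ⊔ J T)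
  obtain ⟨q', hq'⟩ := exists_quot (le_sup_right : J T ≤ J A ⊔ J T)
  have := Groth.Agent.CurvesC.DualDeg.epi_toSubscheme (J A ⊔ J T)
  have hqe : Epi q := epi_of_epi_fac hq
  have hqe' : Epi q' := epi_of_epi_fac hq'
  have := epi_whiskerRight hM q
  have := epi_whiskerRight hL q'
  have := mono_whisker φ hL hM A hA
  have hz : ClSub.quotMod (J A ⊔ J T) ◁ φ = 0 := by
    rw [← cancel_epi (q' ▷ L), ← whisker_exchange, whisker_eq_zero φ hL hM T hT, zero_comp, comp_zero]
  have hw : ClSub.quotMod (J A) ◁ φ ≫ q ▷ M = 0 := by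
    rw [whisker_exchange, hz, comp_zero]
  have hcR := Groth.Agent.CurvesC.DualDeg.isCoh_quotMod (J A ⊔ J T)
  have e1 := euler_add_le k (ClSub.quotMod (J A) ◁ φ) (q ▷ M) hw
    (Groth.Agent.Fga.TwistCoh.isCoh_tensor (Groth.Agent.CurvesC.DualDeg.isCoh_quotMod _) hL)
    (Groth.Agent.Fga.TwistCoh.isCoh_tensor (Groth.Agent.CurvesC.DualDeg.isCoh_quotMod _) hM)
    (Groth.Agent.Fga.TwistCoh.isCoh_tensor hcR hM) hdim (notMem_support_coker φ hL hM A hA)
  have hsupp : topologicalKrullDim (CohB1.support (ClSub.quotMod (J A ⊔ J T))) ≤ 0 :=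
    dim_support_le hdim (Groth.Agent.FormalA.Support.isClosed_support _ hcR.2) (notMem_support_quot hAT)
  have e2 : Curv2.euler k X (ClSub.quotMod (J A ⊔ J T) ⊗ M) = _ :=
    Groth.Agent.S1558.result k X _ hcR hsupp 1 M
      (Groth.Agent.Ega2.QCohLocal.isFinLocFreeOfRank_one_iff.mpr hM)
  rw [euler_tensor k hdim hpure hL, euler_tensor k hdim hpure hM, e2] at e1
  push_cast at e1
  linarith

theorem euler_quot_nonneg (hdim : topologicalKrullDim X ≤ 1)
    {A T : Set (irreducibleComponents (X : Type u))} (hAT : Disjoint A T) :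
    Curv2.euler k X (ClSub.quotMod (J A ⊔ J T)) =
      Module.finrank k (Coh.HH X (ClSub.quotMod (J A ⊔ J T)) 0) :=
  euler_eq_h0 k (Groth.Agent.CurvesC.DualDeg.isCoh_quotMod _)
    (dim_support_le hdim (Groth.Agent.FormalA.Support.isClosed_support _
      (Groth.Agent.CurvesC.DualDeg.isCoh_quotMod _).2) (notMem_support_quot hAT))

theorem key' (hdim : topologicalKrullDim X ≤ 1)
    (hpure : ∀ Z ∈ irreducibleComponents (X : Type u), topologicalKrullDim Z = 1)
    (φ : L ⟶ M) (hL : PicF.IsInvertible L) (hM : PicF.IsInvertible M)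
    (A : Set (irreducibleComponents (X : Type u))) (hA : ∀ C ∈ A, C.2.1.genericPoint ∈ W φ) :
    sdeg k L A ≤ sdeg k M A := by
  have h1 := key k hdim hpure φ hL hM A ∅ hA (fun C hC => hC.elim)
  have h2 := euler_quot_nonneg k (X := X) hdim (A := A) (T := ∅) (Set.disjoint_empty A)
  rw [h2] at h1
  have : (0 : ℤ) ≤ Module.finrank k (Coh.HH X (ClSub.quotMod (J A ⊔ J ∅)) 0) := Int.natCast_nonneg _
  linarith

end K900.Key3
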