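import Groth.Agent.CurvSt.K900.PtAmple
import Groth.Agent.CurvSt.K900.AmpleStab
import Groth.Agent.CurvSt.K508.FibPow
import Groth.Agent.Fga.HilbClosed
import Groth.Agent.Dix.IdealModCartier
import Groth.Agent.Dix.InterSurf
import Groth.Agent.Ega2.TensPow
import Groth.Agent.Models2.AmplePull
import Groth.Prelude.Def_StCurv2

/-!
# The twisted dualizing module on the geometric fibres of a pointed family
-/

set_option autoImplicit false
universe u
open CategoryTheory CategoryTheory.Limits AlgebraicGeometry TopologicalSpace Opposite IsLocalRing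

namespace K900.MarkTw

open Groth.Agent.Divis.CartierBasic Groth.Agent.Divis.CartierStalk K326.PtsDiv Groth.Agent K326.SemiStab

section Ideals

variable {X : Scheme.{u}}

/-- The closed subset of a closed point. -/
abbrev ptCl (x : X) (hx : IsClosed ({x} : Set X)) : Closeds X := ⟨{x}, hx⟩

theorem support_pt (x : X) (hx : IsClosed ({x} : Set X)) (y : X) :
    y ∈ (Scheme.IdealSheafData.vanishingIdeal (ptCl x hx)).support ↔ y = x := by
  have h : ((Scheme.IdealSheafData.vanishingIdeal (ptCl x hx)).support : Set X) = {x} :=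
    Scheme.IdealSheafData.coe_support_vanishingIdeal _
  change y ∈ ((Scheme.IdealSheafData.vanishingIdeal (ptCl x hx)).support : Set X) ↔ _
  rw [h]
  exact Iff.rfl

theorem support_pts {n : ℕ} {p : Fin n → X} (hp : ∀ i, IsClosed ({p i} : Set X)) (y : X) :
    y ∈ (Scheme.IdealSheafData.vanishingIdeal (ptsCl hp)).support ↔ ∃ i, y = p i := by
  have h : ((Scheme.IdealSheafData.vanishingIdeal (ptsCl hp)).support : Set X) = (ptsCl hp : Set X) :=
    Scheme.IdealSheafData.coe_support_vanishingIdeal _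
  change y ∈ ((Scheme.IdealSheafData.vanishingIdeal (ptsCl hp)).support : Set X) ↔ _
  rw [h]
  exact mem_ptsCl hp y

theorem stalkIdeal_pt (x : X) (hx : IsClosed ({x} : Set X)) :
    stalkIdeal (Scheme.IdealSheafData.vanishingIdeal (ptCl x hx)) x = maximalIdeal (X.presheaf.stalk x) := by
  have h := stalkIdeal_pts (X := X) (n := 1) (p := fun _ => x) (fun _ => hx) 0
  have e : ptsCl (X := X) (n := 1) (p := fun _ => x) (fun _ => hx) = ptCl x hx := by
    apply SetLike.coe_injective
    ext y
    exact (mem_ptsCl _ y).trans ⟨fun ⟨_, h⟩ => h, fun h => ⟨0, h⟩⟩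
  rw [e] at h
  exact h

/-- Adding one point. -/
theorem vanishingIdeal_succ {n : ℕ} {p : Fin (n + 1) → X} (hp : ∀ i, IsClosed ({p i} : Set X))
    (hinj : Function.Injective p) :
    Scheme.IdealSheafData.vanishingIdeal (ptsCl hp) =
      Scheme.IdealSheafData.vanishingIdeal (ptsCl (p := fun i => p (Fin.castSucc i)) (fun i => hp _)) *
        Scheme.IdealSheafData.vanishingIdeal (ptCl (p (Fin.last n)) (hp _)) := by
  refine ext_stalkIdeal fun x => ?_
  rw [stalkIdeal_mul]
  by_cases hx : ∃ i, x = p i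
  · obtain ⟨i, rfl⟩ := hx
    rw [stalkIdeal_pts hp i]
    induction i using Fin.lastCases with
    | last =>
      rw [stalkIdeal_pt]
      have h1 : p (Fin.last n) ∉ (Scheme.IdealSheafData.vanishingIdeal
          (ptsCl (p := fun i => p (Fin.castSucc i)) (fun i => hp _))).support := by
        rw [support_pts]
        rintro ⟨j, hj⟩
        exact absurd (hinj hj) (Fin.castSucc_lt_last j).ne'
      rw [(notMem_support_iff_stalkIdeal_eq_top _ _).1 h1, Ideal.top_mul]
    | cast i =>
      have h2 := stalkIdeal_pts (p := fun i => p (Fin.castSucc i)) (fun i => hp _) i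
      have h1 : p (Fin.castSucc i) ∉ (Scheme.IdealSheafData.vanishingIdeal
          (ptCl (p (Fin.last n)) (hp _))).support := by
        rw [support_pt]
        intro hj
        exact absurd (hinj hj) (Fin.castSucc_lt_last i).ne
      rw [(notMem_support_iff_stalkIdeal_eq_top _ _).1 h1, Ideal.mul_top]
      exact h2.symm
  · have h0 : x ∉ (Scheme.IdealSheafData.vanishingIdeal (ptsCl hp)).support := by
      rwa [support_pts]
    have h1 : x ∉ (Scheme.IdealSheafData.vanishingIdeal
        (ptsCl (p := fun i => p (Fin.castSucc i)) (fun i => hp _))).support := by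
      rw [support_pts]
      rintro ⟨j, hj⟩
      exact hx ⟨_, hj⟩
    have h2 : x ∉ (Scheme.IdealSheafData.vanishingIdeal (ptCl (p (Fin.last n)) (hp _))).support := by
      rw [support_pt]
      exact fun hj => hx ⟨_, hj⟩
    rw [(notMem_support_iff_stalkIdeal_eq_top _ _).1 h0, (notMem_support_iff_stalkIdeal_eq_top _ _).1 h1,
      (notMem_support_iff_stalkIdeal_eq_top _ _).1 h2, Ideal.top_mul]

theorem vanishingIdeal_zero {p : Fin 0 → X} (hp : ∀ _i, IsClosed ({p _i} : Set X)) :
    Scheme.IdealSheafData.vanishingIdeal (ptsCl hp) = ⊤ := by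
  refine ext_stalkIdeal fun x => ?_
  rw [stalkIdeal_top]
  refine (notMem_support_iff_stalkIdeal_eq_top _ _).1 ?_
  rw [support_pts]
  rintro ⟨j, -⟩
  exact j.elim0

end Ideals

section Inverse

variable {X : Scheme.{u}}

/-- Products of inverses. -/
theorem isInverseOf_tensor {N N' I J : X.Modules} (h : ClSub.IsInverseOf N I) (h' : ClSub.IsInverseOf N' J) :
    ClSub.IsInverseOf (CohB1.tensorMod N N') (CohB1.tensorMod I J) := by
  obtain ⟨e⟩ := h
  obtain ⟨e'⟩ := h'
  exact ⟨Ega2.TensPow.inter N N' I J ≪≫ Ega2.Tens.mapTIso e e' ≪≫ Ega2.Tens.lunit _⟩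

theorem isInverseOf_mul {N N' : X.Modules} {I J : X.IdealSheafData} (h : ClSub.IsInverseOf N (ClSub.idealMod I))
    (h' : ClSub.IsInverseOf N' (ClSub.idealMod J)) :
    ClSub.IsInverseOf (CohB1.tensorMod N N') (ClSub.idealMod (I * J)) := by
  obtain ⟨e⟩ := Dix.IdealModCartier.idealMod_mul (Dix.IdealModCartier.isEffCartierIdeal_of_isInverseOf h)
    (Dix.IdealModCartier.isEffCartierIdeal_of_isInverseOf h')
  exact Dix.InterSurf.isInverseOf_congr (isInverseOf_tensor h h') e

theorem isInverseOf_top : ClSub.IsInverseOf (Coh.structureModule X) (ClSub.idealMod (⊤ : X.IdealSheafData)) := by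
  obtain ⟨e⟩ := Dix.IdealModCartier.idealMod_principal (X := X) (D := ⊤) (a := 1) (by
    intro W hW
    rw [map_one]
    exact ⟨one_mem _, by rw [Ideal.span_singleton_one]; rfl⟩)
  exact ⟨Ega2.Tens.lunit _ ≪≫ e.symm⟩

theorem isInvertible_tensorPows {w : X.Modules} (hw : PicF.IsInvertible w) :
    ∀ (n : ℕ) (LD : Fin n → X.Modules) (_ : ∀ j, PicF.IsInvertible (LD j)),
      PicF.IsInvertible (Curv2.tensorPows w n LD (fun _ => 1)) := by
  intro n
  induction n with
  | zero => intro LD _; exact hw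
  | succ n ih =>
    intro LD h
    exact Groth.Agent.Fdesc.LocGen.isInvertible_tensorMod (ih _ fun j => h _)
      (isInvertible_of_iso (Ega2.TensPow.powOne _).symm (h _))

end Inverse

section Pull

variable {C X : Scheme.{u}} (i : X ⟶ C)

/-- The pullback of the twisted module is a twisted module. -/
theorem exists_tw {w : C.Modules} (hw : PicF.IsInvertible w) :
    ∀ (n : ℕ) (LD : Fin n → C.Modules) (I : Fin n → C.IdealSheafData)
      (_ : ∀ j, ClSub.IsInverseOf (LD j) (ClSub.idealMod (I j))) (p : Fin n → X)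
      (hp : ∀ j, IsClosed ({p j} : Set X)) (_ : Function.Injective p)
      (_ : ∀ j, (I j).comap i = Scheme.IdealSheafData.vanishingIdeal (ptCl (p j) (hp j)))
      (_ : ∀ j, BlowUp.IsEffCartierIdeal (Scheme.IdealSheafData.vanishingIdeal (ptCl (p j) (hp j)))),
      ∃ N : X.Modules, ClSub.IsInverseOf N (ClSub.idealMod (Scheme.IdealSheafData.vanishingIdeal (ptsCl hp))) ∧
        Nonempty ((Scheme.Modules.pullback i).obj (Curv2.tensorPows w n LD (fun _ => 1)) ≅
          CohB1.tensorMod ((Scheme.Modules.pullback i).obj w) N) := by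
  intro n
  induction n with
  | zero =>
    intro LD I hLD p hp hinj hI hE
    refine ⟨Coh.structureModule X, ?_, ⟨(Ega2.Tens.runit _).symm⟩⟩
    rw [vanishingIdeal_zero]
    exact isInverseOf_top
  | succ n ih =>
    intro LD I hLD p hp hinj hI hE
    obtain ⟨N, hN, ⟨e⟩⟩ := ih (fun j => LD j.castSucc) (fun j => I j.castSucc) (fun j => hLD _)
      (fun j => p j.castSucc) (fun j => hp _) (fun a b h => Fin.castSucc_injective _ (hinj h)) (fun j => hI _)
      (fun j => hE _)
    have hl := Dix.InterSurf.isInverseOf_pullback i (hLD (Fin.last n))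
    obtain ⟨e1⟩ := Dix.IdealModCartier.pullback_idealMod i
      (Dix.IdealModCartier.isEffCartierIdeal_of_isInverseOf (hLD (Fin.last n)))
      (by rw [hI]; exact hE _)
    have hl2 : ClSub.IsInverseOf ((Scheme.Modules.pullback i).obj (LD (Fin.last n)))
        (ClSub.idealMod (Scheme.IdealSheafData.vanishingIdeal (ptCl (p (Fin.last n)) (hp _)))) := by
      rw [← hI]
      exact Dix.InterSurf.isInverseOf_congr hl e1
    refine ⟨CohB1.tensorMod N ((Scheme.Modules.pullback i).obj (LD (Fin.last n))), ?_, ?_⟩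
    · rw [vanishingIdeal_succ hp hinj]
      exact isInverseOf_mul hN hl2
    · have h1 : PicF.IsInvertible (LD (Fin.last n)) := (Dix.IdealModCartier.isInvertible_of_isInverseOf (hLD _)).1
      have h2 : PicF.IsInvertible (Curv2.tensorPows w n (fun j => LD j.castSucc) (fun _ => 1)) :=
        isInvertible_tensorPows hw _ _ fun j => (Dix.IdealModCartier.isInvertible_of_isInverseOf (hLD _)).1
      obtain ⟨e2⟩ := Dix.IdealModCartier.pullback_tensorMod i h2
        (isInvertible_of_iso (Ega2.TensPow.powOne (LD (Fin.last n))).symm h1)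
      exact ⟨e2 ≪≫ Ega2.Tens.mapTIso e ((Scheme.Modules.pullback i).mapIso (Ega2.TensPow.powOne _)) ≪≫
        Ega2.Tens.assoc _ _ _⟩

end Pull

section Marked

variable {C T X : Scheme.{u}} {f : C ⟶ T} {n : ℕ} {σ : Fin n → (T ⟶ C)} (hσ : ∀ i, σ i ≫ f = 𝟙 T)
  {Ω : Type u} [Field Ω] {t : Spec (CommRingCat.of Ω) ⟶ T} {i : X ⟶ C} {q : X ⟶ Spec (CommRingCat.of Ω)}

/-- The ideal of a section restricts to the ideal of the marked point of a fibre. -/
theorem comap_ker [IsSeparated f] (sq : IsPullback i q f t) (j : Fin n)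
    (hcl : IsClosed ({CurvSt.markedPt σ hσ sq j} : Set X)) :
    (σ j).ker.comap i = Scheme.IdealSheafData.vanishingIdeal (ptCl (CurvSt.markedPt σ hσ sq j) hcl) := by
  let s := sq.lift (t ≫ σ j) (𝟙 _) (by rw [Category.assoc, hσ, Category.comp_id, Category.id_comp])
  have hs : s ≫ q = 𝟙 _ := sq.lift_snd _ _ _
  have hsi : s ≫ i = t ≫ σ j := sq.lift_fst _ _ _
  have h1 := K508.FibPow.isPullback_section sq (σ j) (hσ j) s hs hsi
  have c1 : IsClosedImmersion (σ j ≫ f) := by rw [hσ]; infer_instance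
  have c2 : IsClosedImmersion (σ j) := IsClosedImmersion.of_comp (σ j) f
  have c3 : IsClosedImmersion s := MorphismProperty.of_isPullback h1.flip c2
  rw [← Fga.HilbClosed.ker_of_isPullback h1.flip, ← Ega1.ReducedSub.radical_ker_eq s,
    ← Scheme.IdealSheafData.vanishingIdeal_support]
  congr 1
  apply SetLike.coe_injective
  have h3 : Set.range s = {CurvSt.markedPt σ hσ sq j} := by
    ext x
    constructor
    · rintro ⟨y, rfl⟩
      rw [Subsingleton.elim y (IsLocalRing.closedPoint Ω)]
      rfl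
    · rintro rfl
      exact ⟨IsLocalRing.closedPoint Ω, rfl⟩
  rw [Scheme.Hom.support_ker, s.isClosedMap.isClosed_range.closure_eq, h3]
  rfl

variable [IsAlgClosed Ω]

/-- **The twisted dualizing module on a geometric fibre.** -/
theorem tw [IsSeparated f] (sq : IsPullback i q f t) (LD : Fin n → C.Modules)
    (hLD : ∀ j, ClSub.IsInverseOf (LD j) (ClSub.idealMod (σ j).ker)) {w : C.Modules} (hw : PicF.IsInvertible w)
    (hP : IsProper q) (hR : IsReduced X) (hc : ConnectedSpace X) (hdim : topologicalKrullDim X = 1)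
    (hp : letI : X.Over (Spec (CommRingCat.of Ω)) := ⟨q⟩; Pts Ω n (CurvSt.markedPt σ hσ sq))
    (hpair : letI : X.Over (Spec (CommRingCat.of Ω)) := ⟨q⟩;
      ∃ tr : Coh.HH X ((Scheme.Modules.pullback i).obj w) 1 →ₗ[Ω] Ω, CurvesC.DualCount.IsPair Ω tr) :
    letI : X.Over (Spec (CommRingCat.of Ω)) := ⟨q⟩
    Tw Ω X hp ((Scheme.Modules.pullback i).obj w)
      ((Scheme.Modules.pullback i).obj (Curv2.tensorPows w n LD (fun _ => 1))) := by
  letI : X.Over (Spec (CommRingCat.of Ω)) := ⟨q⟩
  have hP' : IsProper (X ↘ (Spec (CommRingCat.of Ω))) := hP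
  refine ⟨Models2.AmplePull.isInvertible_pullback i hw, hpair, ?_⟩
  refine exists_tw i hw n LD (fun j => (σ j).ker) hLD (CurvSt.markedPt σ hσ sq) hp.cl hp.inj
    (fun j => comap_ker hσ sq j (hp.cl j)) fun j => ?_
  have hp1 : Pts Ω 1 (fun _ : Fin 1 => CurvSt.markedPt σ hσ sq j) :=
    ⟨fun a b _ => Subsingleton.elim _ _, fun _ => hp.cl j, fun _ => hp.sm j⟩
  have h1 := PtAmple.isEff_pts Ω X hdim hp1
  have e : ptsCl hp1.cl = ptCl (CurvSt.markedPt σ hσ sq j) (hp.cl j) := by
    apply SetLike.coe_injective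
    ext y
    exact (mem_ptsCl _ y).trans ⟨fun ⟨_, h⟩ => h, fun h => ⟨0, h⟩⟩
  rw [e] at h1
  exact h1

end Marked

end K900.MarkTw
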