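import Groth.Agent.CurvSt.K902.SchInst
import Groth.Agent.CurvSt.K900.OmegaGood
import Groth.Agent.CurvSt.K333.StableOpen

/-!
# Openness of conditions on geometric fibres is etale local; dualizing modules over affine bases
-/

set_option autoImplicit false
universe u
open CategoryTheory CategoryTheory.Limits AlgebraicGeometry TopologicalSpace
attribute [local instance] HasDerivedCategory.standard

namespace K900.OpenGlue

open Groth.Agent K902.SchSet K902.SchInst K900.StabAmple

/-- The geometric fibres of `f` satisfying `P` are those over an open subset. -/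
def OpenFor (P : FProp.{u}) {C T : Scheme.{u}} (f : C ⟶ T) : Prop :=
  ∃ U : Set T, IsOpen U ∧ ∀ (Ω : Type u) [Field Ω] [IsAlgClosed Ω] (t : Spec (CommRingCat.of Ω) ⟶ T) (X' : Scheme.{u})
    (i : X' ⟶ C) (q : X' ⟶ Spec (CommRingCat.of Ω)), IsPullback i q f t →
      (P Ω X' q ↔ t.base (IsLocalRing.closedPoint Ω) ∈ U)

variable {P : FProp.{u}}

/-- **Openness of the locus is etale local on a set containing the locus.** -/
theorem openFor_of_etale {C T : Scheme.{u}} (f : C ⟶ T) (V : Set T)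
    (h1 : ∀ (Ω : Type u) [Field Ω] [IsAlgClosed Ω] (t : Spec (CommRingCat.of Ω) ⟶ T) (X' : Scheme.{u})
      (i : X' ⟶ C) (q : X' ⟶ Spec (CommRingCat.of Ω)), IsPullback i q f t → P Ω X' q →
        t.base (IsLocalRing.closedPoint Ω) ∈ V)
    (h2 : ∀ s ∈ V, ∃ (T' : Scheme.{u}) (g : T' ⟶ T) (v : T'), Etale g ∧ g v = s ∧
      ∃ (C' : Scheme.{u}) (g' : C' ⟶ C) (f' : C' ⟶ T'), IsPullback g' f' f g ∧ OpenFor P f') : OpenFor P f := by
  refine ⟨{s | ∃ (T' : Scheme.{u}) (g : T' ⟶ T) (_ : Etale g) (C' : Scheme.{u}) (g' : C' ⟶ C) (f' : C' ⟶ T')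
    (_ : IsPullback g' f' f g) (U' : Set T') (_ : IsOpen U') (_ : ∀ (Ω : Type u) [Field Ω] [IsAlgClosed Ω]
      (t : Spec (CommRingCat.of Ω) ⟶ T') (X' : Scheme.{u})
      (i : X' ⟶ C') (q : X' ⟶ Spec (CommRingCat.of Ω)), IsPullback i q f' t →
      (P Ω X' q ↔ t.base (IsLocalRing.closedPoint Ω) ∈ U')), s ∈ g '' U'}, ?_, ?_⟩
  · rw [isOpen_iff_forall_mem_open]
    rintro s ⟨T', g, hg, C', g', f', sq, U', hU', hU, hs⟩
    exact ⟨g '' U', fun s' hs' => ⟨T', g, hg, C', g', f', sq, U', hU', hU, hs'⟩, g.isOpenMap _ hU', hs⟩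
  · intro Ω _ _ t X' i q sq
    constructor
    · intro hP
      obtain ⟨T', g, v, hg, hv, C', g', f', sq', U', hU', hU⟩ := h2 _ (h1 Ω t X' i q sq hP)
      obtain ⟨t', ht', hv'⟩ := K901.EtSch.exists_lift_geomPt g t v hv.symm
      refine ⟨T', g, hg, C', g', f', sq', U', hU', hU, v, ?_, hv⟩
      have sq2 : IsPullback (sq'.lift i (q ≫ t') (by rw [Category.assoc, ht', sq.w])) q f' t' := by
        refine IsPullback.of_right ?_ (sq'.lift_snd _ _ _) sq'
        rw [sq'.lift_fst, ht']
        exact sq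
      rw [← hv']
      exact (hU Ω t' X' _ q sq2).1 hP
    · rintro ⟨T', g, hg, C', g', f', sq', U', hU', hU, v, hvU, hv⟩
      obtain ⟨t', ht', hv'⟩ := K901.EtSch.exists_lift_geomPt g t v hv.symm
      have sq2 : IsPullback (sq'.lift i (q ≫ t') (by rw [Category.assoc, ht', sq.w])) q f' t' := by
        refine IsPullback.of_right ?_ (sq'.lift_snd _ _ _) sq'
        rw [sq'.lift_fst, ht']
        exact sq
      refine (hU Ω t' X' _ q sq2).2 ?_
      rw [hv']
      exact hvU

/-- Over an affine base a proper nodal family has a dualizing module. -/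
theorem exists_goodDual {X S : Scheme.{u}} [IsAffine S] (f : X ⟶ S) [IsProper f] (hf : Curv2.IsNodalFamily f) :
    ∃ w : X.Modules, GoodDual f w := by
  have h1 : Flat f := hf.1
  have h2 : LocallyOfFinitePresentation f := hf.2.1
  have hrf : DCoh.HasRpush f := Dcoh.DerSch.hasRpush f
  obtain ⟨w, hw, hRD⟩ := K901.DualGen.exists_isRD_isAffine f 1 (OmegaGood.gorDim f hf)
  refine ⟨w, hw, fun k _ t Y i q sq hdim => ?_⟩
  let _ : Y.Over (Spec (CommRingCat.of k)) := ⟨q⟩
  have hq : IsProper q := MorphismProperty.of_isPullback sq inferInstance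
  have hq' : IsProper (Y ↘ (Spec (CommRingCat.of k))) := hq
  have hr : DCoh.HasRpush (Y ↘ (Spec (CommRingCat.of k))) := Groth.Agent.Dcoh.DerSch.hasRpush _
  have hr' : DCoh.HasRpush q := hr
  have c1 : CompactSpace X := QuasiCompact.compactSpace_of_compactSpace f
  have c2 : QuasiSeparatedSpace X := quasiSeparatedSpace_of_quasiSeparated f
  have c3 : CompactSpace Y := QuasiCompact.compactSpace_of_compactSpace q
  have c4 : QuasiSeparatedSpace Y := quasiSeparatedSpace_of_quasiSeparated q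
  exact FibDual.exists_pair k hdim (K682.RelDual.IsRD.baseChange sq hw hRD)

end K900.OpenGlue
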