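import Groth.Agent.CurvSt.K900.Edge
import Groth.Agent.CurvSt.K900.Kap
import Groth.Agent.CurvSt.K900.Twist
import Groth.Agent.Ega1.QcqsPush
import Groth.Agent.VarietyB.PullSec

/-!
# Comparison of the twisted dualizing modules under a contraction

`c : X ⟶ Y` over a field, `(w, t)`, `(wY, tY)` dualizing pairs, `N ⊗ M ≅ w`, `c_* N ⊗ MY ≅ wY`.  If
`H¹(Y, c_*(N ⊗ c^* MY)) → H¹(X, N ⊗ c^* MY)` is bijective there are `φ : c^* MY ⟶ M` and
`τ : c_* M ⟶ MY` with `(MY ⟶ c_* c^* MY ⟶ c_* M ⟶ MY) = 𝟙`.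
-/

set_option autoImplicit false
universe u

open CategoryTheory TopologicalSpace Opposite CategoryTheory.Limits AlgebraicGeometry MonoidalCategory

namespace K900.Phi

open scoped Groth.Agent.Dcoh.MonCat
open Groth.Agent.CohqB.HSeqMod Groth.Agent.CurvesC.DualCount K900.Edge K900.Kap

variable {X Y : Scheme.{u}} (c : X ⟶ Y) (k : Type u) [Field k] [X.Over (Spec (CommRingCat.of k))]
  [Y.Over (Spec (CommRingCat.of k))]

theorem exists_phi (hc : c ≫ (Y ↘ Spec (CommRingCat.of k)) = X ↘ Spec (CommRingCat.of k))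
    [QuasiCompact c] [QuasiSeparated c]
    {N M w : X.Modules} (hN : PicF.IsInvertible N) (α : N ⊗ M ≅ w) (hM : Coh.IsQCoh M)
    {t : Coh.HH X w 1 →ₗ[k] k} (ht : IsPair k t)
    {MY wY : Y.Modules} (hMY : PicF.IsInvertible MY)
    (hNY : PicF.IsInvertible ((Scheme.Modules.pushforward c).obj N))
    (β : (Scheme.Modules.pushforward c).obj N ⊗ MY ≅ wY)
    {tY : Coh.HH Y wY 1 →ₗ[k] k} (htY : IsPair k tY)
    (hE : Function.Bijective (edge c k hc (N ⊗ (Scheme.Modules.pullback c).obj MY) 1)) :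
    ∃ (φ : (Scheme.Modules.pullback c).obj MY ⟶ M) (τ : (Scheme.Modules.pushforward c).obj M ⟶ MY),
      ((Scheme.Modules.pullbackPushforwardAdjunction c).unit.app MY ≫
        (Scheme.Modules.pushforward c).map φ) ≫ τ = 𝟙 MY := by
  have hPQ : Coh.IsQCoh ((Scheme.Modules.pullback c).obj MY) :=
    Groth.Agent.VarietyB.PullSec.isQCoh_pullback _ _
      (Groth.Agent.Ega2.QCohLocal.isQCoh_of_isInvertible hMY)
  have hQM : Coh.IsQCoh ((Scheme.Modules.pushforward c).obj M) :=
    Groth.Agent.Ega1.QcqsPush.isQCoh_pushforward _ _ hM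
  have hMYQ : Coh.IsQCoh MY := Groth.Agent.Ega2.QCohLocal.isQCoh_of_isInvertible hMY
  have := isIso_kap c N hMY
  -- the edge isomorphism
  let eL : Coh.HH Y ((Scheme.Modules.pushforward c).obj N ⊗ MY) 1 →ₗ[k]
      Coh.HH X (N ⊗ (Scheme.Modules.pullback c).obj MY) 1 :=
    (edge c k hc (N ⊗ (Scheme.Modules.pullback c).obj MY) 1).comp (hmapₗ k (kap c N MY) 1)
  have heL : Function.Bijective eL := by
    refine hE.comp ?_
    refine ⟨Function.LeftInverse.injective (g := hmap (inv (kap c N MY)) 1) fun x => ?_,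
      Function.RightInverse.surjective (g := hmap (inv (kap c N MY)) 1) fun x => ?_⟩
    · change hmap (inv (kap c N MY)) 1 (hmap (kap c N MY) 1 x) = x
      rw [← hmap_comp_apply, IsIso.hom_inv_id, hmap_id_apply]
    · change hmap (kap c N MY) 1 (hmap (inv (kap c N MY)) 1 x) = x
      rw [← hmap_comp_apply, IsIso.inv_hom_id, hmap_id_apply]
  let e := LinearEquiv.ofBijective eL heL
  obtain ⟨φ, hφ, -⟩ := K900.Twist.existsUnique k hN α ht hPQ
    ((tY.comp (hmapₗ k β.hom 1)).comp e.symm.toLinearMap)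
  obtain ⟨τ, hτ, -⟩ := K900.Twist.existsUnique k hNY β htY hQM
    ((t.comp (hmapₗ k α.hom 1)).comp ((edge c k hc (N ⊗ M) 1).comp (hmapₗ k (mu c N M) 1)))
  refine ⟨φ, τ, ?_⟩
  obtain ⟨σ, -, hu⟩ := K900.Twist.existsUnique k hNY β htY hMYQ (tY.comp (hmapₗ k β.hom 1))
  rw [hu (𝟙 MY) (fun y => by
    rw [MonoidalCategory.whiskerLeft_id, Category.id_comp]
    rfl)]
  refine hu _ fun y => ?_
  have h1 := hτ (hmap ((Scheme.Modules.pushforward c).obj N ◁
    ((Scheme.Modules.pullbackPushforwardAdjunction c).unit.app MY ≫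
        (Scheme.Modules.pushforward c).map φ)) 1 y)
  rw [← hmap_comp_apply, ← Category.assoc, ← MonoidalCategory.whiskerLeft_comp] at h1
  rw [← h1]
  have h2 : mu c N M |> fun m => (Scheme.Modules.pushforward c).obj N ◁
    ((Scheme.Modules.pullbackPushforwardAdjunction c).unit.app MY ≫
        (Scheme.Modules.pushforward c).map φ) ≫ m =
      kap c N MY ≫ (Scheme.Modules.pushforward c).map (N ◁ φ) := by
    change _ ≫ mu c N M = _
    rw [MonoidalCategory.whiskerLeft_comp, Category.assoc, mu_nat]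
    simp only [kap, Category.assoc]
  change tY (hmap β.hom 1 y) = t (hmap α.hom 1 (edge c k hc (N ⊗ M) 1 (hmap (mu c N M) 1 (hmap _ 1 y))))
  rw [← hmap_comp_apply]
  have h3 := h2
  change _ ≫ mu c N M = _ at h3
  rw [h3, hmap_comp_apply, edge_nat, ← hmap_comp_apply]
  have h4 := hφ (e y)
  change tY (hmap β.hom 1 (e.symm (e y))) = _ at h4
  rw [e.symm_apply_apply] at h4
  exact h4

end K900.Phi
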