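import Groth.Agent.CurvSt.K900.Acyc
import Groth.Agent.CurvSt.K900.Desc
import Groth.Agent.Ega3B.SecHom
import Groth.Agent.PerfA.IdealModule
import Groth.Agent.Ega1.ReducedSub
import Groth.Agent.CurvesC.DualDeg
import Groth.Agent.CurvSt.K896.RatComp

/-!
# Direct images of ideals of reduced closed subschemes under a morphism with `O_Y = c_* O_X`
-/

set_option autoImplicit false
universe u

open CategoryTheory TopologicalSpace Opposite CategoryTheory.Limits AlgebraicGeometry

namespace K900.PtPush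

open Groth.Agent.Ega3B.HHRes Groth.Agent.Ega3B.SecHom

section Left

attribute [local instance 3000] Groth.Agent.Ega3B.HHRes.hasSheafify Groth.Agent.Ega3B.HHRes.hasExt

variable {Y : Scheme.{u}}

theorem ext_left {C : Type*} [Category C] [Abelian C] [HasExt.{u} C] (A : C) {T : ShortComplex C} (hT : T.ShortExact)
    (h2 : Subsingleton (Abelian.Ext A T.X₂ 1)) (hs : ∀ φ : A ⟶ T.X₃, ∃ ψ : A ⟶ T.X₂, ψ ≫ T.g = φ) :
    Subsingleton (Abelian.Ext A T.X₁ 1) := by
  refine subsingleton_of_forall_eq 0 fun x ↦ ?_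
  obtain ⟨y, hy⟩ := Abelian.Ext.covariant_sequence_exact₁ A hT x (h2.elim _ _) rfl
  obtain ⟨φ, rfl⟩ := (Abelian.Ext.mk₀_bijective _ _).2 y
  obtain ⟨ψ, rfl⟩ := hs φ
  rw [← hy, ← Abelian.Ext.mk₀_comp_mk₀, Abelian.Ext.comp_assoc _ _ _ (zero_add 0) (zero_add 1) (by simp),
    hT.comp_extClass, Abelian.Ext.comp_zero]

/-- `H¹` of the kernel of a map surjective on global sections. -/
theorem subsingleton_left {S : ShortComplex Y.Modules} (hS : S.ShortExact)
    (h2 : Subsingleton (Coh.HH Y S.X₂ 1)) (hs : Function.Surjective (S.g.app ⊤)) :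
    Subsingleton (Coh.HH Y S.X₁ 1) := by
  refine ext_left (zSh Y) (hS.map_of_exact (Φ Y)) h2 fun φ => ?_
  obtain ⟨z, hz⟩ := hs (homEquiv ((Φ Y).obj S.X₃) φ)
  refine ⟨(homEquiv ((Φ Y).obj S.X₂)).symm z, ?_⟩
  apply (homEquiv ((Φ Y).obj S.X₃)).injective
  have h1 := homEquiv_comp ((Φ Y).map S.g) ((homEquiv ((Φ Y).obj S.X₂)).symm z)
  refine h1.trans ?_
  rw [AddEquiv.apply_symm_apply]
  exact hz

/-- The same over an open subset. -/
theorem subsingleton_left_on {S : ShortComplex Y.Modules} (hS : S.ShortExact) (V : Y.Opens)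
    (h2 : Subsingleton (Coh.HHon Y S.X₂ V 1)) (hs : Function.Surjective (S.g.app V)) :
    Subsingleton (Coh.HHon Y S.X₁ V 1) := by
  refine subsingleton_left (S := ShortComplex.mk ((R V).map S.f) ((R V).map S.g)
      (by rw [← (R V).map_comp, S.zero, (R V).map_zero])) (restrict_shortExact hS V) h2 ?_
  intro y
  obtain ⟨x, hx⟩ := hs ((topEquiv V S.X₃).hom y)
  refine ⟨(topEquiv V S.X₂).inv x, ?_⟩
  have h1 := app_topEquiv V S.g ((topEquiv V S.X₂).inv x)
  have h3 : (topEquiv V S.X₂).hom ((topEquiv V S.X₂).inv x) = x :=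
    ConcreteCategory.congr_hom (topEquiv V S.X₂).inv_hom_id x
  rw [h3, hx] at h1
  have h4 := congrArg (fun z => (topEquiv V S.X₃).inv z) h1
  have h5 : ∀ z, (topEquiv V S.X₃).inv ((topEquiv V S.X₃).hom z) = z := fun z =>
    ConcreteCategory.congr_hom (topEquiv V S.X₃).hom_inv_id z
  have h6 := (h5 y).symm.trans (h4.trans (h5 _))
  exact h6.symm

end Left

section Val

variable {X Y : Scheme.{u}}

/-- Functions vanishing on a reduced closed subscheme. -/
theorem app_eq_zero_iff (Q : Closeds Y) {V : Y.Opens} (s : Γ(Y, V)) :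
    (Scheme.IdealSheafData.vanishingIdeal Q).subschemeι.app V s = 0 ↔
      Disjoint (Y.basicOpen s : Set Y) (Q : Set Y) := by
  have hred : IsReduced (Scheme.IdealSheafData.vanishingIdeal Q).subscheme :=
    Groth.Agent.Ega1.ReducedSub.isReduced_subscheme_vanishingIdeal _
  rw [← basicOpen_eq_bot_iff, ← Scheme.preimage_basicOpen, Set.disjoint_iff_inter_eq_empty]
  have hrange : Set.range (Scheme.IdealSheafData.vanishingIdeal Q).subschemeι = (Q : Set Y) := by
    rw [Scheme.IdealSheafData.range_subschemeι, Scheme.IdealSheafData.coe_support_vanishingIdeal]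
  constructor
  · intro h
    rw [Set.eq_empty_iff_forall_notMem]
    rintro y ⟨hy, hyQ⟩
    rw [← hrange] at hyQ
    obtain ⟨z, rfl⟩ := hyQ
    have : z ∈ (Scheme.IdealSheafData.vanishingIdeal Q).subschemeι ⁻¹ᵁ Y.basicOpen s := hy
    rw [h] at this
    exact this
  · intro h
    rw [eq_bot_iff]
    intro z hz
    have : (Scheme.IdealSheafData.vanishingIdeal Q).subschemeι z ∈ (Y.basicOpen s : Set Y) ∩ (Q : Set Y) :=
      ⟨hz, by rw [← hrange]; exact ⟨z, rfl⟩⟩
    rw [h] at this
    exact this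

theorem app_eq_zero_iff_comap (c : X ⟶ Y) (P : Closeds X) (Q : Closeds Y) (hPQ : c.base '' (P : Set X) = Q)
    {V : Y.Opens} (s : Γ(Y, V)) :
    (Scheme.IdealSheafData.vanishingIdeal Q).subschemeι.app V s = 0 ↔
      (Scheme.IdealSheafData.vanishingIdeal P).subschemeι.app (c ⁻¹ᵁ V) (c.app V s) = 0 := by
  rw [app_eq_zero_iff, app_eq_zero_iff, ← Scheme.preimage_basicOpen, ← hPQ]
  rw [Set.disjoint_left, Set.disjoint_left]
  constructor
  · intro h x hx hxP
    exact h (show c.base x ∈ (Y.basicOpen s : Set Y) from hx) ⟨x, hxP, rfl⟩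
  · rintro h y hy ⟨x, hxP, rfl⟩
    exact h (show x ∈ (c ⁻¹ᵁ Y.basicOpen s : X.Opens) from hy) hxP

end Val

section Lift

open Groth.Agent.PerfA.IdealModule

variable {X Y : Scheme.{u}} (c : X ⟶ Y) [IsIso (ClSub.unitToPush c)] (P : Closeds X) (Q : Closeds Y)
  (hPQ : c.base '' (P : Set X) = Q)

/-- The ideal of a closed subscheme as a kernel, pushed forward. -/
noncomputable def kerPush (c : X ⟶ Y) (P : Closeds X) :
    IsLimit (KernelFork.ofι ((Scheme.Modules.pushforward c).map
      (ClSub.idealModι (Scheme.IdealSheafData.vanishingIdeal P)))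
      (show _ ≫ (Scheme.Modules.pushforward c).map
        (ClSub.toSubscheme (Scheme.IdealSheafData.vanishingIdeal P)) = 0 by
        rw [← Functor.map_comp]
        have : ClSub.idealModι (Scheme.IdealSheafData.vanishingIdeal P) ≫
          ClSub.toSubscheme (Scheme.IdealSheafData.vanishingIdeal P) = 0 := kernel.condition _
        rw [this, Functor.map_zero])) :=
  KernelFork.mapIsLimit _ (kernelIsKernel (ClSub.toSubscheme (Scheme.IdealSheafData.vanishingIdeal P)))
    (Scheme.Modules.pushforward c)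

include hPQ in
theorem comp_eq_zero :
    ClSub.idealModι (Scheme.IdealSheafData.vanishingIdeal Q) ≫ ClSub.unitToPush c ≫
      (Scheme.Modules.pushforward c).map (ClSub.toSubscheme (Scheme.IdealSheafData.vanishingIdeal P)) = 0 := by
  apply Scheme.Modules.hom_ext
  intro V
  ext x
  change (Scheme.IdealSheafData.vanishingIdeal P).subschemeι.app (c ⁻¹ᵁ V) (c.app V (val _ x)) = 0
  rw [← app_eq_zero_iff_comap c P Q hPQ]
  exact ((exact_app _ V) _).mpr ⟨x, rfl⟩

include hPQ in
theorem comp_eq_zero' :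
    ((Scheme.Modules.pushforward c).map (ClSub.idealModι (Scheme.IdealSheafData.vanishingIdeal P)) ≫
      inv (ClSub.unitToPush c)) ≫ ClSub.toSubscheme (Scheme.IdealSheafData.vanishingIdeal Q) = 0 := by
  apply Scheme.Modules.hom_ext
  intro V
  ext x
  let s : Γ(Y, V) := (inv (ClSub.unitToPush c)).app V (val (X := X) _ (V := c ⁻¹ᵁ V) x)
  have hs : c.app V s = val (X := X) (Scheme.IdealSheafData.vanishingIdeal P) (V := c ⁻¹ᵁ V) x := by
    have h1 : (inv (ClSub.unitToPush c) ≫ ClSub.unitToPush c).app V (val (X := X)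
      (Scheme.IdealSheafData.vanishingIdeal P) (V := c ⁻¹ᵁ V) x) =
        val (X := X) (Scheme.IdealSheafData.vanishingIdeal P) (V := c ⁻¹ᵁ V) x := by
      rw [IsIso.inv_hom_id]
      rfl
    exact h1
  change (Scheme.IdealSheafData.vanishingIdeal Q).subschemeι.app V s = 0
  rw [app_eq_zero_iff_comap c P Q hPQ, hs]
  exact ((exact_app _ (c ⁻¹ᵁ V)) _).mpr ⟨x, rfl⟩

include hPQ in
/-- The direct image of the ideal of a reduced closed subscheme. -/
theorem push_idealMod : Nonempty (ClSub.idealMod (Scheme.IdealSheafData.vanishingIdeal Q) ≅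
    (Scheme.Modules.pushforward c).obj (ClSub.idealMod (Scheme.IdealSheafData.vanishingIdeal P))) := by
  obtain ⟨a, ha⟩ := KernelFork.IsLimit.lift' (kerPush c P)
    (ClSub.idealModι (Scheme.IdealSheafData.vanishingIdeal Q) ≫ ClSub.unitToPush c) (by
      rw [Category.assoc]; exact comp_eq_zero c P Q hPQ)
  have ha' : a ≫ (Scheme.Modules.pushforward c).map (ClSub.idealModι (Scheme.IdealSheafData.vanishingIdeal P)) =
    ClSub.idealModι (Scheme.IdealSheafData.vanishingIdeal Q) ≫ ClSub.unitToPush c := ha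
  obtain ⟨b, hb⟩ : ∃ b : (Scheme.Modules.pushforward c).obj
      (ClSub.idealMod (Scheme.IdealSheafData.vanishingIdeal P)) ⟶
        ClSub.idealMod (Scheme.IdealSheafData.vanishingIdeal Q),
      b ≫ ClSub.idealModι (Scheme.IdealSheafData.vanishingIdeal Q) =
    (Scheme.Modules.pushforward c).map (ClSub.idealModι (Scheme.IdealSheafData.vanishingIdeal P)) ≫
      inv (ClSub.unitToPush c) :=
    ⟨kernel.lift (ClSub.toSubscheme (Scheme.IdealSheafData.vanishingIdeal Q)) _ (comp_eq_zero' c P Q hPQ),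
      kernel.lift_ι _ _ _⟩
  have hm : Mono ((Scheme.Modules.pushforward c).map
    (ClSub.idealModι (Scheme.IdealSheafData.vanishingIdeal P))) := inferInstance
  refine ⟨⟨a, b, ?_, ?_⟩⟩
  · rw [← cancel_mono (ClSub.idealModι (Scheme.IdealSheafData.vanishingIdeal Q)), Category.assoc, hb,
      ← Category.assoc, ha', Category.assoc, IsIso.hom_inv_id, Category.comp_id, Category.id_comp]
  · rw [← cancel_mono ((Scheme.Modules.pushforward c).map
      (ClSub.idealModι (Scheme.IdealSheafData.vanishingIdeal P))), Category.assoc, ha', ← Category.assoc, hb,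
      Category.assoc, IsIso.inv_hom_id, Category.comp_id, Category.id_comp]

end Lift

section Crt

variable {Y Z : Scheme.{u}} (k : Type u) [Field k] [IsAlgClosed k] (f : Y ⟶ Spec (CommRingCat.of k)) (h : Z ⟶ Y)

theorem mem_primeIdealOf {V : Y.Opens} (hV : IsAffineOpen V) (x : V) (a : Γ(Y, V)) :
    a ∈ (hV.primeIdealOf x).asIdeal ↔ Y.presheaf.germ V x.1 x.2 a ∈ IsLocalRing.maximalIdeal _ := by
  rw [hV.primeIdealOf_eq_map_closedPoint]
  rfl

theorem eq_of_primeIdealOf {V : Y.Opens} (hV : IsAffineOpen V) (x y : V)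
    (hxy : hV.primeIdealOf x = hV.primeIdealOf y) : x = y := by
  apply Subtype.ext
  rw [← hV.fromSpec_primeIdealOf x, hxy, hV.fromSpec_primeIdealOf y]

/-- A morphism from a finite reduced discrete scheme over an algebraically closed field which is injective with closed
values induces surjections on sections over affine opens. -/
theorem surjective_app [Finite Z] [IsReduced Z] [LocallyOfFiniteType (h ≫ f)]
    (hZ : ∀ z : Z, IsClosed ({z} : Set Z)) (hY : ∀ z : Z, IsClosed ({h.base z} : Set Y))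
    (inj : Function.Injective h.base) {V : Y.Opens} (hV : IsAffineOpen V) :
    Function.Surjective (h.app V) := by
  classical
  intro b
  have key : ∀ z : (h ⁻¹ᵁ V : Z.Opens), ∃ a : Γ(Y, V),
      Z.presheaf.germ (h ⁻¹ᵁ V) z.1 z.2 (b - h.app V a) ∈ IsLocalRing.maximalIdeal _ := by
    intro z
    obtain ⟨a, ha⟩ := K896.RatComp.exists_const k (h ≫ f) z.1 (hZ z.1) (Z.presheaf.germ (h ⁻¹ᵁ V) z.1 z.2 b)
    refine ⟨Y.presheaf.map (homOfLE le_top).op (Groth.Agent.CurvesC.QuotZero.glob f a), ?_⟩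
    have h2 : Z.presheaf.germ (h ⁻¹ᵁ V) z.1 z.2 (h.app V (Y.presheaf.map (homOfLE le_top).op
        (Groth.Agent.CurvesC.QuotZero.glob f a))) =
        Z.presheaf.germ ⊤ z.1 trivial (Groth.Agent.CurvesC.QuotZero.glob (h ≫ f) a) := by
      have h3 : h.app V (Y.presheaf.map (homOfLE (le_top : V ≤ ⊤)).op (Groth.Agent.CurvesC.QuotZero.glob f a)) =
          Z.presheaf.map (homOfLE (le_top : h ⁻¹ᵁ V ≤ ⊤)).op (h.app ⊤ (Groth.Agent.CurvesC.QuotZero.glob f a)) :=
        congr($(h.naturality (homOfLE (le_top : V ≤ ⊤)).op) (Groth.Agent.CurvesC.QuotZero.glob f a))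
      rw [h3]
      have h4 := Z.presheaf.germ_res_apply (homOfLE (le_top : h ⁻¹ᵁ V ≤ ⊤)) z.1 z.2
        (h.app ⊤ (Groth.Agent.CurvesC.QuotZero.glob f a))
      refine h4.trans ?_
      congr 1
    rw [map_sub, h2]
    exact ha
  choose α hα using key
  obtain ⟨s, hs⟩ := Ideal.pi_quotient_surjective
    (I := fun z : (h ⁻¹ᵁ V : Z.Opens) => (hV.primeIdealOf ⟨h.base z.1, z.2⟩).asIdeal)
    (fun z z' hzz => by
      have h1 := hV.primeIdealOf_isMaximal_of_isClosed ⟨h.base z.1, z.2⟩ (hY z.1)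
      have h2 := hV.primeIdealOf_isMaximal_of_isClosed ⟨h.base z'.1, z'.2⟩ (hY z'.1)
      refine Ideal.isCoprime_of_isMaximal fun h3 => hzz ?_
      have h4 := eq_of_primeIdealOf hV _ _ (PrimeSpectrum.ext h3)
      exact Subtype.ext (inj (congrArg Subtype.val h4)))
    (fun z => Ideal.Quotient.mk _ (α z))
  refine ⟨s, ?_⟩
  rw [← sub_eq_zero]
  refine (basicOpen_eq_bot_iff _).mp ?_
  rw [eq_bot_iff]
  intro z hz
  have hzV : z ∈ h ⁻¹ᵁ V := Z.basicOpen_le _ hz
  have h1 : IsUnit (Z.presheaf.germ (h ⁻¹ᵁ V) z hzV (h.app V s - b)) := (Z.mem_basicOpen _ z hzV).mp hz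
  have h2 := hα ⟨z, hzV⟩
  have h3 : s - α ⟨z, hzV⟩ ∈ (hV.primeIdealOf ⟨h.base z, hzV⟩).asIdeal := Ideal.Quotient.eq.mp (hs ⟨z, hzV⟩)
  rw [mem_primeIdealOf] at h3
  have h4 : Z.presheaf.germ (h ⁻¹ᵁ V) z hzV (h.app V (s - α ⟨z, hzV⟩)) ∈ IsLocalRing.maximalIdeal _ := by
    have h5 := h.germ_stalkMap_apply V z hzV (s - α ⟨z, hzV⟩)
    rw [← h5]
    exact ((IsLocalRing.local_hom_TFAE (h.stalkMap z).hom).out 0 3 rfl rfl |>.mp inferInstance) h3
  refine (IsLocalRing.mem_maximalIdeal _).mp ?_ h1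
  have h6 : h.app V s - b = h.app V (s - α ⟨z, hzV⟩) - (b - h.app V (α ⟨z, hzV⟩)) := by
    rw [map_sub]; ring
  rw [h6, map_sub]
  exact sub_mem h4 h2

end Crt

section Van

open K900.Acyc

variable {X Y : Scheme.{u}} (k : Type u) [Field k] [IsAlgClosed k] (f : Y ⟶ Spec (CommRingCat.of k)) (c : X ⟶ Y)
  [LocallyOfFiniteType (c ≫ f)]

include k f in
/-- Vanishing of the first direct image of the ideal of finitely many closed points. -/
theorem locVan_ideal [NoetherianSpace X] (hdim : topologicalKrullDim X ≤ 1) (hO : LocVan c (Coh.structureModule X))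
    (P : Closeds X) (hfin : (P : Set X).Finite) (hX : ∀ x ∈ P, IsClosed ({x} : Set X))
    (hY : ∀ x ∈ P, IsClosed ({c.base x} : Set Y)) (inj : Set.InjOn c.base (P : Set X)) :
    LocVan c (ClSub.idealMod (Scheme.IdealSheafData.vanishingIdeal P)) := by
  have hrange : Set.range (Scheme.IdealSheafData.vanishingIdeal P).subschemeι = (P : Set X) := by
    rw [Scheme.IdealSheafData.range_subschemeι, Scheme.IdealSheafData.coe_support_vanishingIdeal]
  have hmem : ∀ z, (Scheme.IdealSheafData.vanishingIdeal P).subschemeι z ∈ P := fun z => by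
    have : (Scheme.IdealSheafData.vanishingIdeal P).subschemeι z ∈ (P : Set X) := by
      rw [← hrange]
      exact ⟨z, rfl⟩
    exact this
  have hfz : Finite (Scheme.IdealSheafData.vanishingIdeal P).subscheme := by
    have h1 : (Set.range (Scheme.IdealSheafData.vanishingIdeal P).subschemeι).Finite := by rw [hrange]; exact hfin
    have : Finite (Set.range (Scheme.IdealSheafData.vanishingIdeal P).subschemeι) := h1
    exact Finite.of_injective_finite_range (Scheme.IdealSheafData.vanishingIdeal P).subschemeι.injective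
  have hred : IsReduced (Scheme.IdealSheafData.vanishingIdeal P).subscheme :=
    Groth.Agent.Ega1.ReducedSub.isReduced_subscheme_vanishingIdeal _
  have hlft : LocallyOfFiniteType (((Scheme.IdealSheafData.vanishingIdeal P).subschemeι ≫ c) ≫ f) := by
    rw [Category.assoc]
    infer_instance
  refine locVan_of_one c hdim fun V hV => ?_
  refine subsingleton_left_on (Groth.Agent.CurvesC.DualDeg.shortExact_ideal
    (Scheme.IdealSheafData.vanishingIdeal P)) (c ⁻¹ᵁ V) (hO V hV 0) ?_
  have key := surjective_app k f ((Scheme.IdealSheafData.vanishingIdeal P).subschemeι ≫ c)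
    (fun z => by
      have h1 := (hX _ (hmem z)).preimage (Scheme.IdealSheafData.vanishingIdeal P).subschemeι.continuous
      convert h1 using 1
      ext w
      exact ⟨fun h => congrArg _ h, fun h => (Scheme.IdealSheafData.vanishingIdeal P).subschemeι.injective h⟩)
    (fun z => hY _ (hmem z))
    (fun z w hzw => (Scheme.IdealSheafData.vanishingIdeal P).subschemeι.injective
      (inj (hmem z) (hmem w) hzw)) hV
  intro y
  obtain ⟨s, hs⟩ := key y
  refine ⟨c.app V s, ?_⟩
  rw [← hs]
  rfl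

end Van

end K900.PtPush
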