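import Groth.Agent.CurvSt.K900.MarkTw
import Groth.Agent.CurvSt.K900.FibTail
import Groth.Agent.CurvSt.K896.TailBridge
import Groth.Agent.Old.H24.LinearSeries
import Groth.Agent.CohqB.FinAmple

/-!
# Semistability of a nodal curve over an algebraically closed field and ampleness of `w^d ⊗ L`
-/

set_option autoImplicit false
universe u
open CategoryTheory CategoryTheory.Limits AlgebraicGeometry TopologicalSpace Opposite IsLocalRing

namespace K900.SemiField

open Groth.Agent Groth.Agent.CurvesC Groth.Agent.CurvesC.TailGeom K326.PtsDiv K326.SemiStab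
open Groth.Agent.CurvesC.TailNum Groth.Agent.CurvesC.DualCount

attribute [local instance] subOver

variable (k : Type u) [Field k] [IsAlgClosed k] (X : Scheme.{u}) [X.Over (Spec (CommRingCat.of k))]
  [IsProper (X ↘ (Spec (CommRingCat.of k)))] [IsReduced X] [ConnectedSpace X]

omit [IsAlgClosed k] [IsProper (X ↘ (Spec (CommRingCat.of k)))] [IsReduced X] [ConnectedSpace X] in
theorem pts_zero : Pts k 0 (fun i : Fin 0 => (i.elim0 : X)) :=
  ⟨fun a => a.elim0, fun a => a.elim0, fun a => a.elim0⟩

omit [IsAlgClosed k] [IsProper (X ↘ (Spec (CommRingCat.of k)))] [IsReduced X] [ConnectedSpace X] in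
theorem tw_zero {w : X.Modules} (hw : PicF.IsInvertible w) {t : Coh.HH X w 1 →ₗ[k] k} (ht : IsPair k t) :
    Tw k X (pts_zero k X) w w := by
  refine ⟨hw, ⟨t, ht⟩, Coh.structureModule X, ?_, ⟨(Ega2.Tens.runit _).symm⟩⟩
  rw [MarkTw.vanishingIdeal_zero]
  exact MarkTw.isInverseOf_top

/-- The degree of the dualizing module on a connected subcurve. -/
theorem deg_dualizing (hdim : topologicalKrullDim X = 1) (hX : Curv2.AtWorstNodal k X)
    {w : X.Modules} (hw : PicF.IsInvertible w) {t : Coh.HH X w 1 →ₗ[k] k} (ht : IsPair k t)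
    (J : X.IdealSheafData) [IsReduced J.subscheme] [ConnectedSpace J.subscheme]
    (hJ1 : topologicalKrullDim J.subscheme = 1) :
    Curv2.deg k J.subscheme ((Scheme.Modules.pullback J.subschemeι).obj w) 1 =
      2 * (Curv2.genus k J.subscheme : ℤ) - 2 +
        (((J.support : Set X) ∩ closure (J.support : Set X)ᶜ).ncard : ℤ) := by
  rw [deg_formula k X hdim hX (pts_zero k X) w w (tw_zero k X hw ht) J hJ1]
  unfold spec
  rw [Set.eq_empty_of_isEmpty ((fun i : Fin 0 => (i.elim0 : X)) ⁻¹' (J.support : Set X)), Set.ncard_empty, add_zero]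

variable (hdim : topologicalKrullDim X = 1) (hX : Curv2.AtWorstNodal k X) (C : Set X)
  (hC : C ∈ irreducibleComponents (X : Type u))

include k hdim in
theorem dim_one : topologicalKrullDim (compIdeal C hC).subscheme = 1 := by
  have hN : IsNoetherian X := CurveCoh.noetherianSpace k X
  exact dim_comp X hC (TailMain.pure_of_connected X hdim C hC)

theorem genus_comp_zero (h : Subsingleton (Coh.HH (compIdeal C hC).subscheme
    (Coh.structureModule (compIdeal C hC).subscheme) 1)) : Curv2.genus k (compIdeal C hC).subscheme = 0 :=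
  Module.finrank_zero_of_subsingleton

theorem h1_of_genus (h : Curv2.genus k (compIdeal C hC).subscheme = 0) :
    Subsingleton (Coh.HH (compIdeal C hC).subscheme (Coh.structureModule (compIdeal C hC).subscheme) 1) := by
  have hP : IsProper ((compIdeal C hC).subscheme ↘ Spec (CommRingCat.of k)) :=
    inferInstanceAs (IsProper ((compIdeal C hC).subschemeι ≫ (X ↘ (Spec (CommRingCat.of k)))))
  have hN1 := isNoetherian_sub k X (compIdeal C hC)
  have hfin := Groth.Agent.S0002.result k (compIdeal C hC).subscheme
    (Coh.structureModule (compIdeal C hC).subscheme) (UnitCoh.isCoh_unit _) 1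
  exact Module.finrank_zero_iff.mp h

include k hC in
/-- A proper component of a connected curve meets the others. -/
theorem ncard_pos (hne : C ≠ Set.univ) (hfin : (C ∩ closure Cᶜ).Finite) : 0 < (C ∩ closure Cᶜ).ncard := by
  rw [Set.ncard_pos hfin]
  by_contra hem
  rw [Set.not_nonempty_iff_eq_empty] at hem
  have hcl : IsClosed C := isClosed_of_mem_irreducibleComponents C hC
  have h3 : C = (closure Cᶜ)ᶜ := by
    apply Set.Subset.antisymm
    · intro x hx hx'
      exact (Set.eq_empty_iff_forall_notMem.mp hem x) ⟨hx, hx'⟩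
    · intro x hx
      by_contra hx'
      exact hx (subset_closure hx')
  have hop : IsOpen C := by
    rw [h3]
    exact isClosed_closure.isOpen_compl
  exact hne ((show IsClopen C from ⟨hcl, hop⟩).eq_univ hC.1.nonempty)

include hdim hX in
/-- On a curve of positive genus, the dualizing module has nonnegative degree on components which are not
rational tails. -/
theorem nonneg_of_not_tail (hg : 1 ≤ Curv2.genus k X) {w : X.Modules} (hw : PicF.IsInvertible w)
    {t : Coh.HH X w 1 →ₗ[k] k} (ht : IsPair k t) (hnt : ¬ Curv2.IsRationalTail X C hC) :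
    0 ≤ Curv2.deg k (compIdeal C hC).subscheme ((Scheme.Modules.pullback (compIdeal C hC).subschemeι).obj w) 1 := by
  have hN : IsNoetherian X := CurveCoh.noetherianSpace k X
  have hc := connected_comp C hC
  rw [deg_dualizing k X hdim hX hw ht (compIdeal C hC) (dim_one k X hdim C hC), coe_support_compIdeal]
  change 0 ≤ 2 * (Curv2.genus k (compIdeal C hC).subscheme : ℤ) - 2 + ((C ∩ closure Cᶜ).ncard : ℤ)
  rcases Nat.eq_zero_or_pos (Curv2.genus k (compIdeal C hC).subscheme) with hg0 | hg0
  · have h1 := h1_of_genus k X C hC hg0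
    have hsm := K896.TailBridge.isSmRatComp_of_h1 k X C hC (TailMain.pure_of_connected X hdim C hC) h1
    have hne : C ≠ Set.univ := by
      intro hU
      have h2 := NodalPos2.finrank_quot_univ k X C hC hU 1
      have h3 := finrank_quotMod k X (compIdeal C hC) 1
      have h4 : Curv2.genus k X = Curv2.genus k (compIdeal C hC).subscheme := (h3.trans h2).symm
      omega
    have hfin := (finite_inter hdim.le hC).1
    have h5 := ncard_pos k X C hC hne hfin
    have h6 : (C ∩ closure Cᶜ).ncard ≠ 1 := fun h =>
      hnt (K896.TailBridge.isRationalTail_of_ncard k X C hdim hX hsm hne h)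
    omega
  · omega

include hdim hX in
/-- The dualizing module has degree `-1` on rational tails. -/
theorem deg_tail {w : X.Modules} (hw : PicF.IsInvertible w)
    {t : Coh.HH X w 1 →ₗ[k] k} (ht : IsPair k t) (hT : Curv2.IsRationalTail X C hC) :
    Curv2.deg k (compIdeal C hC).subscheme ((Scheme.Modules.pullback (compIdeal C hC).subschemeι).obj w) 1 = -1 := by
  have hc := connected_comp C hC
  rw [deg_dualizing k X hdim hX hw ht (compIdeal C hC) (dim_one k X hdim C hC), coe_support_compIdeal]
  change 2 * (Curv2.genus k (compIdeal C hC).subscheme : ℤ) - 2 + ((C ∩ closure Cᶜ).ncard : ℤ) = _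
  rw [K896.TailBridge.ncard_of_isRationalTail k X C hC hdim hX hT, genus_comp_zero k X C hC hT.2.2.2.2.2]
  norm_num

include hdim in
/-- The degree of an ample module on a component is at most the total degree. -/
theorem deg_comp_le {L : X.Modules} (hL : CohB1.IsAmple L) :
    Curv2.deg k (compIdeal C hC).subscheme ((Scheme.Modules.pullback (compIdeal C hC).subschemeι).obj L) 1 ≤
      Curv2.deg k X L 1 := by
  have hN : IsNoetherian X := CurveCoh.noetherianSpace k X
  have hpure := TailMain.pure_of_connected X hdim
  have hfin : Finite (irreducibleComponents (X : Type u)) :=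
    TopologicalSpace.NoetherianSpace.finite_irreducibleComponents
  have e : ∀ Z : irreducibleComponents (X : Type u), Groth.Agent.S1641.degC k X 1 L Z =
      Curv2.deg k (compIdeal Z.1 Z.2).subscheme
        ((Scheme.Modules.pullback (compIdeal Z.1 Z.2).subschemeι).obj L) 1 := by
    intro Z
    have hr : IsReduced (compIdeal Z.1 Z.2).subscheme := inferInstance
    exact DegC.degC_eq k Z (compIdeal Z.1 Z.2).subschemeι (range_comp Z.1 Z.2) rfl L
  have pos : ∀ Z : irreducibleComponents (X : Type u), (if topologicalKrullDim (Z.1 : Set X) = 1 then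
        ((Module.length (X.presheaf.stalk Z.2.1.genericPoint) (X.presheaf.stalk Z.2.1.genericPoint)).toNat : ℤ) *
          Groth.Agent.S1641.degC k X 1 L Z else 0) =
      Curv2.deg k (compIdeal Z.1 Z.2).subscheme
        ((Scheme.Modules.pullback (compIdeal Z.1 Z.2).subschemeι).obj L) 1 := by
    intro Z
    rw [if_pos (hpure Z.1 Z.2)]
    have h1 := K900.Comp.length_of_isField (K900.Comp.isField_stalk Z) (RingHom.id _) Function.surjective_id
    rw [h1, e]
    simp
  have key := Groth.Agent.S1641.result k X hdim.le 1 L (Ega2.QCohLocal.isFinLocFreeOfRank_one_iff.mpr hL.1)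
  change Curv2.deg k X L 1 = ∑ᶠ Z : irreducibleComponents (X : Type u),
    (if topologicalKrullDim (Z.1 : Set X) = 1 then
        ((Module.length (X.presheaf.stalk Z.2.1.genericPoint) (X.presheaf.stalk Z.2.1.genericPoint)).toNat : ℤ) *
          Groth.Agent.S1641.degC k X 1 L Z else 0) at key
  rw [key, finsum_congr pos]
  refine single_le_finsum (f := fun Z : irreducibleComponents (X : Type u) =>
    Curv2.deg k (compIdeal Z.1 Z.2).subscheme
        ((Scheme.Modules.pullback (compIdeal Z.1 Z.2).subschemeι).obj L) 1)
    (⟨C, hC⟩ : irreducibleComponents (X : Type u)) (Set.toFinite _) fun Z => ?_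
  exact (FibTail.deg_comp_pos k X Z.1 Z.2 (hpure Z.1 Z.2) hL).le

include hdim in
theorem deg_tensor_comp {w L : X.Modules} (hw : PicF.IsInvertible w) (hL : PicF.IsInvertible L) (d : ℕ) :
    Curv2.deg k (compIdeal C hC).subscheme ((Scheme.Modules.pullback (compIdeal C hC).subschemeι).obj
      (CohB1.tensorMod (CohB1.tensorPow w d) L)) 1 =
      d * Curv2.deg k (compIdeal C hC).subscheme
        ((Scheme.Modules.pullback (compIdeal C hC).subschemeι).obj w) 1 +
      Curv2.deg k (compIdeal C hC).subscheme
        ((Scheme.Modules.pullback (compIdeal C hC).subschemeι).obj L) 1 := by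
  have hint : IsIntegral (compIdeal C hC).subscheme := CompGeom.isIntegral_C X C hC
  have hP : IsProper ((compIdeal C hC).subscheme ↘ Spec (CommRingCat.of k)) :=
    inferInstanceAs (IsProper ((compIdeal C hC).subschemeι ≫ (X ↘ (Spec (CommRingCat.of k)))))
  have hd := (dim_one k X hdim C hC).le
  have hwd : PicF.IsInvertible (CohB1.tensorPow w d) := Fdesc.LocGen.isInvertible_tensorPow hw d
  obtain ⟨e⟩ := Dix.IdealModCartier.pullback_tensorMod (compIdeal C hC).subschemeι hwd hL
  obtain ⟨e2⟩ := CohqB.FinAmple.nonempty_pullback_tensorPow (compIdeal C hC).subschemeι hw d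
  have h1 := Models2.AmplePull.isInvertible_pullback (compIdeal C hC).subschemeι hw
  have h2 := Models2.AmplePull.isInvertible_pullback (compIdeal C hC).subschemeι hL
  have h3 := Models2.AmplePull.isInvertible_pullback (compIdeal C hC).subschemeι hwd
  rw [DegIso.deg_congr k e 1, Old.H24.LinearSeries.deg_tensor k hd h3 h2, DegIso.deg_congr k e2 1,
    Old.H24.LinearSeries.deg_tensorPow k hd h1]

include hdim hX in
/-- **Semistability as ampleness.** -/
theorem semi_iff (hg : 1 ≤ Curv2.genus k X) {w : X.Modules} (hw : PicF.IsInvertible w)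
    {t : Coh.HH X w 1 →ₗ[k] k} (ht : IsPair k t) {L : X.Modules} (hL : CohB1.IsAmple L) (d : ℕ)
    (hd : Curv2.deg k X L 1 ≤ d) :
    (∀ (C : Set X) (hC : C ∈ irreducibleComponents (X : Type u)), ¬ Curv2.IsRationalTail X C hC) ↔
      CohB1.IsAmple (CohB1.tensorMod (CohB1.tensorPow w d) L) := by
  have hN : IsNoetherian X := CurveCoh.noetherianSpace k X
  have hpure := TailMain.pure_of_connected X hdim
  constructor
  · intro hnt
    refine AmpleComp.isAmple_of_deg_pos k X _ (Fdesc.LocGen.isInvertible_tensorMod
      (Fdesc.LocGen.isInvertible_tensorPow hw d) hL.1) (fun C hC => dim_one k X hdim C hC) fun C hC => ?_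
    change 0 < Curv2.deg k (compIdeal C hC).subscheme ((Scheme.Modules.pullback (compIdeal C hC).subschemeι).obj
      (CohB1.tensorMod (CohB1.tensorPow w d) L)) 1
    rw [deg_tensor_comp k X hdim C hC hw hL.1]
    have h1 := nonneg_of_not_tail k X hdim hX C hC hg hw ht (hnt C hC)
    have h2 := FibTail.deg_comp_pos k X C hC (hpure C hC) hL
    positivity
  · intro hA C hC hT
    have h1 := FibTail.deg_comp_pos k X C hC (hpure C hC) hA
    rw [deg_tensor_comp k X hdim C hC hw hL.1, deg_tail k X hdim hX C hC hw ht hT] at h1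
    have h2 := deg_comp_le k X hdim C hC hL
    linarith

end K900.SemiField
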