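import Groth.Agent.CurvSt.K900.StabOpen
import Groth.Agent.CurvSt.K900.SemiField
import Groth.Agent.CurvSt.K900.EulGeo
import Groth.Agent.Ega3B.SerreTwist
import Groth.Agent.Fga.TensorList
import Groth.Agent.S16733
import Groth.Agent.S10831

/-!
# Openness of semistability for families of unpointed curves
-/

set_option autoImplicit false
universe u
open CategoryTheory CategoryTheory.Limits AlgebraicGeometry TopologicalSpace

namespace K900.SemiOpen

open Groth.Agent K902.SchSet K902.SchInst K900.StabAmple K900.OpenGlue K900.StabOpen K900.EulGeo CurvSt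

/-- No rational tail, genus at least one. -/
abbrev SemiP : FProp.{u} := fun Ω _ _ X' q => letI : X'.Over (Spec (CommRingCat.of Ω)) := ⟨q⟩
      1 ≤ Curv2.genus Ω X' ∧
        ∀ (C : Set ↥X') (hC : C ∈ irreducibleComponents (↥X' : Type u)), ¬ Curv2.IsRationalTail X' C hC

/-- `f^*(w^d ⊗ L) = (f^*w)^d ⊗ f^*L`. -/
theorem nonempty_pull {X Y : Scheme.{u}} (f : Y ⟶ X) {w L : X.Modules} (hw : PicF.IsInvertible w)
    (hL : PicF.IsInvertible L) (d : ℕ) :
    Nonempty ((Scheme.Modules.pullback f).obj (CohB1.tensorMod (CohB1.tensorPow w d) L) ≅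
      CohB1.tensorMod (CohB1.tensorPow ((Scheme.Modules.pullback f).obj w) d) ((Scheme.Modules.pullback f).obj L)) := by
  obtain ⟨e⟩ := Dix.IdealModCartier.pullback_tensorMod f (Fdesc.LocGen.isInvertible_tensorPow hw d) hL
  obtain ⟨e2⟩ := CohqB.FinAmple.nonempty_pullback_tensorPow f hw d
  exact ⟨e ≪≫ (Fga.TensorList.tensorModCongr e2 (Iso.refl _))⟩

/-- The case of a projective family with connected nodal fibres of genus at least one over an affine base. -/
theorem openFor_proj {C T : Scheme.{u}} [IsAffine T] (f : C ⟶ T) [Flat f] [IsProper f] [LocallyOfFinitePresentation f]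
    (h : ∀ s, s ∈ GSet f 1) (hproj : RelProj.IsHProjective f) :
    OpenFor (fun Ω _ _ X' q => NodConn Ω X' q ∧ SemiP Ω X' q) f := by
  have hf : Curv2.IsNodalFamily f := (K901.SchPre.isNodalFamily_iff f).2 fun x => (h (f x)).1.1 x rfl
  obtain ⟨w, hw⟩ := exists_goodDual f hf
  obtain ⟨r, i0, hi0, hi1⟩ := hproj
  let L := Groth.Agent.Ega3B.ProjFrame.lineOne r i0
  have hL : PicF.IsInvertible L := Groth.Agent.Ega3B.ProjFrame.isInvertible_lineOne r i0
  have hM : ∀ d : ℕ, PicF.IsInvertible (CohB1.tensorMod (CohB1.tensorPow w d) L) := fun d =>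
    Fdesc.LocGen.isInvertible_tensorMod (Fdesc.LocGen.isInvertible_tensorPow hw.inv d) hL
  refine ⟨⋃ d : ℕ, {s | degFun f L s ∈ {a : ℤ | a.toNat = d}} ∩
    {s | CohB1.IsAmple ((Scheme.Modules.pullback (f.fiberι s)).obj (CohB1.tensorMod (CohB1.tensorPow w d) L))}, ?_, ?_⟩
  · exact isOpen_iUnion fun d => (isLocallyConstant_degFun f hL _).inter (K333.StableOpen.isOpen_ample f (hM d))
  · intro Ω _ _ t X' i q sq
    have hq : IsProper q := MorphismProperty.of_isPullback sq inferInstance
    obtain ⟨h1, h2⟩ := (gSet_iff f 1 sq).2 (h _)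
    obtain ⟨a1, a2, a3, a4⟩ := facts q h1
    have hconn : ConnectedSpace X' := h1.2
    let _ : X'.Over (Spec (CommRingCat.of Ω)) := ⟨q⟩
    have hq' : IsProper (X' ↘ (Spec (CommRingCat.of Ω))) := hq
    obtain ⟨tr, htr⟩ := hw.pair Ω t X' i q sq a1
    have hA : CohB1.IsAmple ((Scheme.Modules.pullback i).obj L) := by
      refine Groth.Agent.Ega3B.SerreTwist.isAmple_baseChange r i0 t (q := q) ?_
      rw [hi1]
      exact sq
    have hdeg := deg_eq f hL Ω t (IsLocalRing.closedPoint Ω) i sq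
    have key := SemiField.semi_iff Ω X' a1 a3 h2 (Fdesc.LocGen.isInvertible_pullback i hw.inv) htr hA
      (degFun f L (t.base (IsLocalRing.closedPoint Ω))).toNat (by rw [hdeg]; exact Int.self_le_toNat _)
    obtain ⟨e⟩ := nonempty_pull i hw.inv hL (degFun f L (t.base (IsLocalRing.closedPoint Ω))).toNat
    have key2 := Models2.AmplePull.isAmple_iff_of_iso e
    rw [K333.StableOpen.isAmple_iff_fibre f (hM _) sq] at key2
    constructor
    · intro h5
      exact Set.mem_iUnion.2 ⟨_, rfl, key2.2 (key.1 h5.2.2)⟩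
    · intro h5
      obtain ⟨d, hd1, hd2⟩ := Set.mem_iUnion.1 h5
      change (degFun f L (t.base (IsLocalRing.closedPoint Ω))).toNat = d at hd1
      subst hd1
      exact ⟨h1, h2, key.2 (key2.1 hd2)⟩

/-- The case of a family with connected nodal fibres of genus at least one. -/
theorem openFor_gSet {C T : Scheme.{u}} (f : C ⟶ T) [Flat f] [IsProper f] [LocallyOfFinitePresentation f]
    (h : ∀ s, s ∈ GSet f 1) :
    OpenFor (fun Ω _ _ X' q => NodConn Ω X' q ∧ SemiP Ω X' q) f := by
  have hf : Curv2.IsNodalFamily f := (K901.SchPre.isNodalFamily_iff f).2 fun x => (h (f x)).1.1 x rfl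
  have hdim : ∀ s : T, topologicalKrullDim ↥(f.fiber s) ≤ 1 := fun s => by
    rw [Groth.Agent.S10831.result]
    exact iSup₂_le fun Z hZ => ((hf.2.2 s).1 Z hZ).le
  refine openFor_of_etale f Set.univ (fun _ _ _ _ _ _ _ _ _ => trivial) fun s _ => ?_
  obtain ⟨T', e, hT, he, ⟨v, hv⟩, hP⟩ := Groth.Agent.S16733.result f hdim s
  have i1 : Flat (pullback.snd f e) := inferInstance
  refine ⟨T', e, v, he, hv, _, _, _, IsPullback.of_hasPullback f e, openFor_proj (pullback.snd f e) (fun x => ?_) hP⟩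
  obtain ⟨Ω, _, _, t, rfl⟩ := K901.GeomLoc.exists_geomPt x
  have sq1 := IsPullback.of_hasPullback (pullback.snd f e) t
  exact (gSet_iff (pullback.snd f e) 1 sq1).1
    ((gSet_iff f 1 (sq1.paste_horiz (IsPullback.of_hasPullback f e))).2 (h _))

/-- **Semistability is an open condition.** -/
theorem schOpen_semi : SchOpen.{u} (fun Ω _ _ X' q => NodConn Ω X' q ∧ SemiP Ω X' q) := by
  intro C T f _ _ _
  refine openFor_of_etale f (GSet f 1) (fun Ω _ _ t X' i q sq hP => (gSet_iff f 1 sq).1 ⟨hP.1, hP.2.1⟩) fun s hs => ?_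
  let V : T.Opens := ⟨GSet f 1, isOpen_gSet f 1⟩
  have sq : IsPullback (f ⁻¹ᵁ V).ι (f ∣_ V) f V.ι := (isPullback_morphismRestrict f V).flip
  have i1 : Flat (f ∣_ V) := MorphismProperty.of_isPullback sq inferInstance
  have i2 : IsProper (f ∣_ V) := MorphismProperty.of_isPullback sq inferInstance
  have i3 : LocallyOfFinitePresentation (f ∣_ V) := MorphismProperty.of_isPullback sq inferInstance
  refine ⟨V, V.ι, ⟨s, hs⟩, inferInstance, rfl, _, _, _, sq, openFor_gSet (f ∣_ V) fun v => ?_⟩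
  obtain ⟨Ω, _, _, t, rfl⟩ := K901.GeomLoc.exists_geomPt v
  have sq1 := IsPullback.of_hasPullback (f ∣_ V) t
  exact (gSet_iff (f ∣_ V) 1 sq1).1 ((gSet_iff f 1 (sq1.paste_horiz sq)).2 (t.base _).2)

section Fam

variable {S : Scheme.{u}} {n : ℕ}

theorem spIsSemistable_iff {A : SpFamObj S n} (hA : IsCurveFam A) :
    SpIsSemistable A ↔ GeomFib (fun Ω _ _ X' q _ => NodConn Ω X' q ∧ SemiP Ω X' q) A := by
  rw [SpIsSemistable, spIsPrestable_iff hA]
  exact geomFib_and_iff.symm

/-- **The semistable locus is open in the stack of curves.** -/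
theorem hasOpenLocus_semistable (S : Scheme.{u}) (n : ℕ) :
    K899.OpenCrit.HasOpenLocus (𝒳 := Curves S n) (fun A => SpIsSemistable A.obj) := by
  have h : (fun A : (Curves S n).obj => SpIsSemistable A.obj) =
      fun A => GeomFib (fun Ω _ _ X' q _ => NodConn Ω X' q ∧ SemiP Ω X' q) A.obj := by
    funext A
    exact propext (spIsSemistable_iff A.property)
  rw [h]
  exact schOpen_semi.hasOpenLocus S n

end Fam

end K900.SemiOpen
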