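import Groth.Agent.CurvSt.K900.StabOpen
import Groth.Agent.CurvesC.CompGeom

/-!
# Smooth curves have no rational tails and bridges; existence of objects
-/

set_option autoImplicit false
universe u
open CategoryTheory CategoryTheory.Limits AlgebraicGeometry TopologicalSpace

namespace K900.StabRow

open Groth.Agent K902.SchSet K902.SchInst K900.StabOpen CurvSt AlgSp

theorem support_empty {X : Scheme.{u}} [IsNoetherian X] [IrreducibleSpace X] (C : Set X)
    (hC : C ∈ irreducibleComponents (X : Type u)) : ¬ ((CurvesC.CompGeom.IX' X C hC).support : Set X).Nonempty := by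
  have h1 : C = Set.univ := by
    rw [irreducibleComponents_eq_singleton] at hC
    exact hC
  subst h1
  rw [CurvesC.CompGeom.support_IX']
  simp

/-- A scheme family over a field all of whose geometric fibres satisfy `P` gives an object. -/
theorem nonempty_fiber_of {S : Scheme.{u}} {P : FProp.{u}} (hP : SchOpen P) {Ω : Type u} [Field Ω] [IsAlgClosed Ω]
    (t : Spec (CommRingCat.of Ω) ⟶ S) {X : Scheme.{u}} (q : X ⟶ Spec (CommRingCat.of Ω)) (hp : IsProper q)
    (hn : NodConn Ω X q) (h : P Ω X q)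
    (Q : (Curves S 0).obj → Prop)
    (hQ : ∀ A : (Curves S 0).obj, GeomFib (fun Ω _ _ X' q _ => P Ω X' q) A.obj → Q A) :
    Nonempty ((AlgSt.fullSub (Curves S 0) Q).p.Fiber (Over.mk t)) := by
  refine K899.NodalFib.nonempty_fiber (Over.mk t) q hp ((K901.SchPre.isNodalFamily_iff q).2 hn.1) _ fun h' => hQ _ ?_
  exact geomFib_of_field hP (K899.NodalFib.fam (Over.mk t) q) q
    (𝟙 (Spec (CommRingCat.of Ω))) (inferInstanceAs (IsIso (𝟙 (Spec (CommRingCat.of Ω))))) (Category.comp_id _) hp h

/-- A smooth curve of genus `g` over an algebraically closed field. -/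
theorem exists_smooth (g : ℕ) (Ω : Type u) [Field Ω] [IsAlgClosed Ω] :
    ∃ (X : Scheme.{u}) (q : X ⟶ Spec (CommRingCat.of Ω)), IsProper q ∧ NodConn Ω X q ∧ @Curv2.genus Ω _ X ⟨q⟩ = g ∧
      IrreducibleSpace X ∧ IsNoetherian X := by
  obtain ⟨X, q, h1, h2⟩ := K310.ExistsCurve.exists_isCurveOfGenus (k := Ω) g
  have hn := nodConn_of_smooth q h1
  have hp : IsProper q := h1.1
  have hid : IsPullback (𝟙 X) q q (𝟙 _) := IsPullback.of_horiz_isIso ⟨by simp⟩
  have hg : @Curv2.genus Ω _ X ⟨q⟩ = g := (h2.2.2.2 Ω (𝟙 _) X (𝟙 X) q hid).2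
  obtain ⟨-, -, h3, -⟩ := h1
  exact ⟨X, q, hp, hn, hg, inferInstance, CurvesB.NodalFibreH.isNoetherian_of_isProper Ω X q⟩

/-- **Stable objects over algebraically closed fields.** -/
theorem exists_fiber_stable {S : Scheme.{u}} {g : ℕ} (hg : 2 ≤ g) {Ω : Type u} [Field Ω] [IsAlgClosed Ω]
    (t : Spec (CommRingCat.of Ω) ⟶ S) :
    Nonempty ((AlgSt.fullSub (Curves S 0) (fun A => SpIsStable A.obj)).p.Fiber (Over.mk t)) := by
  obtain ⟨X, q, hp, hn, h1, hirr, hN⟩ := exists_smooth g Ω
  refine nonempty_fiber_of schOpen_stable t q hp hn ⟨hn, ?_, fun C hC => ⟨fun h => ?_, fun h => ?_⟩⟩ _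
    fun A hA => (spIsStable_iff A.property).2 hA
  · rw [h1]
    exact hg
  · exact support_empty C hC h.1
  · exact support_empty C hC h.1

end K900.StabRow
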