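import Groth.Agent.CurvSt.K900.SemiOpen
import Groth.Agent.CurvSt.K900.StabRow

/-!
# Semistable curves of a given genus: open loci and existence of objects
-/

set_option autoImplicit false
universe u
open CategoryTheory CategoryTheory.Limits AlgebraicGeometry TopologicalSpace

namespace K900.SemiRow

open Groth.Agent K902.SchSet K902.SchInst K900.StabOpen K900.SemiOpen K900.StabRow CurvSt AlgSp

theorem schOpen_semi_genus (g : ℕ) :
    SchOpen.{u} (fun Ω _ _ X' q => (NodConn Ω X' q ∧ SemiP Ω X' q) ∧ @Curv2.genus Ω _ X' ⟨q⟩ = g) :=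
  schOpen_semi.genus (fun Ω _ _ X q hq h => hOne_nodConn Ω X q hq h.1) g

theorem schOpen_stable_genus (g : ℕ) :
    SchOpen.{u} (fun Ω _ _ X' q => (NodConn Ω X' q ∧ StabP Ω X' q) ∧ @Curv2.genus Ω _ X' ⟨q⟩ = g) :=
  schOpen_stable.genus (fun Ω _ _ X q hq h => hOne_nodConn Ω X q hq h.1) g

variable {S : Scheme.{u}} {n : ℕ}

theorem spIsSemistable_and_genus_iff {A : SpFamObj S n} (hA : IsCurveFam A) (g : ℕ) :
    SpIsSemistable A ∧ SpHasGenus A g ↔
      GeomFib (fun Ω _ _ X' q _ => (NodConn Ω X' q ∧ SemiP Ω X' q) ∧ @Curv2.genus Ω _ X' ⟨q⟩ = g) A := by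
  rw [spIsSemistable_iff hA]
  exact geomFib_and_iff.symm

theorem spIsStable_and_genus_iff {A : SpFamObj S n} (hA : IsCurveFam A) (g : ℕ) :
    SpIsStable A ∧ SpHasGenus A g ↔
      GeomFib (fun Ω _ _ X' q _ => (NodConn Ω X' q ∧ StabP Ω X' q) ∧ @Curv2.genus Ω _ X' ⟨q⟩ = g) A := by
  rw [spIsStable_iff hA]
  exact geomFib_and_iff.symm

/-- Semistable curves of genus `g` form an open substack. -/
theorem hasOpenLocus_semistable_genus (S : Scheme.{u}) (n g : ℕ) :
    K899.OpenCrit.HasOpenLocus (𝒳 := Curves S n) (fun A => SpIsSemistable A.obj ∧ SpHasGenus A.obj g) := by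
  have h : (fun A : (Curves S n).obj => SpIsSemistable A.obj ∧ SpHasGenus A.obj g) =
      fun A => GeomFib (fun Ω _ _ X' q _ => (NodConn Ω X' q ∧ SemiP Ω X' q) ∧ @Curv2.genus Ω _ X' ⟨q⟩ = g) A.obj := by
    funext A
    exact propext (spIsSemistable_and_genus_iff A.property g)
  rw [h]
  exact (schOpen_semi_genus g).hasOpenLocus S n

/-- Stable curves of genus `g` form an open substack. -/
theorem hasOpenLocus_stable_genus (S : Scheme.{u}) (n g : ℕ) :
    K899.OpenCrit.HasOpenLocus (𝒳 := Curves S n) (fun A => SpIsStable A.obj ∧ SpHasGenus A.obj g) := by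
  have h : (fun A : (Curves S n).obj => SpIsStable A.obj ∧ SpHasGenus A.obj g) =
      fun A => GeomFib (fun Ω _ _ X' q _ => (NodConn Ω X' q ∧ StabP Ω X' q) ∧ @Curv2.genus Ω _ X' ⟨q⟩ = g) A.obj := by
    funext A
    exact propext (spIsStable_and_genus_iff A.property g)
  rw [h]
  exact (schOpen_stable_genus g).hasOpenLocus S n

/-- **Semistable objects of genus `g ≥ 1` over algebraically closed fields.** -/
theorem exists_fiber_semistable {g : ℕ} (hg : 1 ≤ g) {Ω : Type u} [Field Ω] [IsAlgClosed Ω]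
    (t : Spec (CommRingCat.of Ω) ⟶ S) (Q : (Curves S 0).obj → Prop)
    (hQ : ∀ A : (Curves S 0).obj, SpIsSemistable A.obj ∧ SpHasGenus A.obj g → Q A) :
    Nonempty ((AlgSt.fullSub (Curves S 0) Q).p.Fiber (Over.mk t)) := by
  obtain ⟨X, q, hp, hn, h1, hirr, hN⟩ := exists_smooth g Ω
  refine nonempty_fiber_of (schOpen_semi_genus g) t q hp hn ⟨⟨hn, ?_, fun C hC h => ?_⟩, h1⟩ _
    fun A hA => hQ A ((spIsSemistable_and_genus_iff A.property g).2 hA)
  · rw [h1]
    exact hg
  · exact support_empty C hC h.1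

/-- **Stable objects of genus `g ≥ 2` over algebraically closed fields.** -/
theorem exists_fiber_stable_genus {g : ℕ} (hg : 2 ≤ g) {Ω : Type u} [Field Ω] [IsAlgClosed Ω]
    (t : Spec (CommRingCat.of Ω) ⟶ S) (Q : (Curves S 0).obj → Prop)
    (hQ : ∀ A : (Curves S 0).obj, SpIsStable A.obj ∧ SpHasGenus A.obj g → Q A) :
    Nonempty ((AlgSt.fullSub (Curves S 0) Q).p.Fiber (Over.mk t)) := by
  obtain ⟨X, q, hp, hn, h1, hirr, hN⟩ := exists_smooth g Ω
  refine nonempty_fiber_of (schOpen_stable_genus g) t q hp hn ⟨⟨hn, ?_, fun C hC => ⟨fun h => ?_, fun h => ?_⟩⟩, h1⟩ _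
    fun A hA => hQ A ((spIsStable_and_genus_iff A.property g).2 hA)
  · rw [h1]
    exact hg
  · exact support_empty C hC h.1
  · exact support_empty C hC h.1

end K900.SemiRow
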