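import Groth.Agent.CurvSt.K900.OpenGlue
import Groth.Agent.CurvSt.K900.FibTail

/-!
# Openness of stability for families of unpointed curves
-/

set_option autoImplicit false
universe u
open CategoryTheory CategoryTheory.Limits AlgebraicGeometry TopologicalSpace

namespace K900.StabOpen

open Groth.Agent K902.SchSet K902.SchInst K900.StabAmple K900.OpenGlue CurvSt

/-- No rational tail and no rational bridge, genus at least two. -/
abbrev StabP : FProp.{u} := fun Ω _ _ X' q => letI : X'.Over (Spec (CommRingCat.of Ω)) := ⟨q⟩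
      2 ≤ Curv2.genus Ω X' ∧
        ∀ (C : Set ↥X') (hC : C ∈ irreducibleComponents (↥X' : Type u)),
          ¬ Curv2.IsRationalTail X' C hC ∧ ¬ Curv2.IsRationalBridge Ω X' C hC

/-- The facts on a connected nodal geometric fibre. -/
theorem facts {Ω : Type u} [Field Ω] [IsAlgClosed Ω] {X : Scheme.{u}} (q : X ⟶ Spec (CommRingCat.of Ω)) [IsProper q]
    (h : NodConn Ω X q) : letI : X.Over (Spec (CommRingCat.of Ω)) := ⟨q⟩
      topologicalKrullDim X = 1 ∧ Module.finrank Ω (Coh.HH X (Coh.structureModule X) 0) = 1 ∧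
        Curv2.AtWorstNodal Ω X ∧ IsReduced X := by
  let _ : X.Over (Spec (CommRingCat.of Ω)) := ⟨q⟩
  have hq : IsProper (X ↘ Spec (CommRingCat.of Ω)) := inferInstanceAs (IsProper q)
  have hlfp : LocallyOfFinitePresentation q := LocallyOfFinitePresentation.iff_locallyOfFiniteType.2 inferInstance
  have hN : IsNoetherian X := CurvesB.NodalFibreH.isNoetherian_of_isProper Ω X q
  have h3 := (K901.SchPre.nodal_field_iff (K := Ω) q).2 ((K901.SchPre.isNodalFamily_iff q).2 h.1)
  have := h.2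
  exact ⟨CurvesB.NodalFibreH.topologicalKrullDim_eq_one_of_components h3.2,
    (hOne_nodConn Ω X q inferInstance h).1, h3.1, CurvesC.GenusOne512.isReduced_of_atWorstNodal Ω X h3.1⟩

theorem isOpen_chi {C T : Scheme.{u}} (f : C ⟶ T) [Flat f] [IsProper f] [LocallyOfFinitePresentation f] (A : Set ℤ) :
    IsOpen {s | PerfAux.eulerChar f (Coh.structureModule C) s ∈ A} := by
  have h1 := PerfB.Semi.isLocallyConstant_euler f (Coh.structureModule C)
    (PerfB.StructFlat.isFP_structure) (PerfB.StructFlat.isFlatOver_structure f)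
  exact h1 A

/-- The set of points over which the fibres are nodal, connected, of genus at least `g`. -/
def GSet {C T : Scheme.{u}} (f : C ⟶ T) (g : ℕ) : Set T :=
  K901.SchPre.ConSet f ∩ {s | PerfAux.eulerChar f (Coh.structureModule C) s ∈ Set.Iic (1 - (g : ℤ))}

theorem isOpen_gSet {C T : Scheme.{u}} (f : C ⟶ T) [Flat f] [IsProper f] [LocallyOfFinitePresentation f] (g : ℕ) :
    IsOpen (GSet f g) := (K901.SchPre.isOpen_conSet f).inter (isOpen_chi f _)

theorem gSet_iff {C T : Scheme.{u}} (f : C ⟶ T) [Flat f] [IsProper f] [LocallyOfFinitePresentation f] (g : ℕ)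
    {Ω : Type u} [Field Ω] [IsAlgClosed Ω] {t : Spec (CommRingCat.of Ω) ⟶ T}
    {X' : Scheme.{u}} {i : X' ⟶ C} {q : X' ⟶ Spec (CommRingCat.of Ω)} (hP : IsPullback i q f t) :
    (NodConn Ω X' q ∧ g ≤ @Curv2.genus Ω _ X' ⟨q⟩) ↔ t.base (IsLocalRing.closedPoint Ω) ∈ GSet f g := by
  constructor
  · rintro ⟨h1, h2⟩
    refine ⟨(K901.SchPre.conSet_iff f hP).1 h1, ?_⟩
    change PerfAux.eulerChar f _ _ ≤ _
    rw [K901.SchPre.eulerChar_eq f hP h1.1 h1.2]
    omega
  · rintro ⟨h1, h2⟩
    have h3 := (K901.SchPre.conSet_iff f hP).2 h1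
    change PerfAux.eulerChar f _ _ ≤ _ at h2
    rw [K901.SchPre.eulerChar_eq f hP h3.1 h3.2] at h2
    exact ⟨h3, by omega⟩

/-- The case of a family with connected nodal fibres of genus at least two over an affine base. -/
theorem openFor_affine {C T : Scheme.{u}} [IsAffine T] (f : C ⟶ T) [Flat f] [IsProper f] [LocallyOfFinitePresentation f]
    (h : ∀ s, s ∈ GSet f 2) : OpenFor (fun Ω _ _ X' q => NodConn Ω X' q ∧ StabP Ω X' q) f := by
  have hf : Curv2.IsNodalFamily f := (K901.SchPre.isNodalFamily_iff f).2 fun x => (h (f x)).1.1 x rfl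
  obtain ⟨w, hw⟩ := exists_goodDual f hf
  refine ⟨_, K333.StableOpen.isOpen_ample f hw.inv, fun Ω _ _ t X' i q sq => ?_⟩
  have hq : IsProper q := MorphismProperty.of_isPullback sq inferInstance
  obtain ⟨h1, h2⟩ := (gSet_iff f 2 sq).2 (h _)
  obtain ⟨a1, a2, a3, a4⟩ := facts q h1
  let _ : X'.Over (Spec (CommRingCat.of Ω)) := ⟨q⟩
  have hq' : IsProper (X' ↘ (Spec (CommRingCat.of Ω))) := hq
  obtain ⟨tr, htr⟩ := hw.pair Ω t X' i q sq a1
  have key := FibTail.isAmple_iff Ω X' a1 a2 a3 h2 (Fdesc.LocGen.isInvertible_pullback i hw.inv) htr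
  change _ ↔ CohB1.IsAmple ((Scheme.Modules.pullback (f.fiberι (t.base (IsLocalRing.closedPoint Ω)))).obj w)
  rw [← K333.StableOpen.isAmple_iff_fibre f hw.inv sq, ← key]
  exact ⟨fun h5 => h5.2.2, fun h5 => ⟨h1, h2, h5⟩⟩

/-- **Stability is an open condition.** -/
theorem schOpen_stable : SchOpen.{u} (fun Ω _ _ X' q => NodConn Ω X' q ∧ StabP Ω X' q) := by
  intro C T f _ _ _
  refine openFor_of_etale f (GSet f 2) (fun Ω _ _ t X' i q sq hP => (gSet_iff f 2 sq).1 ⟨hP.1, hP.2.1⟩) fun s hs => ?_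
  obtain ⟨V, hV, hsV, hVP⟩ := exists_isAffineOpen_mem_and_subset (x := s)
    (U := ⟨GSet f 2, isOpen_gSet f 2⟩) hs
  have hV' : IsAffine V := hV
  have sq : IsPullback (f ⁻¹ᵁ V).ι (f ∣_ V) f V.ι := (isPullback_morphismRestrict f V).flip
  have i1 : Flat (f ∣_ V) := MorphismProperty.of_isPullback sq inferInstance
  have i2 : IsProper (f ∣_ V) := MorphismProperty.of_isPullback sq inferInstance
  have i3 : LocallyOfFinitePresentation (f ∣_ V) := MorphismProperty.of_isPullback sq inferInstance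
  refine ⟨V, V.ι, ⟨s, hsV⟩, inferInstance, rfl, _, _, _, sq, openFor_affine (f ∣_ V) fun v => ?_⟩
  obtain ⟨Ω, _, _, t, rfl⟩ := K901.GeomLoc.exists_geomPt v
  have sq1 := IsPullback.of_hasPullback (f ∣_ V) t
  exact (gSet_iff (f ∣_ V) 2 sq1).1 ((gSet_iff f 2 (sq1.paste_horiz sq)).2 (hVP (t.base _).2))

section Fam

variable {S : Scheme.{u}} {n : ℕ}

theorem spIsStable_iff {A : SpFamObj S n} (hA : IsCurveFam A) :
    SpIsStable A ↔ GeomFib (fun Ω _ _ X' q _ => NodConn Ω X' q ∧ StabP Ω X' q) A := by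
  rw [SpIsStable, spIsPrestable_iff hA]
  exact geomFib_and_iff.symm

/-- **The stable locus is open in the stack of curves.** -/
theorem hasOpenLocus_stable (S : Scheme.{u}) (n : ℕ) :
    K899.OpenCrit.HasOpenLocus (𝒳 := Curves S n) (fun A => SpIsStable A.obj) := by
  have h : (fun A : (Curves S n).obj => SpIsStable A.obj) =
      fun A => GeomFib (fun Ω _ _ X' q _ => NodConn Ω X' q ∧ StabP Ω X' q) A.obj := by
    funext A
    exact propext (spIsStable_iff A.property)
  rw [h]
  exact schOpen_stable.hasOpenLocus S n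

end Fam

end K900.StabOpen
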