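import Groth.Agent.CurvSt.K900.SemiRow
import Groth.Agent.CurvSt.K896.CompMeet
import Groth.Prelude.Def_VecSt

/-!
# Semistable curves in the sense of `VecSt`: comparison and openness
-/

set_option autoImplicit false
universe u
open CategoryTheory CategoryTheory.Limits AlgebraicGeometry TopologicalSpace

namespace K900.VecSemi

open Groth.Agent Groth.Agent.CurvesC K902.SchSet K902.SchInst K900.StabOpen K900.SemiOpen

theorem encard_meetPts {k : Type u} [Field k] {X : Scheme.{u}} [X.Over (Spec (CommRingCat.of k))]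
    [IsProper (X ↘ (Spec (CommRingCat.of k)))] (hdim : topologicalKrullDim X ≤ 1) {C : Set X}
    (hC : C ∈ irreducibleComponents (X : Type u)) :
    (CurvSt.meetPts X C).encard = ((C ∩ closure Cᶜ).ncard : ℕ∞) := by
  have hN : IsNoetherian X := CurveCoh.noetherianSpace k X
  rw [K896.CompMeet.meetPts_eq hC]
  exact ((TailGeom.finite_inter hdim hC).1.cast_ncard_eq).symm

/-- **Semistability in the sense of `VecSt`** is semistability in the sense of `CurvSt`, in positive genus. -/
theorem isSemistablePtd_iff {g : ℕ} (hg : 1 ≤ g) {Ω : Type u} [Field Ω] [IsAlgClosed Ω] {X : Scheme.{u}}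
    (q : X ⟶ Spec (CommRingCat.of Ω)) [IsProper q] :
    VecSt.IsSemistablePtd Ω X q g ↔ (NodConn Ω X q ∧ SemiP Ω X q) ∧ @Curv2.genus Ω _ X ⟨q⟩ = g := by
  let _ : X.Over (Spec (CommRingCat.of Ω)) := ⟨q⟩
  have hq' : IsProper (X ↘ (Spec (CommRingCat.of Ω))) := inferInstanceAs (IsProper q)
  have hlfp : LocallyOfFinitePresentation q := LocallyOfFinitePresentation.iff_locallyOfFiniteType.2 inferInstance
  have hN : IsNoetherian X := CurvesB.NodalFibreH.isNoetherian_of_isProper Ω X q
  constructor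
  · rintro ⟨-, hconn, hdim, ⟨hnod, hgen⟩, hmeet⟩
    have hnod' : Curv2.AtWorstNodal Ω X := hnod
    have hr : IsReduced X := GenusOne512.isReduced_of_atWorstNodal Ω X hnod'
    have hpure := TailMain.pure_of_connected X hdim
    refine ⟨⟨⟨(K901.SchPre.isNodalFamily_iff q).1 ((K901.SchPre.nodal_field_iff q).1 ⟨hnod', hpure⟩), hconn⟩, ?_,
      fun C hC hT => ?_⟩, hgen⟩
    · exact hg.trans_eq hgen.symm
    · have h1 := K896.TailBridge.isSmRatComp_of_h1 Ω X C hC (hpure C hC) hT.2.2.2.2.2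
      have h2 := hmeet C h1
      rw [encard_meetPts (k := Ω) hdim.le hC, K896.TailBridge.ncard_of_isRationalTail Ω X C hC hdim hnod' hT] at h2
      exact absurd h2 (by norm_num)
  · rintro ⟨⟨h1, h2, h3⟩, h4⟩
    obtain ⟨a1, a2, a3, a4⟩ := facts q h1
    have hconn : ConnectedSpace X := h1.2
    refine ⟨inferInstance, h1.2, a1, ⟨a3, h4⟩, fun E hE => ?_⟩
    rw [encard_meetPts (k := Ω) a1.le hE.1]
    have h5 := K896.TailBridge.h1_of_isSmRatComp Ω X E hE
    have h6 := SemiField.genus_comp_zero Ω X E hE.1 h5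
    have hne : E ≠ Set.univ := by
      intro hU
      have h7 := NodalPos2.finrank_quot_univ Ω X E hE.1 hU 1
      have h8 := TailNum.finrank_quotMod Ω X (TailGeom.compIdeal E hE.1) 1
      have h9 : Curv2.genus Ω X = @Curv2.genus Ω _ (TailGeom.compIdeal E hE.1).subscheme
          (TailNum.subOver Ω X (TailGeom.compIdeal E hE.1)) := (h8.trans h7).symm
      rw [h6] at h9
      change 1 ≤ Curv2.genus Ω X at h2
      omega
    have hfin := (TailGeom.finite_inter a1.le hE.1).1
    have h10 := SemiField.ncard_pos Ω X E hE.1 hne hfin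
    have h11 : (E ∩ closure Eᶜ).ncard ≠ 1 := fun h =>
      h3 E hE.1 (K896.TailBridge.isRationalTail_of_ncard Ω X E a1 a3 hE hne h)
    have h12 : 2 ≤ (E ∩ closure Eᶜ).ncard := by omega
    exact_mod_cast h12

/-- Openness of semistability of genus `g ≥ 1` for scheme families. -/
theorem schOpen_isSemistablePtd {g : ℕ} (hg : 1 ≤ g) :
    SchOpen.{u} (fun Ω _ _ X' q => VecSt.IsSemistablePtd Ω X' q g) := by
  intro C T f _ _ _
  obtain ⟨U, hU, h⟩ := SemiRow.schOpen_semi_genus g C T f
  refine ⟨U, hU, fun Ω _ _ t X' i q sq => ?_⟩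
  have hq : IsProper q := MorphismProperty.of_isPullback sq inferInstance
  exact (isSemistablePtd_iff hg q).trans (h Ω t X' i q sq)

/-- **The locus of semistable fibres of a flat proper family is open.** -/
theorem exists_open {C T : Scheme.{u}} (f : C ⟶ T) [Flat f] [IsProper f] [LocallyOfFinitePresentation f] {g : ℕ}
    (hg : 1 ≤ g) {Ω : Type u} [Field Ω] [IsAlgClosed Ω] (t : Spec (CommRingCat.of Ω) ⟶ T) {X : Scheme.{u}} {a : X ⟶ C}
    {q : X ⟶ Spec (CommRingCat.of Ω)} (sq : IsPullback a q f t) (h : VecSt.IsSemistablePtd Ω X q g) :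
    ∃ U : T.Opens, t (IsLocalRing.closedPoint Ω) ∈ U ∧ VecSt.IsSemistableFam (f ∣_ U) g := by
  obtain ⟨U, hU, hU'⟩ := schOpen_isSemistablePtd hg C T f
  let V : T.Opens := ⟨U, hU⟩
  have sqV : IsPullback (f ⁻¹ᵁ V).ι (f ∣_ V) f V.ι := (isPullback_morphismRestrict f V).flip
  refine ⟨V, (hU' Ω t X a q sq).1 h, MorphismProperty.of_isPullback sqV inferInstance,
    MorphismProperty.of_isPullback sqV inferInstance, fun Ω' _ _ t' Xt i qt sq' => ?_⟩
  exact (hU' Ω' _ Xt _ qt (sq'.paste_horiz sqV)).2 (t'.base _).2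

end K900.VecSemi
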